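/-
CA-groups (S4369): vocabulary.
-/
import Cfsg.Agent.Lib.Core.Basic

set_option autoImplicit false

namespace Cfsg.Agent.Lib.CA

open Subgroup

variable {G : Type*} [Group G]

/-- `H` is a CA-group: centralisers in `H` of non-central elements are abelian -/
def CA (H : Subgroup G) : Prop :=
  ∀ x ∈ H, ∀ a ∈ H, ∀ b ∈ H, x * a = a * x → x * b = b * x → a * b = b * a ∨ ∀ g ∈ H, x * g = g * x

/-- non-solvable minimal non-CA-group -/
structure MN (G : Type*) [Group G] : Prop where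
  nsolv : ¬ Group.IsSolvable G
  nca : ¬ CA (⊤ : Subgroup G)
  prop : ∀ H : Subgroup G, H ≠ ⊤ → CA H

theorem CA.mono {H K : Subgroup G} (h : CA K) (hHK : H ≤ K) : CA H := fun x hx a ha b hb h1 h2 =>
  (h x (hHK hx) a (hHK ha) b (hHK hb) h1 h2).imp_right fun e g hg => e g (hHK hg)

theorem ca_top_iff : CA (⊤ : Subgroup G) ↔
    ∀ x : G, x ∉ center G → IsMulCommutative (centralizer ({x} : Set G)) := by
  refine ⟨fun h x hx => ⟨⟨fun a b => Subtype.ext ?_⟩⟩, fun h x _ a _ b _ h1 h2 => ?_⟩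
  · exact (h x trivial a trivial b trivial (mem_centralizer_singleton_iff.1 a.2).symm
      (mem_centralizer_singleton_iff.1 b.2).symm).resolve_right fun e =>
        hx (mem_center_iff.2 fun g => (e g trivial).symm)
  · by_cases hx : x ∈ center G
    · exact Or.inr fun g _ => (mem_center_iff.1 hx g).symm
    · exact Or.inl (congrArg Subtype.val ((h x hx).is_comm.comm
        ⟨a, mem_centralizer_singleton_iff.2 h1.symm⟩ ⟨b, mem_centralizer_singleton_iff.2 h2.symm⟩))

theorem ca_map_iff {X : Type*} [Group X] (f : G →* X) (hf : Function.Injective f) {H : Subgroup G} :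
    CA (H.map f) ↔ CA H := by
  have c : ∀ a b : G, f a * f b = f b * f a ↔ a * b = b * a := fun a b => by
    rw [← map_mul, ← map_mul, hf.eq_iff]
  refine ⟨fun h x hx a ha b hb h1 h2 => ?_, ?_⟩
  · exact (h _ (mem_map_of_mem f hx) _ (mem_map_of_mem f ha) _ (mem_map_of_mem f hb) ((c _ _).2 h1)
      ((c _ _).2 h2)).imp (c _ _).1 fun e g hg => (c _ _).1 (e _ (mem_map_of_mem f hg))
  · rintro h _ ⟨x, hx, rfl⟩ _ ⟨a, ha, rfl⟩ _ ⟨b, hb, rfl⟩ h1 h2
    refine (h x hx a ha b hb ((c _ _).1 h1) ((c _ _).1 h2)).imp (c _ _).2 ?_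
    rintro e _ ⟨g, hg, rfl⟩
    exact (c _ _).2 (e g hg)

theorem ca_top_subtype {H : Subgroup G} : CA (⊤ : Subgroup H) ↔ CA H := by
  rw [← ca_map_iff H.subtype (subtype_injective H), ← MonoidHom.range_eq_map, range_subtype]

theorem ca_iff {H : Subgroup G} :
    CA H ↔ ∀ x : H, x ∉ center H → IsMulCommutative (centralizer ({x} : Set H)) :=
  ca_top_subtype.symm.trans ca_top_iff

/-- the left side of S4369 -/
theorem mn_iff : MN G ↔ (¬ Group.IsSolvable G ∧
    ¬ (∀ x : G, x ∉ center G → IsMulCommutative (centralizer ({x} : Set G))) ∧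
    ∀ H : Subgroup G, H ≠ ⊤ →
      (∀ x : H, x ∉ center H → IsMulCommutative (centralizer ({x} : Set H)))) :=
  ⟨fun h => ⟨h.nsolv, fun e => h.nca (ca_top_iff.2 e), fun H hH => ca_iff.1 (h.prop H hH)⟩,
    fun h => ⟨h.1, fun e => h.2.1 (ca_top_iff.1 e), fun H hH => ca_iff.2 (h.2.2 H hH)⟩⟩

theorem MN.of_equiv {X : Type*} [Group X] (h : MN G) (e : G ≃* X) : MN X where
  nsolv := fun _ => h.nsolv (Group.isSolvable_of_isSolvable_injective (f := e.toMonoidHom) e.injective)
  nca := fun c => h.nca ((ca_map_iff e.toMonoidHom e.injective).1 (c.mono le_top))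
  prop := fun H hH => (ca_map_iff e.symm.toMonoidHom e.symm.injective).1 (h.prop _ fun c => hH (by
    rw [eq_top_iff]
    intro x _
    obtain ⟨y, hy, e1⟩ := c.ge (mem_top (e.symm x))
    exact e.symm.injective e1 ▸ hy))

end Cfsg.Agent.Lib.CA
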