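/-
CA-groups (S4369): vocabulary of the hard direction.
-/
import Cfsg.Agent.Lib.CA.Defs
import Cfsg.Agent.Lib.AG.Defs

set_option autoImplicit false

namespace Cfsg.Agent.Lib.CA

open Subgroup

variable {G X : Type*} [Group G] [Group X]

/-- non-central element with a non-abelian centraliser -/
def Bad (x : G) : Prop := x ∉ center G ∧ ∃ a b : G, x * a = a * x ∧ x * b = b * x ∧ a * b ≠ b * a

/-- no bad 2-element -/
def NB2 (G : Type*) [Group G] : Prop := ∀ (x : G) (n : ℕ), x ^ 2 ^ n = 1 → ¬ Bad x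

/-- no non-trivial solvable normal subgroup -/
def Rad1 (X : Type*) [Group X] : Prop := ∀ N : Subgroup X, N.Normal → Group.IsSolvable N → N = ⊥

/-- all 2-subgroups are abelian -/
def Ab2 (G : Type*) [Group G] : Prop :=
  ∀ P : Subgroup G, IsPGroup 2 P → ∀ x ∈ P, ∀ y ∈ P, x * y = y * x

/-- centralisers of involutions are abelian -/
def CI (X : Type*) [Group X] : Prop :=
  ∀ t a b : X, t * t = 1 → t ≠ 1 → t * a = a * t → t * b = b * t → a * b = b * a

/-- `π : G → X = G / Z(G)` -/
structure MQ (π : G →* X) : Prop extends MN G where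
  surj : Function.Surjective π
  ker : π.ker = center G
  rad : Rad1 X

/-- `C(t) = T ∪ T s` generalised dihedral, `t` the only involution of `T`, one class of involutions -/
structure GD (t s : X) (T : Subgroup X) : Prop where
  perf : commutator X = ⊤
  tt : t * t = 1
  t1 : t ≠ 1
  ss : s * s = 1
  tT : t ∈ T
  sT : s ∉ T
  Tinv : ∀ g ∈ T, s * g * s = g⁻¹
  invT : ∀ g ∈ T, g * g = 1 → g = 1 ∨ g = t
  cent : ∀ g : X, t * g = g * t → g ∈ T ∨ g * s ∈ T
  ti : ∀ x ∈ T, x ≠ 1 → ∀ g : X, x * g = g * x → t * g = g * t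
  conj : ∀ j : X, j * j = 1 → j ≠ 1 → ∃ g : X, g⁻¹ * j * g = t

end Cfsg.Agent.Lib.CA
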