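/-
CA-groups (S4369), piece B: bad elements and the solvable radical.
-/
import Cfsg.Agent.Lib.CA.Def2
import Cfsg.Agent.Lib.AG.K4

set_option autoImplicit false

namespace Cfsg.Agent.Lib.CA

open Subgroup Cfsg.Agent.Lib.Core Cfsg.Agent.Lib.AG

variable {G X : Type*} [Group G] [Group X] {π : G →* X}

theorem solv_comm {H : Subgroup G} (h : ∀ a ∈ H, ∀ b ∈ H, a * b = b * a) : Group.IsSolvable H :=
  Group.isSolvable_of_comm fun a b => Subtype.ext (h a a.2 b b.2)

theorem solv_zpowers (g : G) : Group.IsSolvable (zpowers g) := solv_comm fun _ ⟨i, hi⟩ _ ⟨j, hj⟩ => by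
  rw [← hi, ← hj]; exact (Commute.zpow_zpow_self g i j).eq

theorem MN.exists_bad (h : MN G) : ∃ x : G, Bad x := by
  by_contra! c
  refine h.nca fun x _ a _ b _ h1 h2 => by_contra fun n => c x ⟨fun e => ?_, a, b, h1, h2, (not_or.1 n).1⟩
  exact (not_or.1 n).2 fun g _ => (mem_center_iff.1 e g).symm

theorem MN.le_cent (h : MN G) {x a b : G} {H : Subgroup G} (hH : H ≠ ⊤) (hx : x ∈ H) (ha : a ∈ H)
    (hb : b ∈ H) (xa : x * a = a * x) (xb : x * b = b * x) (ab : a * b ≠ b * a) :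
    H ≤ centralizer {x} :=
  fun g hg => mem_C.2 ((h.prop H hH x hx a ha b hb xa xb).resolve_left ab g hg)

theorem cent_ne_top {x : G} (hx : x ∉ center G) : centralizer ({x} : Set G) ≠ ⊤ := fun e =>
  hx (mem_center_iff.2 fun g => (mem_C.1 (e.ge (mem_top g))).symm)

theorem MN.coatom (h : MN G) {x : G} (hx : Bad x) : IsCoatom (centralizer ({x} : Set G)) := by
  obtain ⟨x1, a, b, xa, xb, ab⟩ := hx
  exact ⟨cent_ne_top x1, fun H hH => by_contra fun n => hH.not_ge (h.le_cent n (hH.le (mem_C.2 rfl))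
    (hH.le (mem_C.2 xa)) (hH.le (mem_C.2 xb)) xa xb ab)⟩

theorem MN.ne_top (h : MN G) {H : Subgroup G} (hH : Group.IsSolvable H) : H ≠ ⊤ := fun e =>
  h.nsolv (isSolvable_of_equiv (e ▸ hH) topEquiv)

variable [Finite G]

theorem solv_of_odd_index {N M : Subgroup G} (hN : Group.IsSolvable N) (NM : N ≤ M)
    (hn : M ≤ normalizer (N : Set G)) (ho : ¬ 2 ∣ N.relIndex M) : Group.IsSolvable M := by
  have := normal_subgroupOf_of_le_normalizer hn
  rw [Group.isSolvable_iff_subgroup_quotient (N.subgroupOf M)]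
  exact ⟨isSolvable_of_equiv hN (subgroupOfEquivOfLe NM).symm,
    FT.feit_thompson _ (Nat.odd_iff.mpr (by change N.relIndex M % 2 = 1; omega))⟩

theorem solv_of_burn {S M : Subgroup G} (hS : IsSyl 2 S M)
    (h : ∀ a ∈ M ⊓ normalizer (S : Set G), ∀ b ∈ M ⊓ normalizer (S : Set G), a * b = b * a) :
    Group.IsSolvable M :=
  solv_of_sup (isSolvable_of_isPGroup hS.isPGroup) hS.le (burnside_sup hS fun a ha =>
    mem_centralizer_iff.2 fun s hs => h s ⟨hS.le hs, le_normalizer hs⟩ a ha)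

theorem MN.norm (h : MN G) {x : G} (hx : Bad x) :
    normalizer (centralizer ({x} : Set G) : Set G) = centralizer {x} := by
  have c := h.coatom hx
  refine (c.le_iff.1 le_normalizer).resolve_left fun e => ?_
  set M := centralizer ({x} : Set G) with hM
  obtain ⟨S, hS⟩ := exists_isSyl (p := 2) M
  have sM : Group.IsSolvable M := by
    by_cases n : normalizer (S : Set G) = ⊤
    · exact solv_of_odd_index (isSolvable_of_isPGroup hS.isPGroup) hS.le (n ▸ le_top) hS.not_dvd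
    refine solv_of_burn hS fun a ha b hb => by_contra fun ab => c.1 ?_
    have := h.le_cent n (x := x) (centralizer_le_normalizer _ (mem_centralizer_iff.2 fun s hs =>
      (mem_C.1 (hS.le hs)).symm)) ha.2 hb.2 (mem_C.1 ha.1) (mem_C.1 hb.1) ab
    rw [← hS.frattini_sup le_top e.ge, top_inf_eq, sup_eq_left.2 this]
  obtain ⟨g, -, hg⟩ := SetLike.exists_of_lt c.lt_top
  exact h.ne_top (isSolvable_sup (solv_zpowers g) sM (le_top.trans e.ge))
    (c.2 _ (lt_of_le_of_ne le_sup_right fun e => hg (e ▸ mem_sup_left (mem_zpowers g))))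

/-- solvable normal subgroups centralise bad elements -/
theorem MN.le_of_solv (h : MN G) {x : G} (hx : Bad x) {A : Subgroup G} [A.Normal]
    (hA : Group.IsSolvable A) : A ≤ centralizer {x} := by
  by_contra n
  have c := h.coatom hx
  set M := centralizer ({x} : Set G) with hM
  have xM : M ≤ normalizer ((zpowers x : Subgroup G) : Set G) :=
    le_normalizer_of_le_centralizer (centralizer_zpowers x).ge
  have nW : M ≤ normalizer (((A ⊓ M) ⊔ zpowers x : Subgroup G) : Set G) :=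
    le_normalizer_sup (le_normalizer_inf le_normalizer_of_normal le_normalizer) xM
  have WM : (A ⊓ M) ⊔ zpowers x ≤ M := sup_le inf_le_right (zpowers_le_of_mem (mem_C.2 rfl))
  obtain ⟨S, hS⟩ := exists_isSyl (p := 2) M
  have sM : Group.IsSolvable M := by
    have sW : Group.IsSolvable ↥(S ⊔ ((A ⊓ M) ⊔ zpowers x)) :=
      isSolvable_sup (isSolvable_of_isPGroup hS.isPGroup) (isSolvable_sup
        (isSolvable_of_le hA inf_le_left) (solv_zpowers x) (inf_le_right.trans xM)) (hS.le.trans nW)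
    set W := S ⊔ ((A ⊓ M) ⊔ zpowers x)
    by_cases e : M ≤ normalizer (W : Set G)
    · exact solv_of_odd_index sW (sup_le hS.le WM) e (hS.not_dvd_relIndex le_sup_left)
    have l : M ⊓ normalizer (S : Set G) ≤ M ⊓ normalizer (W : Set G) :=
      le_inf inf_le_left (le_normalizer_sup inf_le_right (inf_le_left.trans nW))
    have l2 : (A ⊓ M) ⊔ zpowers x ≤ M ⊓ normalizer (W : Set G) :=
      le_inf WM (le_normalizer_of_le le_sup_right)
    refine solv_of_burn hS fun a ha b hb => by_contra fun ab => n (le_sup_left.trans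
      (h.le_cent (H := A ⊔ (M ⊓ normalizer (W : Set G))) (fun e' => e fun m hm => ?_)
        (mem_sup_right (l2 (mem_sup_right (mem_zpowers x)))) (mem_sup_right (l ha))
        (mem_sup_right (l hb)) (mem_C.1 ha.1) (mem_C.1 hb.1) ab))
    obtain ⟨y, hy, z, hz, rfl⟩ := (mem_sup_of_le_normalizer_left le_normalizer_of_normal).1
      (e'.ge (mem_top m))
    exact mul_mem (l2 (mem_sup_left ⟨hy, (M.mul_mem_cancel_right hz.1).1 hm⟩)).2 hz.2
  exact h.ne_top (isSolvable_sup sM hA le_normalizer_of_normal)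
    (c.2 _ (lt_of_le_of_ne le_sup_left fun e => n (le_sup_right.trans e.ge)))

theorem MN.cent_comm (h : MN G) {A : Subgroup G} [A.Normal] (hA : Group.IsSolvable A)
    (hZ : ¬ A ≤ center G) {a b : G} (ha : a ∈ centralizer (A : Set G))
    (hb : b ∈ centralizer (A : Set G)) : a * b = b * a := by
  by_contra ab
  obtain ⟨y, hy, y1⟩ := SetLike.not_le_iff_exists.1 hZ
  have bad : Bad y := ⟨y1, a, b, mem_centralizer_iff.1 ha y hy, mem_centralizer_iff.1 hb y hy, ab⟩
  have l : centralizer (A : Set G) ≤ centralizer {y} := fun g hg => mem_C.2 (mem_centralizer_iff.1 hg y hy)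
  have e : centralizer {y} = centralizer (A : Set G) := le_antisymm (fun g hg =>
    mem_centralizer_iff.2 fun z hz => mem_C.1 (h.le_cent (cent_ne_top y1) (h.le_of_solv bad hA hz)
      (l ha) (l hb) (mem_centralizer_iff.1 ha z hz) (mem_centralizer_iff.1 hb z hz) ab hg)) l
  have := h.norm bad
  rw [e, normalizer_eq_top] at this
  exact cent_ne_top y1 (e.trans this.symm)

omit [Finite G] in
theorem solv_comap {V : Subgroup G} [V.Normal] (sV : Group.IsSolvable V) {K : Subgroup (G ⧸ V)}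
    (hK : Group.IsSolvable K) : Group.IsSolvable (K.comap (QuotientGroup.mk' V)) :=
  isSolvable_of_map _ (isSolvable_of_le hK (map_comap_le _ _))
    (isSolvable_of_le sV (inf_le_left.trans (QuotientGroup.ker_mk' V).le))

theorem solv_dih {a b : G} (aa : a * a = 1) (bb : b * b = 1) :
    ∃ H : Subgroup G, Group.IsSolvable H ∧ a ∈ H ∧ b ∈ H := by
  have ai : a⁻¹ = a := inv_eq_of_mul_eq_one_right aa
  refine ⟨_, isSolvable_sup (solv_zpowers a) (solv_zpowers (a * b))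
    (zpowers_le_of_mem (mem_normalizer_of_conj_mem fun _ ⟨i, hi⟩ => ⟨-i, ?_⟩)),
    mem_sup_left (mem_zpowers a), ?_⟩
  · rw [← hi, ← conj_zpow, ai, ← mul_assoc, aa, one_mul]
    change _ ^ (-i) = _
    rw [zpow_neg, ← inv_zpow, mul_inv_rev, ai, inv_eq_of_mul_eq_one_right bb]
  · have := mul_mem (mem_sup_left (mem_zpowers a)) (mem_sup_right (S := zpowers a) (mem_zpowers (a * b)))
    rwa [← mul_assoc, aa, one_mul] at this

/-- the stabiliser of the chain `V ≥ Z ≥ 1` -/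
def Stab (V Z : Subgroup G) [nV : V.Normal] : Subgroup G where
  carrier := {n | (∀ z ∈ Z, n * z = z * n) ∧ ∀ v ∈ V, n * v * n⁻¹ * v⁻¹ ∈ Z}
  one_mem' := ⟨by simp, fun v _ => by simp⟩
  mul_mem' := fun {a b} ha hb => ⟨fun z hz => by
    rw [mul_assoc, hb.1 z hz, ← mul_assoc, ha.1 z hz, mul_assoc], fun v hv => by
    have := mul_mem (ha.2 _ (nV.conj_mem v hv b)) (hb.2 v hv)
    rwa [show a * (b * v * b⁻¹) * a⁻¹ * (b * v * b⁻¹)⁻¹ * (b * v * b⁻¹ * v⁻¹) =
      a * b * v * (a * b)⁻¹ * v⁻¹ by group] at this⟩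
  inv_mem' := fun {a} ha => ⟨fun z hz => (Commute.inv_left (ha.1 z hz)).eq, fun v hv => by
    have := inv_mem (ha.2 _ (nV.conj_mem v hv a⁻¹))
    rwa [show (a * (a⁻¹ * v * a⁻¹⁻¹) * a⁻¹ * (a⁻¹ * v * a⁻¹⁻¹)⁻¹)⁻¹ = a⁻¹ * v * a⁻¹⁻¹ * v⁻¹ by group]
      at this⟩

omit [Finite G] in
theorem Stab.normal (V Z : Subgroup G) [nV : V.Normal] [nZ : Z.Normal] : (Stab V Z).Normal :=
  ⟨fun n hn g => ⟨fun z hz => by
    calc g * n * g⁻¹ * z = g * (n * (g⁻¹ * z * g⁻¹⁻¹)) * g⁻¹ := by group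
      _ = z * (g * n * g⁻¹) := by rw [hn.1 _ (nZ.conj_mem z hz g⁻¹)]; group, fun v hv => by
    have := nZ.conj_mem _ (hn.2 _ (nV.conj_mem v hv g⁻¹)) g
    rwa [show g * (n * (g⁻¹ * v * g⁻¹⁻¹) * n⁻¹ * (g⁻¹ * v * g⁻¹⁻¹)⁻¹) * g⁻¹ =
      g * n * g⁻¹ * v * (g * n * g⁻¹)⁻¹ * v⁻¹ by group] at this⟩⟩

omit [Finite G] in
theorem Stab.comm {V Z : Subgroup G} [nV : V.Normal] (cZ : ∀ a ∈ Z, ∀ b ∈ Z, a * b = b * a) {a b v : G}
    (ha : a ∈ Stab V Z) (hb : b ∈ Stab V Z) (hv : v ∈ V) :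
    a * b * (b * a)⁻¹ * v = v * (a * b * (b * a)⁻¹) := by
  have key : ∀ a ∈ Stab V Z, ∀ b ∈ Stab V Z, ∀ v ∈ V, a * b * v * (a * b)⁻¹ =
      (b * v * b⁻¹ * v⁻¹) * (a * v * a⁻¹ * v⁻¹) * v := fun a ha b hb v hv => by
    calc a * b * v * (a * b)⁻¹ = a * (b * v * b⁻¹ * v⁻¹) * (v * a⁻¹) := by group
      _ = _ := by rw [ha.1 _ (hb.2 v hv)]; group
  have hv' := nV.conj_mem v hv (b * a)⁻¹
  have k1 := key a ha b hb _ hv'
  rw [cZ _ (hb.2 _ hv') _ (ha.2 _ hv'), ← key b hb a ha _ hv'] at k1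
  calc a * b * (b * a)⁻¹ * v =
      a * b * ((b * a)⁻¹ * v * (b * a)⁻¹⁻¹) * (a * b)⁻¹ * (a * b * (b * a)⁻¹) := by group
    _ = v * (a * b * (b * a)⁻¹) := by rw [k1]; group

theorem MN.aux (h : MN G) {x : G} (hx : Bad x) {V : Subgroup G} [nV : V.Normal] (xV : x ∈ V)
    (cV : ∀ a ∈ V, ∀ b ∈ V, a * b = b * a) (sc : ∀ g, g ∉ V → ∃ c ∈ V, g * c ≠ c * g) : False := by
  have sV := solv_comm cV
  have rad : ∀ R : Subgroup G, R.Normal → Group.IsSolvable R → V ≤ R → R ≤ V := fun R _ hR VR g hg => by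
    by_contra n
    obtain ⟨c, hc, gc⟩ := sc g n
    refine hx.1 (mem_center_iff.2 fun y => (mem_C.1 (h.le_cent (h.ne_top (isSolvable_sup
      (solv_zpowers y) hR le_normalizer_of_normal)) (mem_sup_right (VR xV)) (mem_sup_right hg)
      (mem_sup_right (VR hc)) (mem_C.1 (h.le_of_solv hx hR hg)) (cV x xV c hc) gc
      (mem_sup_left (mem_zpowers y)))).symm)
  have fV : ∀ {g}, QuotientGroup.mk' V g = 1 ↔ g ∈ V := QuotientGroup.eq_one_iff _
  obtain ⟨u, hu⟩ := exists_prime_orderOf_dvd_card' (G := G ⧸ V) 2 (by_contra fun e => h.ne_top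
    (solv_comap sV (K := ⊤) (solv_of_odd (by rwa [card_top]))) (comap_top _))
  obtain ⟨t, rfl⟩ := QuotientGroup.mk'_surjective V u
  have tV : t ∉ V := fun e => by rw [fV.2 e, orderOf_one] at hu; omega
  have t2 : t * t ∈ V := fV.1 (by rw [map_mul, ← pow_two, ← hu, pow_orderOf_eq_one])
  obtain ⟨c, hc, tc⟩ := sc t tV
  have z0 : ∀ v ∈ V, v * t = t * v → ∀ g, v * (g * t * g⁻¹) = g * t * g⁻¹ * v := fun v hv e g => by
    obtain ⟨H, s, h1, h2⟩ := solv_dih (a := QuotientGroup.mk' V t) (b := QuotientGroup.mk' V (g * t * g⁻¹))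
      (by rw [← map_mul, fV.2 t2]) (by rw [← map_mul, conj_mul, fV.2 (nV.conj_mem _ t2 g)])
    have VH : ∀ {y}, y ∈ V → y ∈ H.comap (QuotientGroup.mk' V) :=
      fun hy => mem_comap.2 (by rw [fV.2 hy]; exact one_mem _)
    exact mem_C.1 (h.le_cent (h.ne_top (solv_comap sV s)) (VH hv) h1 (VH hc) e (cV v hv c hc) tc h2)
  obtain ⟨Z, hZ⟩ : ∃ Z : Subgroup G, ∀ z, z ∈ Z ↔ z ∈ V ∧ t * z = z * t :=
    ⟨V ⊓ centralizer {t}, fun z => by rw [mem_inf, mem_C]⟩
  have nZ : Z.Normal := ⟨fun v hv g => (hZ _).2 ⟨nV.conj_mem v ((hZ v).1 hv).1 g, by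
    calc t * (g * v * g⁻¹) = g * (g⁻¹ * t * g⁻¹⁻¹ * v) * g⁻¹ := by group
      _ = g * v * g⁻¹ * t := by rw [← z0 v ((hZ v).1 hv).1 ((hZ v).1 hv).2.symm]; group⟩⟩
  have NV := rad _ (Stab.normal V Z) (isSolvable_of_map (QuotientGroup.mk' V) (solv_comm (by
    rintro _ ⟨a, ha, rfl⟩ _ ⟨b, hb, rfl⟩
    rw [← map_mul, ← map_mul, ← mul_inv_eq_one, ← map_inv, ← map_mul, fV]
    by_contra n
    obtain ⟨v, hv, e⟩ := sc _ n
    exact e (Stab.comm (fun a ha b hb => cV a ((hZ a).1 ha).1 b ((hZ b).1 hb).1) ha hb hv)))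
    (isSolvable_of_le sV (inf_le_left.trans (QuotientGroup.ker_mk' V).le)))
    fun y hy => ⟨fun z hz => cV y hy z ((hZ z).1 hz).1, fun v hv => by rw [cV y hy v hv]; simp⟩
  have iv : ∀ v ∈ V, v * (t * v * t⁻¹) ∈ Z := fun v hv => (hZ _).2 ⟨mul_mem hv (nV.conj_mem v hv t), by
    calc t * (v * (t * v * t⁻¹)) = t * v * t⁻¹ * (t * t * v) * t⁻¹ := by group
      _ = t * v * t⁻¹ * v * t := by rw [cV _ t2 v hv]; group
      _ = _ := by rw [cV _ (nV.conj_mem v hv t) v hv]⟩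
  have tg : ∀ g, t * (g * t * g⁻¹) ∈ V := fun g => NV ⟨fun z hz => by
    rw [mul_assoc, ← z0 z ((hZ z).1 hz).1 ((hZ z).1 hz).2.symm, ← mul_assoc, ((hZ z).1 hz).2,
      mul_assoc], fun v hv => by
    have a1 := nZ.conj_mem _ (nZ.conj_mem _ (iv _ (nV.conj_mem v hv g⁻¹)) g) t
    have a2 := nZ.conj_mem _ (mul_mem (inv_mem (nZ.conj_mem _ (iv v hv) v⁻¹)) a1) v
    rwa [show v * ((v⁻¹ * (v * (t * v * t⁻¹)) * v⁻¹⁻¹)⁻¹ * (t * (g * (g⁻¹ * v * g⁻¹⁻¹ *
      (t * (g⁻¹ * v * g⁻¹⁻¹) * t⁻¹)) * g⁻¹) * t⁻¹)) * v⁻¹ =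
      t * (g * t * g⁻¹) * v * (t * (g * t * g⁻¹))⁻¹ * v⁻¹ by group] at a2⟩
  have : (V ⊔ zpowers t).Normal := normal_of_le_normalizer_top fun g _ =>
    mem_normalizer_of_conj_mem (map_conj_le_iff.1 (by
      rw [Subgroup.map_sup, MonoidHom.map_zpowers]
      refine sup_le ((map_conj_le_iff.2 fun v hv => nV.conj_mem v hv g).trans le_sup_left)
        (zpowers_le_of_mem ?_)
      have := mul_mem (mem_sup_right (S := V) (inv_mem (mem_zpowers t))) (mem_sup_left (tg g))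
      rwa [inv_mul_cancel_left] at this))
  exact tV (rad _ this (isSolvable_of_le (isSolvable_sup (solv_zpowers t) sV le_normalizer_of_normal)
    (sup_comm _ _).le) le_sup_left (mem_sup_right (mem_zpowers t)))

theorem MN.le_center (h : MN G) {A : Subgroup G} [A.Normal] (hA : Group.IsSolvable A) :
    A ≤ center G := by
  by_contra hZ
  obtain ⟨x, hx⟩ := h.exists_bad
  have step : ∀ B : Subgroup G, B.Normal → Group.IsSolvable B → ¬ B ≤ center G →
      x ∈ centralizer (B : Set G) ∧ Group.IsSolvable (centralizer (B : Set G)) ∧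
        ¬ centralizer (B : Set G) ≤ center G := fun B _ hB hZ => by
    have : x ∈ centralizer (B : Set G) :=
      mem_centralizer_iff.2 fun z hz => (mem_C.1 (h.le_of_solv hx hB hz)).symm
    exact ⟨this, solv_comm fun a ha b hb => h.cent_comm hB hZ ha hb, fun e => hx.1 (e this)⟩
  obtain ⟨-, s1, z1⟩ := step A ‹_› hA hZ
  refine h.aux hx (step _ inferInstance s1 z1).1 (fun a ha b hb => h.cent_comm s1 z1 ha hb)
    fun g hg => ?_
  by_contra! e
  exact hg (mem_centralizer_iff.2 fun c hc => (e c (mem_centralizer_iff.2 fun d hd =>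
    h.cent_comm hA hZ hd hc)).symm)

theorem MN.mq (h : MN G) : MQ (QuotientGroup.mk' (center G)) where
  toMN := h
  surj := QuotientGroup.mk'_surjective _
  ker := QuotientGroup.ker_mk' _
  rad := fun N _ hN => by
    have := h.le_center (A := N.comap (QuotientGroup.mk' (center G))) (isSolvable_of_map _
      (isSolvable_of_le hN (map_comap_le _ _)) (solv_comm fun a ha b _ =>
        (mem_center_iff.1 ((QuotientGroup.ker_mk' _).le ha.1) b).symm))
    refine eq_bot_iff.2 fun u hu => ?_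
    obtain ⟨g, rfl⟩ := QuotientGroup.mk'_surjective _ u
    exact (QuotientGroup.eq_one_iff g).2 (this hu)

omit [Finite G] in
theorem MQ.eq_one (h : MQ π) {g : G} : π g = 1 ↔ g ∈ center G := by rw [← h.ker, MonoidHom.mem_ker]

theorem MQ.star (h : MQ π) {x g : G} (hx : Bad x) (e : π g * π x * (π g)⁻¹ ∈ zpowers (π x)) :
    x * g = g * x := by
  obtain ⟨k, hk⟩ := e
  have hz : g * x * g⁻¹ * (x ^ k)⁻¹ ∈ center G := h.eq_one.1 (by
    simp only [map_mul, map_inv, map_zpow, ← hk, mul_inv_cancel])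
  have l : centralizer {x} ≤ centralizer ({g * x * g⁻¹} : Set G) := fun y hy => mem_C.2 (by
    rw [← inv_mul_cancel_right (g * x * g⁻¹) (x ^ k)]
    exact (Commute.mul_left (mem_center_iff.1 hz y).symm (Commute.zpow_left (mem_C.1 hy) k)).eq)
  refine mem_C.1 ((h.toMN.norm hx).le (map_conj_eq_iff.1 ?_))
  rw [map_conj_centralizer_singleton]
  exact ((h.toMN.coatom hx).le_iff.1 l).resolve_left (cent_ne_top fun c => hx.1 (by
    simpa [mul_assoc] using (inferInstance : (center G).Normal).conj_mem _ c g⁻¹))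

theorem MQ.cent (h : MQ π) {x : G} (hx : Bad x) :
    centralizer ({π x} : Set X) = (centralizer {x}).map π ∧ IsCoatom (centralizer ({π x} : Set X)) := by
  have e : (centralizer ({π x} : Set X)).comap π = centralizer {x} := by
    ext g
    rw [mem_comap, mem_C, mem_C]
    exact ⟨fun e => h.star hx (by rw [← e, mul_inv_cancel_right]; exact mem_zpowers _),
      fun e => by rw [← map_mul, e, map_mul]⟩
  have c := h.toMN.coatom hx
  refine ⟨by rw [← e, map_comap_eq_self_of_surjective h.surj], fun n => c.1 (by rw [← e, n, comap_top]),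
    fun K hK => comap_injective h.surj (c.2 _ ?_)⟩
  rw [← e]
  exact (comap_lt_comap_of_surjective h.surj).2 hK

theorem MQ.lift2 (_ : MQ π) {H : Subgroup G} {u : X} (hu : u ∈ H.map π) {n : ℕ} (e : u ^ 2 ^ n = 1) :
    ∃ s ∈ H, π s = u ∧ ∃ m, s ^ 2 ^ m = 1 := by
  obtain ⟨g, hg, rfl⟩ := hu
  obtain ⟨a, m, hm, ha⟩ := Nat.exists_eq_two_pow_mul_odd (orderOf_pos g).ne'
  obtain ⟨k, hk⟩ := exists_pow_eq_self_of_coprime (x := π g) (n := m)
    ((hm.coprime_two_right.pow_right n).coprime_dvd_right (orderOf_dvd_of_pow_eq_one e))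
  refine ⟨(g ^ m) ^ k, pow_mem (pow_mem hg m) k, by rw [map_pow, map_pow, hk], a, ?_⟩
  rw [← pow_mul, ← pow_mul, show m * (k * 2 ^ a) = 2 ^ a * m * k by ring, pow_mul, ← ha,
    pow_orderOf_eq_one, one_pow]

end Cfsg.Agent.Lib.CA
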