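/-
CA-groups (S4369): abelian Sylow 2-subgroups, passage to `X = G / Z(G)`.
-/
import Cfsg.Agent.Lib.CA.Bas
import Cfsg.Agent.Lib.Transfer.Residual

set_option autoImplicit false
set_option linter.unusedSectionVars false

namespace Cfsg.Agent.Lib.CA

open Subgroup Cfsg.Agent.Lib.Core Cfsg.Agent.Lib.AG

variable {G X : Type*} [Group G] [Group X] [Finite G] [Finite X] {π : G →* X}

theorem MQ.comm2 (h : MQ π) (hT : Ab2 G) {s g : G} {n : ℕ} (hs : s ^ 2 ^ n = 1)
    (e : π s * π g = π g * π s) : s * g = g * s := by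
  have hz : g * s * g⁻¹ * s⁻¹ ∈ center G := h.eq_one.1 (by
    rw [map_mul, map_mul, map_mul, ← e, map_inv, map_inv]; group)
  obtain ⟨z, hz, e1⟩ : ∃ z ∈ center G, g * s * g⁻¹ = z * s := ⟨_, hz, by group⟩
  have zc : ∀ a, Commute a z := mem_center_iff.1 hz
  have gN : g ∈ normalizer (centralizer ({s} : Set G) : Set G) := mem_normalizer_fintype fun c hc => by
    have : Commute (g * c * g⁻¹) (z * s) := by
      rw [← e1]; exact (conj_mul.trans (by rw [mem_centralizer_singleton_iff.1 hc])).trans conj_mul.symm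
    simpa using mem_centralizer_singleton_iff.2 ((zc _).inv_right.mul_right this).eq
  obtain ⟨T, hS, sT⟩ := exists_isSyl_ge (isPGroup_zpowers hs) le_top
  have TC : T ≤ centralizer {s} := fun x hx =>
    mem_centralizer_singleton_iff.2 (hT T hS.isPGroup x hx s (sT (mem_zpowers s)))
  obtain ⟨m, k, hm, hk⟩ := Transfer.exists_coprime_pow_pow_eq_one (p := 2) g
  obtain ⟨c, hc, l⟩ := (hS.mono (TC.trans le_normalizer) le_top).exists_conj_le (isPGroup_zpowers hk)
    (zpowers_le.2 (pow_mem gN m))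
  have e2 := mem_centralizer_singleton_iff.1 ((mem_normalizer_iff.1 hc _).2
    (TC (l (mem_map_of_mem _ (mem_zpowers _)))))
  have e3 : ∀ j : ℕ, g ^ j * s * (g ^ j)⁻¹ = z ^ j * s := fun j => by
    induction j with
    | zero => simp
    | succ j ih =>
      calc _ = g * (g ^ j * s * (g ^ j)⁻¹) * g⁻¹ := by rw [pow_succ']; group
        _ = z ^ j * (g * s * g⁻¹) := by rw [ih, ← mul_assoc g, ((zc g).pow_right j).eq]; group
        _ = _ := by rw [e1, pow_succ, mul_assoc]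
  have z1 := e3 m
  rw [e2, mul_inv_cancel_right, right_eq_mul] at z1
  have z2 : z ^ 2 ^ n = 1 := by
    have := congrArg (· ^ 2 ^ n) e1
    simp only [conj_pow, (zc s).symm.mul_pow, hs] at this
    simpa using this.symm
  have := Nat.dvd_gcd (orderOf_dvd_of_pow_eq_one z1) (orderOf_dvd_of_pow_eq_one z2)
  rw [(hm.pow_right n).gcd_eq_one, Nat.dvd_one, orderOf_eq_one_iff] at this
  rw [this, one_mul] at e1
  exact (mul_inv_eq_iff_eq_mul.1 e1).symm

theorem MQ.lift2' (h : MQ π) {u : X} {n : ℕ} (e : u ^ 2 ^ n = 1) : ∃ s, π s = u ∧ ∃ m, s ^ 2 ^ m = 1 := by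
  obtain ⟨s, -, hs⟩ := h.lift2 (H := ⊤) (by rw [map_top_of_surjective _ h.surj]; trivial) e
  exact ⟨s, hs⟩

theorem MQ.ci (h : MQ π) (hT : Ab2 G) (hn : NB2 G) : CI X := fun t a b tt t1 ta tb => by
  obtain ⟨t, rfl, m, hm⟩ := h.lift2' (u := t) (n := 1) (by rwa [pow_one, pow_two])
  obtain ⟨a, rfl⟩ := h.surj a
  obtain ⟨b, rfl⟩ := h.surj b
  rw [← map_mul, ← map_mul]
  congr 1
  by_contra e
  exact hn t m hm ⟨fun c => t1 (h.eq_one.2 c), a, b, h.comm2 hT hm ta, h.comm2 hT hm tb, e⟩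

/-- the shadow in `X` of a bad 2-element -/
structure AY (t : X) : Prop where
  rad : Rad1 X
  ab : Ab2 X
  tt : t * t = 1
  t1 : t ≠ 1
  coatom : IsCoatom (centralizer ({t} : Set X))
  ca : ∀ H : Subgroup X, H ≠ ⊤ → ∀ x ∈ H, ∀ a ∈ H, ∀ b ∈ H, x * x = 1 → x * a = a * x → x * b = b * x →
    a * b = b * a ∨ H ≤ centralizer {x}
  ca2 : ∀ H : Subgroup X, H ≠ ⊤ → ∀ x ∈ H, ∀ a ∈ H, ∀ b ∈ H, a * a = 1 → b * b = 1 → x * a = a * x →
    x * b = b * x → a * b = b * a ∨ H ≤ centralizer {x}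
  nb : ∀ x u g : X, t * x = x * t → u * x * u⁻¹ = x⁻¹ → x * x ≠ 1 → x * g = g * x →
    t * (g * t * g⁻¹) = g * t * g⁻¹ * t

theorem MQ.ab2 (h : MQ π) (hT : Ab2 G) : Ab2 X := fun P hP x hx y hy => by
  obtain ⟨S, hS⟩ := exists_isSyl 2 (P.comap π)
  have e := hS.map π
  rw [map_comap_eq_self_of_surjective h.surj] at e
  rw [e.eq_of_le hP e.le le_rfl] at hx hy
  obtain ⟨x, hx, rfl⟩ := hx
  obtain ⟨y, hy, rfl⟩ := hy
  rw [← map_mul, hT S hS.isPGroup x hx y hy, map_mul]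

theorem MQ.caX (h : MQ π) {H : Subgroup X} (hH : H ≠ ⊤) {x a b : G} (hx : π x ∈ H) (ha : π a ∈ H)
    (hb : π b ∈ H) (xa : x * a = a * x) (xb : x * b = b * x) :
    π a * π b = π b * π a ∨ H ≤ centralizer {π x} := by
  refine (h.prop (H.comap π) (fun e => hH ?_) x hx a ha b hb xa xb).imp
    (fun e => by rw [← map_mul, e, map_mul]) fun e g hg => ?_
  · rw [← map_comap_eq_self_of_surjective h.surj H, e, map_top_of_surjective _ h.surj]
  · obtain ⟨g, rfl⟩ := h.surj g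
    exact mem_centralizer_singleton_iff.2 (by rw [← map_mul, ← e g hg, map_mul])

theorem MQ.ay (h : MQ π) (hT : Ab2 G) (hn : ¬ NB2 G) : ∃ t : X, AY t := by
  obtain ⟨t, n, hn, ht, tt⟩ : ∃ (t : G) (n : ℕ), t ^ 2 ^ n = 1 ∧ Bad t ∧ π t * π t = 1 := by
    simp only [NB2, not_forall, not_not] at hn
    obtain ⟨x, n, hn, hx⟩ := hn
    induction n generalizing x with
    | zero => exact absurd (by rw [show x = 1 by simpa using hn]; exact one_mem _) hx.1
    | succ n ih =>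
      by_cases e : π x * π x = 1
      · exact ⟨x, _, hn, hx, e⟩
      obtain ⟨-, a, b, h1, h2, h3⟩ := hx
      exact ih (x * x) (by rw [← pow_two, ← pow_mul, ← pow_succ', hn]) ⟨fun c => e (by
        rw [← map_mul, h.eq_one.2 c]), a, b, (Commute.mul_left h1 h1).eq, (Commute.mul_left h2 h2).eq, h3⟩
  have l : ∀ {x : X}, x * x = 1 → ∃ s, π s = x ∧ ∃ m, s ^ 2 ^ m = 1 := fun e =>
    h.lift2' (n := 1) (by rwa [pow_one, pow_two])
  refine ⟨π t, h.rad, h.ab2 hT, tt, fun e => ht.1 (h.eq_one.1 e), (h.cent ht).2,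
    fun H hH x hx a ha b hb xx xa xb => ?_, fun H hH x hx a ha b hb aa bb xa xb => ?_, fun x u g tx ux xx xg => ?_⟩
  · obtain ⟨x, rfl, m, hm⟩ := l xx
    obtain ⟨a, rfl⟩ := h.surj a
    obtain ⟨b, rfl⟩ := h.surj b
    exact h.caX hH hx ha hb (h.comm2 hT hm xa) (h.comm2 hT hm xb)
  · obtain ⟨a, rfl, m, hm⟩ := l aa
    obtain ⟨b, rfl, m', hm'⟩ := l bb
    obtain ⟨x, rfl⟩ := h.surj x
    exact h.caX hH hx ha hb (h.comm2 hT hm xa.symm).symm (h.comm2 hT hm' xb.symm).symm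
  · obtain ⟨x, rfl⟩ := h.surj x
    obtain ⟨u, rfl⟩ := h.surj u
    obtain ⟨g, rfl⟩ := h.surj g
    have c2 := h.comm2 hT (s := g * t * g⁻¹) (g := x) (n := n) (by rw [conj_pow, hn]; simp) (by
      simp only [map_mul, map_inv]
      calc _ = π g * (π t * π x) * (π g)⁻¹ := by rw [mul_assoc, (Commute.inv_right xg).symm.eq]; group
        _ = _ := by rw [tx, ← mul_assoc, ← xg]; group)
    by_contra c
    have hb : Bad x := ⟨fun e => xx (by rw [h.eq_one.2 e, mul_one]), t, _, (h.comm2 hT hn tx).symm, c2.symm,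
      fun e => c (by simpa using congrArg π e)⟩
    have := congrArg π (h.star hb (ux ▸ inv_mem (mem_zpowers _)))
    rw [map_mul, map_mul] at this
    rw [← this, mul_inv_cancel_right] at ux
    exact xx (by nth_rewrite 1 [ux]; exact inv_mul_cancel _)

end Cfsg.Agent.Lib.CA
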