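/-
CA-groups (S4369): abelian Sylow 2-subgroups, the four-group.
-/
import Cfsg.Agent.Lib.CA.A1
import Cfsg.Agent.Lib.AG.Fin0
import Cfsg.Agent.S0215

set_option autoImplicit false
set_option linter.unusedSectionVars false

namespace Cfsg.Agent.Lib.CA

open Subgroup Cfsg.Agent.Lib.Core Cfsg.Agent.Lib.AG Cfsg.Agent.FT

variable {X : Type*} [Group X] [Finite X] {t : X}

theorem Rad1.eq_one (h : Rad1 X) {x : X} (hx : centralizer ({x} : Set X) = ⊤) : x = 1 :=
  mem_bot.1 (h (center X) inferInstance (solv_comm fun a ha b _ => (mem_center_iff.1 ha b).symm) ▸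
    mem_center_iff.2 fun g => (mem_C.1 (hx.ge (mem_top g))).symm)

theorem Rad1.norm_ne (h : Rad1 X) {H : Subgroup X} (hs : Group.IsSolvable H) (h1 : H ≠ ⊥) :
    normalizer (H : Set X) ≠ ⊤ := fun e => h1 (h H (normalizer_eq_top_iff.1 e) hs)

namespace AY

variable (h : AY t)
include h

theorem nsolv : ¬ Group.IsSolvable (⊤ : Subgroup X) := fun e => h.t1 (mem_bot.1 (h.rad _ inferInstance e ▸ mem_top t))

theorem cent_eq {x : X} (x1 : x ≠ 1) (e : centralizer {t} ≤ centralizer ({x} : Set X)) :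
    centralizer ({x} : Set X) = centralizer {t} :=
  (h.coatom.le_iff.1 e).resolve_left fun e => x1 (h.rad.eq_one e)

theorem k4 : ∃ s, K4 t s := by
  obtain ⟨S, hS, tS⟩ := exists_isSyl_ge (isPGroup_zpowers (p := 2) (k := 1) (x := t) (by
    rw [pow_one, pow_two, h.tt])) le_top
  replace tS := tS (mem_zpowers t)
  have cS := h.ab S hS.isPGroup
  have hc : IsMulCommutative S := ⟨⟨fun a b => Subtype.ext (cS a a.2 b b.2)⟩⟩
  have SC : ∀ x ∈ S, S ≤ centralizer {x} := fun x hx y hy => mem_C.2 (cS x hx y hy)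
  obtain ⟨n, hn, nt⟩ : ∃ n ∈ normalizer (S : Set X), n * t * n⁻¹ ≠ t := by
    by_contra! c
    obtain ⟨P, rfl⟩ := hS.exists_sylow_top
    obtain ⟨N, h1, h2, h3⟩ := S0215.result P t (orderOf_eq_prime (by rw [pow_two, h.tt]) h.t1) tS fun g hg => by
      have l : (P : Subgroup X).map (MulAut.conj g).toMonoidHom ≤ centralizer {g * t * g⁻¹} := by
        rintro _ ⟨x, hx, rfl⟩
        exact mem_C.2 ((conj_mul.trans (by rw [cS t tS x hx])).trans conj_mul.symm)
      obtain ⟨a, ha, e⟩ := ((hS.conj_of_mem_normalizer (g := g) (le_normalizer (mem_top g))).mono l le_top).exists_conj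
        (hS.mono (SC _ hg) le_top)
      have := c (a * g) (mem_normalizer_fintype fun x hx => by
        rw [show a * g * x * (a * g)⁻¹ = a * (g * x * g⁻¹) * a⁻¹ by group]
        exact e.le (mem_map_of_mem _ (mem_map_of_mem _ hx)))
      rwa [show a * g * t * (a * g)⁻¹ = a * (g * t * g⁻¹) * a⁻¹ by group, ← mem_C.1 ha,
        mul_inv_cancel_right] at this
    rw [h.rad N h1 (S0205.result h2)] at h3
    exact h.t1 (h.rad.eq_one (eq_top_iff.2 fun g _ => mem_C.2 (by
      have := mem_bot.1 (h3 g)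
      rwa [mul_inv_eq_one, mul_inv_eq_iff_eq_mul] at this)))
  have nN := h.rad.norm_ne (isSolvable_of_isPGroup hS.isPGroup) fun e => h.t1 (mem_bot.1 (e ▸ tS))
  have nC : ¬ normalizer (S : Set X) ≤ centralizer {t} := fun e => nt (by rw [← mem_C.1 (e hn)]; simp)
  have bs := burnside_sup (hS.mono (SC t tS) le_top) fun g hg => mem_centralizer_iff.2 fun x hx =>
    (h.ca _ nN t (le_normalizer tS) x (le_normalizer hx) g hg.2 h.tt (cS t tS x hx) (mem_C.1 hg.1)).resolve_right nC
  have mA : ∀ x, x ∈ Ohm1 S ↔ x ∈ S ∧ x * x = 1 := fun x => by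
    rw [mem_Ohm1_iff (Ohm1_abelem' hS.isPGroup hc).2, pow_two]
  have hE := Ohm1_abelem' hS.isPGroup hc
  obtain ⟨B, hB, BC⟩ : ∃ B, IsCocyclic B (Ohm1 S) ∧ ∀ b ∈ B, centralizer {t} ≤ centralizer ({b} : Set X) := by
    by_contra! c
    have := le_of_cocyclic_centralizers (A := Ohm1 S) (H := OppOf 2 (centralizer {t}))
      (W := centralizer (S : Set X)) hE.1
      (le_normalizer_OppOf (le_normalizer_of_le ((Ohm1_le S).trans (SC t tS))))
      (by obtain ⟨k, hk⟩ := IsPGroup.iff_card.1 (hS.isPGroup.to_le (Ohm1_le S))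
          exact hk ▸ ((Nat.prime_two.coprime_iff_not_dvd.2 (OppOf_not_dvd _)).pow_left k)) fun B hB g hg => by
      obtain ⟨b, hb, e⟩ := c B hB
      obtain ⟨bS, bb⟩ := (mA b).1 (hB.1 hb)
      exact mem_centralizer_iff.2 fun x hx => (h.ca _ h.coatom.1 b (SC t tS bS) x (SC t tS hx) g
        (OppOf_le _ hg.1) bb (cS b bS x hx) (mem_centralizer_iff.1 hg.2 b hb)).resolve_right e
    exact nC ((h.coatom.le_iff.1 (bs.ge.trans (sup_le (this.trans (centralizer_le_normalizer _))
      le_normalizer))).resolve_left nN).le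
  have h4 : Nat.card (Ohm1 S) ≤ 4 := by
    have l1 := hB.card_le hE
    have l2 : B.map (MulAut.conj n).toMonoidHom ≤ Ohm1 S := by
      rintro _ ⟨b, hb, rfl⟩
      exact (mem_normalizer_iff.1 (norm_le_norm_Ohm1 _ hn) b).1 (hB.1 hb)
    have l3 := card_sup_mul_card_inf (H := B.map (MulAut.conj n).toMonoidHom) (N := B)
      ((l2.trans (Ohm1_le S)).trans fun x hx => mem_normalizer_fintype fun b hb => by
        rwa [cS x hx b (Ohm1_le S (hB.1 hb)), mul_inv_cancel_right])
    have l4 : B.map (MulAut.conj n).toMonoidHom ⊓ B = ⊥ := eq_bot_iff.2 fun x hx => by_contra fun x1 => by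
      obtain ⟨⟨b, hb, rfl⟩, hx⟩ := hx
      have e1 := h.cent_eq x1 (BC _ hx)
      have e2 := h.cent_eq (x := b) (fun e => x1 (by simp [e])) (BC _ hb)
      have nM : n ∈ normalizer (centralizer ({t} : Set X) : Set X) := mem_normalizer_fintype fun g hg => by
        rw [← e2] at hg; rw [← e1]
        exact mem_C.2 ((conj_mul.trans (by rw [mem_C.1 hg])).trans conj_mul.symm)
      rcases h.coatom.le_iff.1 (le_normalizer (H := centralizer {t})) with e | e
      · have := normalizer_eq_top_iff.1 e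
        have sv : Group.IsSolvable (centralizer ({t} : Set X)) :=
          solv_of_sup (isSolvable_of_isPGroup hS.isPGroup) (SC t tS) bs
        exact h.t1 (mem_bot.1 (h.rad _ this sv ▸ mem_C.2 rfl))
      · exact nt (by rw [← mem_C.1 (e.le nM)]; simp)
    rw [l4, card_bot, mul_one, card_map_conj] at l3
    have := card_le_of_le (sup_le l2 hB.1)
    have := Nat.card_pos (α := B)
    nlinarith
  have tE := (mA t).2 ⟨tS, h.tt⟩
  have yE := (mem_normalizer_iff.1 (norm_le_norm_Ohm1 _ hn) t).1 tE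
  have h4 : Nat.card (Ohm1 S) = 4 := by
    obtain ⟨k, hk⟩ := IsPGroup.iff_card.1 (hS.isPGroup.to_le (Ohm1_le S))
    have : ¬ Nat.card (Ohm1 S) ≤ 2 := fun e => nt (eq_of_card_le_two e yE tE (by simpa using h.t1) h.t1)
    rw [hk] at h4 this ⊢
    rcases k with _ | _ | _ | k <;> omega
  rw [eq_Ohm1_of_four hS hc (fun e => h.nsolv inferInstance) h4] at h4
  exact ⟨_, h.tt, ((mA _).1 yE).2, h.t1, by simpa using h.t1, nt.symm, cS _ tS _ ((mA _).1 yE).1, fun d => by
    have := hS.card_eq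
    rw [card_top, h4] at this
    have h3 := (Nat.prime_two.pow_dvd_iff_le_factorization (k := 3) Nat.card_pos.ne').1 d
    have := Nat.pow_le_pow_right two_pos h3
    omega⟩

end AY

end Cfsg.Agent.Lib.CA
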