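/-
CA-groups (S4369), piece N: non-abelian Sylow subgroups.
-/
import Cfsg.Agent.Lib.CA.Bas
import Cfsg.Agent.Lib.Invol.StronglyEmbedded
import Cfsg.Agent.Lib.Char.ZStar

set_option autoImplicit false

namespace Cfsg.Agent.Lib.CA

open Subgroup Cfsg.Agent.Lib.Core Cfsg.Agent.Lib.AG

variable {G X : Type*} [Group G] [Group X] {π : G →* X}

/-- `C(c)` has a non-abelian `p`-subgroup -/
def NA (p : ℕ) (c : G) : Prop :=
  ∃ P : Subgroup G, IsPGroup p P ∧ P ≤ centralizer {c} ∧ ∃ a ∈ P, ∃ b ∈ P, a * b ≠ b * a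

theorem NA.conj {p : ℕ} {c : G} (h : NA p c) (g : G) : NA p (g * c * g⁻¹) := by
  obtain ⟨P, hP, l, a, ha, b, hb, ab⟩ := h
  refine ⟨P.map (MulAut.conj g).toMonoidHom, hP.map _,
    map_conj_centralizer_singleton c g ▸ map_mono l, _, conj_mem_map_conj.2 ha, _,
    conj_mem_map_conj.2 hb, fun e => ab ?_⟩
  simpa [conj_mul] using e

theorem NA.bad {p : ℕ} {c : G} (h : NA p c) (hc : c ∉ center G) : Bad c := by
  obtain ⟨P, -, l, a, ha, b, hb, ab⟩ := h
  exact ⟨hc, a, b, mem_C.1 (l ha), mem_C.1 (l hb), ab⟩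

theorem conj_not_center {c : G} (hc : c ∉ center G) (g : G) : g * c * g⁻¹ ∉ center G := fun e =>
  hc (by simpa [mul_assoc] using (inferInstance : (center G).Normal).conj_mem _ e g⁻¹)

theorem exists_pow_sq {K : Subgroup G} {k : ℕ} : ∀ {m : G}, m ∉ K → m ^ 2 ^ k = 1 →
    ∃ j : ℕ, m ^ j ∉ K ∧ m ^ j * m ^ j ∈ K := by
  induction k with
  | zero => exact fun h e => (h (by rw [pow_zero, pow_one] at e; exact e ▸ one_mem K)).elim
  | succ k ih =>
    intro m h e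
    by_cases c : m * m ∈ K
    · exact ⟨1, by simpa using h, by simpa using c⟩
    · obtain ⟨j, h1, h2⟩ := ih c (by rw [← pow_two, ← pow_mul, ← pow_succ', e])
      exact ⟨2 * j, by rwa [pow_mul, pow_two], by rwa [pow_mul, pow_two]⟩

variable [Finite G]

theorem exists_sq {P Q : Subgroup G} (hQ : IsPGroup 2 Q) (h : P < Q) :
    ∃ n ∈ Q, n ∈ normalizer (P : Set G) ∧ n ∉ P ∧ n * n ∈ P := by
  obtain ⟨m, hm, mP⟩ := SetLike.exists_of_lt (lt_inf_normalizer_of_isPGroup hQ h)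
  obtain ⟨k, hk⟩ := pow_eq_one_of_isPGroup hQ hm.1
  obtain ⟨j, h1, h2⟩ := exists_pow_sq mP hk
  exact ⟨_, pow_mem hm.1 j, pow_mem hm.2 j, h1, h2⟩

theorem MN.of_le (h : MN G) {x g : G} (hx : Bad x)
    (l : centralizer {x} ≤ centralizer ({g * x * g⁻¹} : Set G)) : x * g = g * x := by
  refine mem_C.1 ((h.norm hx).le (map_conj_eq_iff.1 ?_))
  rw [map_conj_centralizer_singleton]
  exact ((h.coatom hx).le_iff.1 l).resolve_left (cent_ne_top (conj_not_center hx.1 g))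

theorem MN.norm_ne_top (h : MN G) {D : Subgroup G} (hD : Group.IsSolvable D) (hZ : ¬ D ≤ center G) :
    normalizer (D : Set G) ≠ ⊤ := fun e =>
  haveI := normal_of_le_normalizer_top e.ge
  hZ (h.le_center hD)

section p

variable {p : ℕ} [Fact p.Prime]

theorem syl_na {P T M : Subgroup G} (hT : IsSyl p T M) (hP : IsPGroup p P) (l : P ≤ M) {a b : G}
    (ha : a ∈ P) (hb : b ∈ P) (ab : a * b ≠ b * a) : ∃ a ∈ T, ∃ b ∈ T, a * b ≠ b * a := by
  obtain ⟨g, -, e⟩ := hT.exists_conj_le hP l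
  exact ⟨_, e (conj_mem_map_conj.2 ha), _, e (conj_mem_map_conj.2 hb), fun e => ab (by
    simpa [conj_mul] using e)⟩

theorem MN.loc (h : MN G) {c : G} (hc : NA p c) {D : Subgroup G} (Dc : D ≤ centralizer {c})
    (DZ : ¬ D ≤ center G) (hD : IsSyl p D (centralizer (D : Set G))) :
    normalizer (D : Set G) ≤ centralizer {c} ∧
      ∃ n ∈ normalizer (D : Set G), ∃ d ∈ D, n * d ≠ d * n := by
  obtain ⟨P, hP, l, a, ha, b, hb, ab⟩ := hc
  obtain ⟨T, hT, DT⟩ := exists_isSyl_ge hD.isPGroup Dc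
  obtain ⟨a, ha, b, hb, ab⟩ := syl_na hT hP l ha hb ab
  have lt := lt_inf_normalizer_of_isPGroup hT.isPGroup (lt_of_le_of_ne DT fun e =>
    ab (mem_centralizer_iff.1 (hD.le (e.ge hb)) a (e.ge ha)))
  obtain ⟨n, hn, nC⟩ := SetLike.not_le_iff_exists.1 fun l2 : T ⊓ normalizer (D : Set G) ≤ _ =>
    lt.ne' (hD.eq_of_le (hT.isPGroup.to_inf_left) lt.le l2)
  obtain ⟨d, hd, e⟩ : ∃ d ∈ D, n * d ≠ d * n := by
    by_contra! e; exact nC (mem_centralizer_iff.2 fun d hd => (e d hd).symm)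
  exact ⟨h.le_cent (h.norm_ne_top (isSolvable_of_isPGroup hD.isPGroup) DZ)
    (centralizer_le_normalizer _ (mem_centralizer_iff.2 fun d hd => (mem_C.1 (Dc hd)).symm)) hn.2
    (le_normalizer hd) (mem_C.1 (hT.le hn.1)) (mem_C.1 (Dc hd)) e, n, hn.2, d, hd, e⟩

theorem MN.two (h : MN G) {c g : G} (c1 : c ∉ center G) (hc : NA p c) {D : Subgroup G}
    (Dc : D ≤ centralizer {c}) (Dc' : D ≤ centralizer {g * c * g⁻¹}) (DZ : ¬ D ≤ center G)
    (hD : IsSyl p D (centralizer (D : Set G))) : c * g = g * c := by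
  obtain ⟨l, n, hn, d, hd, e⟩ := h.loc hc Dc DZ hD
  have l' := (h.loc (hc.conj g) Dc' DZ hD).1
  exact h.of_le (hc.bad c1) (h.le_cent (cent_ne_top c1) (l (centralizer_le_normalizer _
    (mem_centralizer_iff.2 fun d hd => (mem_C.1 (Dc' hd)).symm))) (l hn) (Dc hd) (mem_C.1 (l' hn))
    (mem_C.1 (Dc' hd)) e)

/-- weak closure -/
theorem MN.wc (h : MN G) {z g : G} (z1 : z ∉ center G) (hz : NA p z) {k : ℕ} (e : z ^ p ^ k = 1)
    (c : z * (g * z * g⁻¹) = g * z * g⁻¹ * z) : z * g = g * z := by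
  by_cases hB : ∀ a ∈ centralizer {z} ⊓ centralizer {g * z * g⁻¹},
    ∀ b ∈ centralizer {z} ⊓ centralizer {g * z * g⁻¹}, a * b = b * a
  · obtain ⟨D, hD⟩ := exists_isSyl (p := p) (centralizer {z} ⊓ centralizer {g * z * g⁻¹})
    have m : ∀ y ∈ centralizer {z} ⊓ centralizer {g * z * g⁻¹}, y ^ p ^ k = 1 → y ∈ D := fun y hy e =>
      hD.le_of_le_normalizer' (isPGroup_zpowers e) (zpowers_le_of_mem hy) (zpowers_le_of_mem
        (centralizer_le_normalizer _ (mem_centralizer_iff.2 fun d hd => hB d (hD.le hd) y hy)))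
        (mem_zpowers y)
    have m1 := m z ⟨mem_C.2 rfl, mem_C.2 c.symm⟩ e
    have m2 := m _ ⟨mem_C.2 c, mem_C.2 rfl⟩ (by rw [conj_pow, e]; simp)
    exact h.two z1 hz (hD.le.trans inf_le_left) (hD.le.trans inf_le_right) (fun l => z1 (l m1))
      (hD.mono (fun a ha => mem_centralizer_iff.2 fun b hb => hB b (hD.le hb) a (hD.le ha))
        fun y hy => ⟨mem_C.2 (mem_centralizer_iff.1 hy z m1), mem_C.2 (mem_centralizer_iff.1 hy _ m2)⟩)
  · push Not at hB
    obtain ⟨a, ha, b, hb, ab⟩ := hB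
    exact h.of_le (hz.bad z1) (h.le_cent (cent_ne_top z1) (mem_C.2 c) ha.1 hb.1 (mem_C.1 ha.2)
      (mem_C.1 hb.2) ab)

/-- a non-abelian Sylow subgroup of `C(c)` is a Sylow subgroup of `G` -/
theorem MN.syl_top (h : MN G) {c : G} (hc : NA p c) {S : Subgroup G}
    (hS : IsSyl p S (centralizer {c})) : normalizer (S : Set G) ≤ centralizer {c} ∧ IsSyl p S ⊤ := by
  obtain ⟨P, hP, l, a, ha, b, hb, ab⟩ := hc
  obtain ⟨a, ha, b, hb, ab⟩ := syl_na hS hP l ha hb ab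
  have := h.le_cent (h.norm_ne_top (isSolvable_of_isPGroup hS.isPGroup) fun l =>
    ab (mem_center_iff.1 (l hb) a)) (centralizer_le_normalizer _ (mem_centralizer_iff.2 fun d hd =>
      (mem_C.1 (hS.le hd)).symm)) (le_normalizer ha) (le_normalizer hb) (mem_C.1 (hS.le ha))
      (mem_C.1 (hS.le hb)) ab
  exact ⟨this, isSyl_of_isSyl_normalizer (hS.mono (le_inf le_top le_normalizer) (inf_le_right.trans this))⟩

end p

variable [Finite X]

omit [Finite G] [Finite X] in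
theorem Rad1.central (h : Rad1 X) {u : X} (e : ∀ g, u * g = g * u) : u = 1 :=
  zpowers_eq_bot.1 (h _ ⟨fun _ ⟨i, hi⟩ g => ⟨i, by
    rw [← hi, ((show Commute g u from (e g).symm).zpow_right i).eq, mul_inv_cancel_right]⟩⟩
    (solv_zpowers u))

omit [Finite G] in
theorem Rad1.zstar (h : Rad1 X) {S : Subgroup X} (hS : IsSyl 2 S ⊤) {u : X} (hu : u * u = 1)
    (hi : ∀ g : X, g * u * g⁻¹ ∈ S → g * u * g⁻¹ = u) : u = 1 := by
  by_contra u1
  obtain ⟨P, rfl⟩ := hS.exists_sylow_top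
  obtain ⟨N, hN, ho, e⟩ := Char.zstar_of_sylow P (orderOf_eq_prime (by rw [pow_two, hu]) u1) hi
  rw [h N hN (solv_of_odd (by have := Nat.odd_iff.1 ho; omega))] at e
  exact u1 (h.central fun g => by
    have := mem_bot.1 (e g)
    rwa [mul_inv_eq_one, mul_inv_eq_iff_eq_mul] at this)

omit [Finite G] [Finite X] in
theorem MQ.mem_map (h : MQ π) {H : Subgroup G} (hH : center G ≤ H) {g : G} : π g ∈ H.map π ↔ g ∈ H := by
  rw [← mem_comap, comap_map_eq_self (h.ker ▸ hH)]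

omit [Finite G] in
theorem center_le_C {c : G} : center G ≤ centralizer {c} := center_le_centralizer _

theorem MQ.claim0 (h : MQ π) {v : G} (v1 : v ∉ center G) {k : ℕ} (e : v ^ 2 ^ k = 1) : ¬ NA 2 v := by
  intro hv
  obtain ⟨j, z1, z2⟩ := exists_pow_sq v1 e
  have hz : NA 2 (v ^ j) := hv.imp fun P hP => ⟨hP.1, fun a ha =>
    mem_C.2 (Commute.pow_left (mem_C.1 (hP.2.1 ha)) j), hP.2.2⟩
  have e' : (v ^ j) ^ 2 ^ k = 1 := by rw [← pow_mul, mul_comm, pow_mul, e, one_pow]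
  generalize v ^ j = z at *
  obtain ⟨S, hS⟩ := exists_isSyl (p := 2) (centralizer {z})
  have := (h.toMN.syl_top hz hS).2.map π
  rw [map_top_of_surjective _ h.surj] at this
  refine z1 (h.eq_one.1 (h.rad.zstar this (by rw [← map_mul, h.eq_one.2 z2]) fun u hu => ?_))
  obtain ⟨g, rfl⟩ := h.surj u
  rw [← map_inv, ← map_mul, ← map_mul] at hu ⊢
  rw [← h.toMN.wc z1 hz e' (mem_C.1 ((h.mem_map center_le_C).1 (map_mono hS.le hu))),
    mul_inv_cancel_right]

omit [Finite X] in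
theorem exists_sq_top (hT : ¬ Ab2 G) {S : Subgroup G} (hS : IsPGroup 2 S)
    (c : ∀ a ∈ S, ∀ b ∈ S, a * b = b * a) : ∃ n, n ∈ normalizer (S : Set G) ∧ n ∉ S ∧ n * n ∈ S ∧
      IsPGroup 2 ↥(S ⊔ zpowers n) := by
  obtain ⟨T, hT', l⟩ := exists_isSyl_ge hS le_top
  obtain ⟨n, h1, h2, h3, h4⟩ := exists_sq hT'.isPGroup (lt_of_le_of_ne l fun e => hT fun P hP a ha b hb =>
    by_contra fun ab => by
      obtain ⟨a, ha, b, hb, ab⟩ := syl_na hT' hP le_top ha hb ab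
      exact ab (c a (e.ge ha) b (e.ge hb)))
  exact ⟨n, h2, h3, h4, hT'.isPGroup.to_le (sup_le l (zpowers_le_of_mem h1))⟩

omit [Finite G] [Finite X] in
theorem comm_mul_conj {x n : G} (h1 : x * (n * x * n⁻¹) = n * x * n⁻¹ * x) (h2 : n * n * x = x * (n * n)) :
    x * (n * x * n⁻¹) * n = n * (x * (n * x * n⁻¹)) := by
  calc x * (n * x * n⁻¹) * n = n * (n⁻¹ * x * n) * x := by group
    _ = n * (n * x * n⁻¹) * x := by
      rw [show n⁻¹ * x * n = n⁻¹ * (x * (n * n)) * n⁻¹ by group, ← h2]; group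
    _ = _ := by rw [h1, mul_assoc]

omit [Finite X] in
theorem MQ.star' (h : MQ π) {x n : G} (hx : Bad x) (e : x * (n * x * n⁻¹) ∈ center G) : x * n = n * x := by
  refine h.star hx ?_
  have := h.eq_one.2 e
  rw [map_mul, map_mul, map_mul, map_inv] at this
  rw [eq_inv_of_mul_eq_one_right this]
  exact inv_mem (mem_zpowers _)

theorem MQ.nb2 (h : MQ π) (hT : ¬ Ab2 G) : NB2 G := by
  intro s k e hs
  obtain ⟨S, hS, l⟩ := exists_isSyl_ge (isPGroup_zpowers e) (zpowers_le_of_mem (mem_C.2 rfl) :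
    zpowers s ≤ centralizer {s})
  have sS := l (mem_zpowers s)
  have c : ∀ a ∈ S, ∀ b ∈ S, a * b = b * a := fun a ha b hb => by_contra fun ab =>
    h.claim0 hs.1 e ⟨S, hS.isPGroup, hS.le, a, ha, b, hb, ab⟩
  obtain ⟨n, h1, h2, h3, h4⟩ := exists_sq_top hT hS.isPGroup c
  have sn : s * n ≠ n * s := fun e => h2 ((hS.eq_of_le h4 le_sup_left
    (sup_le hS.le (zpowers_le_of_mem (mem_C.2 e)))).le (mem_sup_right (mem_zpowers n)))
  have s' := conj_mem_of_mem_normalizer h1 sS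
  obtain ⟨j, hj⟩ := pow_eq_one_of_isPGroup hS.isPGroup (mul_mem sS s')
  exact h.claim0 (fun e => sn (h.star' hs e)) hj ⟨_, h4, sup_le (fun a ha => mem_C.2
    (c _ (mul_mem sS s') a ha)) (zpowers_le_of_mem (mem_C.2 (comm_mul_conj (c _ sS _ s') (c _ h3 _ sS)))),
    s, mem_sup_left sS, n, mem_sup_right (mem_zpowers n), sn⟩

omit [Finite G] [Finite X] in
theorem NB2.comm (hn : NB2 G) {s a b : G} {k : ℕ} (e : s ^ 2 ^ k = 1) (s1 : s ∉ center G)
    (ha : s * a = a * s) (hb : s * b = b * s) : a * b = b * a :=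
  by_contra fun ab => hn s k e ⟨s1, a, b, ha, hb, ab⟩

end Cfsg.Agent.Lib.CA
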