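/-
CA-groups (S4369): consequences of Bender's theorem.
-/
import Cfsg.Agent.Lib.CA.Bas
import Cfsg.Agent.Lib.OD.Se

set_option autoImplicit false

namespace Cfsg.Agent.Lib.CA

open Subgroup Cfsg.Agent.Lib.Core Cfsg.Agent.FT Cfsg.Agent.BS Cfsg.Agent.BS.P0 Cfsg.Agent.BS.P1 Cfsg.Agent.Lib.Invol
open scoped Cfsg.Agent.Lib.Glaub

theorem psl_real {F : Type*} [Field F] [CharP F 2] (x : Matrix.ProjectiveSpecialLinearGroup (Fin 2) F) :
    ∃ g, g * x * g⁻¹ = x⁻¹ := by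
  obtain ⟨A, rfl⟩ := HallPSL.pr_surj x
  have two : (2 : F) = 0 := CharTwo.two_eq_zero
  have hA := A.det_coe
  rw [Matrix.det_fin_two] at hA
  have k : ∀ p q r : F, p * p - q * r = 1 → p * (A 0 0 + A 1 1) = q * A 1 0 + r * A 0 1 →
      ∃ g, g * HallPSL.pr A * g⁻¹ = (HallPSL.pr A)⁻¹ := fun p q r h e => by
    let S : HallPSL.SL2 F := ⟨!![p, q; r, p], by rw [Matrix.det_fin_two_of, h]⟩
    refine ⟨HallPSL.pr S, ?_⟩
    rw [mul_inv_eq_iff_eq_mul, eq_inv_mul_iff_mul_eq, ← map_mul, ← map_mul]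
    refine congrArg _ (Subtype.ext (show A.1 * (!![p, q; r, p] * A.1) = !![p, q; r, p] from ?_))
    ext i j
    fin_cases i <;> fin_cases j <;> simp [Matrix.mul_apply, Matrix.vecMul, dotProduct, Fin.sum_univ_two] <;> grind
  by_cases b : A 0 1 = 0
  · by_cases c : A 1 0 = 0
    · exact k 0 1 1 (by grind) (by simp [b, c])
    · exact k 1 ((A 0 0 + A 1 1) / A 1 0) 0 (by simp) (by simp [c])
  · exact k 1 0 ((A 0 0 + A 1 1) / A 0 1) (by simp) (by simp [b])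

variable {G X : Type*} [Group G] [Group X] [Finite G] [Finite X] {π : G →* X}

theorem se3 {H S : Subgroup X} (hH : Cfsg.IsStronglyEmbedded H) (hr : BS.Rk2 H) (hS : IsSyl 2 S H) {x : X}
    (hx : x ∈ H) (ho : Odd (orderOf x)) (hc : ∀ s ∈ S, x * s = s * x) : x ∈ H.normalCore := by
  obtain ⟨-, Q, D, t, s, r, h, c⟩ := bender_quot hH hr
  have hQ := (hS.map _).le_of_le_normalizer c.two h.QH ((map_mono hS.le).trans h.sdp.nrm.norm)
  have xQ : QuotientGroup.mk' _ x ∈ 𝐂(Q) := fun q hq => by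
    obtain ⟨s, hs, rfl⟩ := hQ hq
    rw [← map_mul, ← hc s hs, map_mul]
  obtain ⟨n, hn, e⟩ := h.sdp.exists_cj_le (zpowers_le.2 (mem_map_of_mem _ hx)) (coprime_of_two c.two (by
    rw [Nat.card_zpowers]; exact ho.of_dvd_nat (orderOf_map_dvd _ x))).symm (.inr (solv_zpowers _))
  rw [cj_zpowers, xQ n hn, mul_inv_cancel_right, zpowers_le] at e
  have := h.core_eq.ge ⟨e, xQ⟩
  rwa [h.core, mem_bot, QuotientGroup.mk'_apply, QuotientGroup.eq_one_iff] at this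

theorem Rad1.hyp (h : Rad1 X) {H : Subgroup X} (hH : Cfsg.IsStronglyEmbedded H) :
    ∃ (Q D : Subgroup X) (t s r : X), Hyp H Q D t s r := by
  have odd : ∀ Y : Subgroup X, Y ⊲ ⊤ → Odd (Nat.card Y) → Y = ⊥ := fun Y hY ho =>
    h Y (nrm_top_iff.1 hY) (feit_thompson _ ho)
  refine bender hH (odd _ (nrm_top_iff.2 inferInstance) (odd_of_le hH H.normalCore_le)) ?_
  by_contra hr
  obtain ⟨t, D, h⟩ := exists_SE' hH
  obtain ⟨s, hs, s2⟩ := se_invol hH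
  obtain ⟨Y, hY, oY, h1, -⟩ := bs_sub (fun e => hr (h.rk2_top e)) (mem_top s) s2
  rw [odd Y hY oY] at h1
  exact h.tH (se_C1 hH hs s2 (mem_C1_comm.1 (mem_C1_iff_conj.2 (mul_inv_eq_one.1 (mem_bot.1 (h1 t (mem_top t)))))))

theorem Rad1.se1 (h : Rad1 X) {H : Subgroup X} (hH : Cfsg.IsStronglyEmbedded H) {c : X} (hc : c ∈ H)
    (e : ∀ g ∈ H, c * g = g * c) : c = 1 := by
  obtain ⟨Q, D, t, s, r, y⟩ := h.hyp hH
  obtain ⟨q, hq, d, hd, rfl⟩ := y.sdp.mem hc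
  obtain ⟨k, hk, kt, k1⟩ := y.exists_K_ne
  have : q⁻¹ * (k * q * k⁻¹) = 1 := y.eq_one (mul_mem (inv_mem hq) (y.cQ (y.DH hk) hq)) (by
    rw [show q⁻¹ * (k * q * k⁻¹) = q⁻¹ * (k * (q * d)) * d⁻¹ * k⁻¹ by group, ← e k (y.DH hk)]
    simpa [mul_assoc] using mul_mem hd (mul_mem hk (mul_mem (inv_mem hd) (inv_mem hk))))
  obtain rfl := y.fpf_K hk kt k1 hq (mul_inv_eq_iff_eq_mul.1 (inv_mul_eq_one.1 this).symm)
  rw [one_mul] at *
  exact mem_bot.1 (y.core ▸ y.core_eq.ge ⟨hd, fun g hg => (e g (y.QH hg)).symm⟩)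

theorem Rad1.l2e (h : Rad1 X) (hc : CI X) [Nontrivial X] : OD.L2e X := by
  obtain ⟨t, -, t2⟩ : ∃ t ∈ (⊤ : Subgroup X), orderOf t = 2 := by
    by_contra! e
    exact top_ne_bot (h ⊤ inferInstance (feit_thompson _ (odd_card_iff_no_involution.2 e)))
  have cc : ∀ u : X, orderOf u = 2 → ∀ a ∈ C1 u, ∀ b ∈ C1 u, a * b = b * a := fun u u2 a ha b hb =>
    hc u a b (mul_self_of_orderOf_two u2) (ne_one_of_orderOf_two u2) (mem_C1.1 ha).symm (mem_C1.1 hb).symm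
  have eq : ∀ u ∈ C1 t, orderOf u = 2 → C1 u = C1 t := fun u hu u2 =>
    le_antisymm (fun a ha => mem_C1.2 (cc u u2 a ha t (mem_C1_comm.1 hu))) fun a ha => mem_C1.2 (cc t t2 a ha u hu)
  have inv : ∀ u ∈ 𝐍(C1 t), orderOf u = 2 → C1 u = C1 t := fun u hu u2 => eq u (by
    have tt := mul_self_of_orderOf_two t2
    have uu := mul_self_of_orderOf_two u2
    have m := conj_mem_of_mem_normalizer hu (self_mem_C1 t)
    have c := mem_C1.1 m
    by_cases e : u * t * u⁻¹ * t = 1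
    · exact mem_C1_iff_conj.2 (by rw [eq_inv_of_mul_eq_one_left e, inv_eq_of_mul_eq_one_right tt])
    rw [← eq _ (mul_mem m (self_mem_C1 t)) (orderOf_two_of (by
      rw [mul_assoc, ← mul_assoc t, ← c, mul_assoc _ t t, tt, mul_one, conj_mul, tt, mul_one, mul_inv_cancel]) e)]
    refine mem_C1_iff_conj.2 (Eq.trans ?_ c.symm)
    simp [inv_eq_of_mul_eq_one_right uu, ← mul_assoc, uu]) u2
  obtain ⟨Q, D, w, s, r, y⟩ := h.hyp (H := 𝐍(C1 t)) (isStronglyEmbedded_iff.2 ⟨fun e => ne_one_of_orderOf_two t2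
    (mem_bot.1 (h _ (normalizer_eq_top_iff.1 e) (solv_comm (cc t t2)) ▸ self_mem_C1 t)),
    even_card_of_involution_mem (le_normalizer (self_mem_C1 t)) t2, fun g u hu u2 e => by
      rw [← cj_eq_iff]
      nth_rw 1 [← inv u hu u2]
      rw [cj_C1, inv _ e ((MulAut.conj g).orderOf_eq u ▸ u2 :)]⟩)
  have Qs : Q ≤ C1 s := le_C1_iff.2 (y.Q0_le_cent y.rank y.s_mem)
  have hV : VV D w = ⊥ := eq_bot_iff.2 fun v hv => y.core ▸ y.core_eq.ge ⟨hv.1, fun q hq =>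
    cc s y.hs q (Qs hq) v (y.VV_eq.le hv).2⟩
  have ab : IsMulCommutative Q := ⟨⟨fun a b => Subtype.ext (cc s y.hs _ (Qs a.2) _ (Qs b.2))⟩⟩
  obtain ⟨F, _, _, h1, h2, ⟨ψ⟩⟩ := (y.concl.cases.resolve_right fun e => e.elim (·.nonab ab) (·.nonab ab)).iso
  exact ⟨F, _, _, h1, h2 ▸ y.four_le y.rank,
    ⟨((MulEquiv.subgroupCongr (OD.LL_top y y.concl hV)).trans topEquiv).symm.trans ψ⟩⟩

theorem Rad1.se2 (h : Rad1 X) (hc : CI X) (x : X) : ∃ g, g * x * g⁻¹ = x⁻¹ := by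
  rcases subsingleton_or_nontrivial X with _ | _
  · exact ⟨1, Subsingleton.elim _ _⟩
  obtain ⟨F, _, _, _, -, ⟨ψ⟩⟩ := h.l2e hc
  obtain ⟨g, e⟩ := psl_real (ψ x)
  exact ⟨ψ.symm g, ψ.injective (by simpa using e)⟩

theorem MQ.not_ci (h : MQ π) (hn : NB2 G) : ¬ CI X := fun hc => by
  obtain ⟨x, hx⟩ := h.exists_bad
  obtain ⟨g, e⟩ := h.rad.se2 hc (π x)
  obtain ⟨g, rfl⟩ := h.surj g
  have c := h.star hx (e ▸ inv_mem (mem_zpowers _))
  rw [← map_mul, ← c, map_mul, mul_inv_cancel_right, eq_inv_iff_mul_eq_one] at e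
  obtain ⟨s, hs, e1, m, e2⟩ := h.lift2 (mem_map_of_mem π (mem_zpowers x)) (n := 1) (by rw [pow_one, pow_two, e])
  obtain ⟨h1, a, b, xa, xb, ab⟩ := hx
  obtain ⟨k, rfl⟩ := hs
  exact hn _ m e2 ⟨fun z => h1 (h.eq_one.1 (e1 ▸ h.eq_one.2 z)), a, b, (Commute.zpow_left xa k).eq,
    (Commute.zpow_left xb k).eq, ab⟩

end Cfsg.Agent.Lib.CA
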