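/-
CA-groups (S4369), piece A3: `w` centralises `B` when `B` has exponent 3.
-/
import Cfsg.Agent.Lib.CA.N0
import Cfsg.Agent.Lib.CA.SE
import Cfsg.Agent.Lib.AG.BoneG
import Cfsg.Agent.Lib.ZJ.Main

set_option autoImplicit false

namespace Cfsg.Agent.Lib.CA

open Subgroup Cfsg.Agent.Lib.Core Cfsg.Agent.Lib.AG Cfsg.Agent.Lib.AG.C2 Cfsg.Agent.Lib.ZJ
  Cfsg.Agent.Lib.Invol

variable {G X : Type*} [Group G] [Group X] {π : G →* X} {t s w : X} {K B : Subgroup X}

theorem cpow3 {a b c : G} (hc : c ∈ center G) (e : a * b * a⁻¹ = c * b) {n : ℕ}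
    (hn : b ^ n ∈ center G) : c ^ n = 1 := by
  have := congrArg (· ^ n) e
  simp only [conj_pow, (Commute.symm (mem_center_iff.1 hc b)).mul_pow] at this
  rw [mem_center_iff.1 hn a, mul_inv_cancel_right] at this
  exact mul_eq_right.1 this.symm

theorem MQ.cm3 (h : MQ π) {a b : G} (e : π a * π b = π b * π a) {m n : ℕ} (hmn : m.Coprime n)
    (ha : a ^ m ∈ center G) (hb : b ^ n ∈ center G) : a * b = b * a := by
  have hc : a * b * a⁻¹ * b⁻¹ ∈ center G := h.ker ▸ (by simp [MonoidHom.mem_ker, e])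
  have h1 := cpow3 (a := a) (b := b) hc (by group) hb
  have h2 := cpow3 (a := b) (b := a) (inv_mem hc) (by group) ha
  rw [inv_pow, inv_eq_one] at h2
  have := (pow_gcd_eq_one.2 ⟨h2, h1⟩)
  rw [hmn, pow_one, mul_inv_eq_one] at this
  exact mul_inv_eq_iff_eq_mul.1 this

theorem cube (h : V4 t s w) : w ^ 3 ∈ centralizer (Vf t s : Set X) := by
  have e : ∀ {a b c : X}, w * a * w⁻¹ = b → w * b * w⁻¹ = c → w * c * w⁻¹ = a → a * w ^ 3 = w ^ 3 * a :=
    fun {a b c} h1 h2 h3 => by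
      rw [← h2, ← h1] at h3
      conv_lhs => rw [← h3]
      simp [pow_succ, mul_assoc]
  exact mem_centralizer_Vf.2 ⟨e h.wt h.ws h.rot2.wt, e h.ws h.rot2.wt h.wt⟩

theorem tri [Finite X] (h : V4 t s w) {g : X} (hg : g ∈ normalizer (Vf t s : Set X)) :
    ∃ i : Fin 3, (w ^ i.val)⁻¹ * g ∈ centralizer (Vf t s : Set X) := by
  have e : ∀ {u a : X}, u * a * u⁻¹ = g * a * g⁻¹ → a * (u⁻¹ * g) = u⁻¹ * g * a := fun {u a} e => by
    rw [show a * (u⁻¹ * g) = u⁻¹ * (u * a * u⁻¹) * g by group, e]; group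
  rcases h.k4.norm_cases hg with c | ⟨c, d⟩ | ⟨c, d⟩
  · exact ⟨0, by simpa using c⟩
  · exact ⟨1, mem_centralizer_Vf.2 ⟨e (by simp [c, h.wt]), e (by simp [d, h.ws])⟩⟩
  · refine ⟨2, mem_centralizer_Vf.2 ⟨e ?_, e ?_⟩⟩
    · rw [c, ← h.ws, ← h.wt]; simp [pow_two, mul_assoc]
    · rw [d, ← h.rot2.wt, ← h.ws]; simp [pow_two, mul_assoc]

/-- the configuration of piece A3 -/
structure H3 (t s w : X) (K B : Subgroup X) : Prop extends VK t s w K B where
  hK : K ≠ ⊥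
  e3 : ∀ b ∈ B, b ^ 3 = 1
  ab : ∀ a ∈ B, ∀ b ∈ B, a * b = b * a
  f2 : ∀ y ∈ B, ∀ x ∈ K, x ≠ 1 → x * y = y * x → centralizer {t} ≤ centralizer ({y} : Set X)
  co : IsCoatom (centralizer ({t} : Set X))
  rad : Rad1 X

namespace H3

variable (h : H3 t s w K B)
include h

theorem BV {b u : X} (hb : b ∈ B) (hu : u ∈ Vf t s) : u * b = b * u :=
  mem_centralizer_Vf.2 ⟨h.Bt b hb, h.Bs b hb⟩ u hu

theorem dec0 {g : X} (hg : t * g = g * t) : ∃ x ∈ K, ∃ b ∈ B, ∃ u ∈ Vf t s, g = x * (b * u) := by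
  obtain ⟨x, hx, b, hb, e⟩ := h.cent g hg
  refine ⟨x, hx, b, hb, ?_⟩
  rcases e with e | e | e | e
  exacts [⟨1, one_mem _, by rw [e, mul_one]⟩, ⟨t, t_mem_Vf, by rw [e, mul_assoc]⟩,
    ⟨s, s_mem_Vf, by rw [e, mul_assoc]⟩, ⟨_, ts_mem_Vf, by rw [e, mul_assoc]⟩]

theorem bu {b u : X} (hb : b ∈ B) (hu : u ∈ Vf t s) : b * u ∈ centralizer (Vf t s : Set X) :=
  mul_mem (mem_centralizer_Vf.2 ⟨h.Bt b hb, h.Bs b hb⟩) (h.k4.le_centralizer hu)

theorem dec {g : X} (hg : g ∈ centralizer (Vf t s : Set X)) :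
    ∃ b ∈ B, g ^ 3 ∈ Vf t s ∧ g = b * g ^ 3 := by
  obtain ⟨x, hx, b, hb, u, hu, rfl⟩ := h.dec0 (mem_centralizer_Vf.1 hg).1
  obtain rfl : x = 1 := K_one h.toVK hx ((mul_mem_cancel_right (h.bu hb hu)).1 hg s s_mem_Vf)
  have : (1 * (b * u)) ^ 3 = u := by
    rw [one_mul, (Commute.symm (h.BV hb hu)).mul_pow, h.e3 b hb, one_mul, pow_succ, pow_two, h.k4.sq hu,
      one_mul]
  exact ⟨b, hb, by rwa [this], by rw [this, one_mul]⟩

theorem memB {g : X} (hg : g ∈ centralizer (Vf t s : Set X)) {k : ℕ} (e : g ^ 3 ^ k = 1) : g ∈ B := by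
  obtain ⟨b, hb, hu, d⟩ := h.dec hg
  rw [odd_sq (n := 3 ^ k) (Odd.pow (by decide)) (by rw [← pow_mul, mul_comm, pow_mul, e, one_pow])
    (h.k4.sq hu), mul_one] at d
  exact d ▸ hb

theorem cB {g c : X} (hg : g ∈ centralizer (Vf t s : Set X)) (hc : c ∈ B) : g * c = c * g := by
  obtain ⟨b, hb, hu, d⟩ := h.dec hg
  rw [d, mul_assoc, h.BV hc hu, ← mul_assoc, h.ab b hb c hc, mul_assoc]

variable [Finite X]

theorem nB {g c : X} (hg : g ∈ normalizer (Vf t s : Set X)) (hc : c ∈ B) : g * c * g⁻¹ ∈ B :=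
  h.memB (k := 1) (conj_mem_of_mem_normalizer (normalizer_le_normalizer_centralizer _ hg)
    (mem_centralizer_Vf.2 ⟨h.Bt c hc, h.Bs c hc⟩)) (by rw [pow_one, conj_pow, h.e3 c hc]; simp)

theorem hnpc : HasNormalPComplement 3 (normalizer (Vf t s : Set X)) := by
  have := Fact.mk Nat.prime_three
  refine Transfer.hasNormalPComplement_of_normal (N := (Vf t s).subgroupOf _) ?_ fun q => ?_
  · rw [Nat.card_congr (subgroupOfEquivOfLe le_normalizer).toEquiv, h.k4.card_Vf]; decide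
  obtain ⟨g, rfl⟩ := QuotientGroup.mk_surjective q
  refine ⟨2, (QuotientGroup.eq_one_iff (g ^ 3 ^ 2)).2 ?_⟩
  have : (g : X) ^ 3 ∈ centralizer (Vf t s : Set X) := by
    rcases h.k4.norm_cases g.2 with c | ⟨c, d⟩ | ⟨c, d⟩
    · exact pow_mem c 3
    · exact cube (h.k4.v4 h.simple c d)
    · obtain ⟨c, d⟩ := h.k4.inv_cycle c d
      simpa using cube (h.k4.v4 h.simple c d)
  obtain ⟨-, -, e, -⟩ := h.dec this
  rw [mem_subgroupOf, coe_pow, pow_two, pow_mul]
  exact e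

variable {b : X} (hb : b ∈ B) (b1 : b ≠ 1) (wb : w * b = b * w)
include hb b1 wb

theorem fpf {x : X} (hx : x ∈ K) (e : x * b = b * x) : x = 1 := by
  by_contra x1
  refine b1 (h.rad.central fun g => mem_C.1 ((h.co.2 _ (lt_of_le_of_ne (h.f2 b hb x hx x1 e) fun c => ?_)).ge
    (mem_top g)))
  exact h.ts (by rw [← h.wt, ← mem_C.1 (c.ge (mem_C.2 wb.symm)), mul_inv_cancel_right])

theorem centB {c : X} (hc : c ∈ B) (wc : w * c ≠ c * w) {g : X} (hg : ∀ a ∈ B, g * a = a * g) :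
    g ∈ centralizer (Vf t s : Set X) := by
  have := Fact.mk Nat.prime_three
  have nc : ¬ IsCyclic B := fun hB => by
    obtain ⟨a, ha⟩ := hB.exists_generator
    have o : ∀ y ∈ B, y ≠ 1 → Nat.card (zpowers y) = 3 := fun y hy y1 => by
      rw [Nat.card_zpowers, orderOf_eq_prime (h.e3 y hy) y1]
    have l : B ≤ zpowers (a : X) := fun y hy => by
      obtain ⟨k, e⟩ := ha ⟨y, hy⟩
      exact ⟨k, congrArg Subtype.val e⟩
    have := eq_of_le_of_card_ge ((zpowers_le.2 hb).trans l) (by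
      rw [o b hb b1, o a a.2 fun e => b1 (by simpa [e] using l hb)])
    obtain ⟨k, rfl⟩ := this.ge (l hc)
    exact wc (Commute.zpow_right wb k)
  have n3 : ¬ 3 ∣ Nat.card K := fun d => by
    have hn : zpowers b ≤ normalizer (K : Set X) := zpowers_le.2 (mem_normalizer_of_conj_mem (h.BK b hb))
    let φ : zpowers b →* MulAut K := K.normalizerMonoidHom.comp (inclusion hn)
    letI : MulDistribMulAction (zpowers b) K := MulDistribMulAction.compHom K φ
    obtain ⟨x, hx, x1⟩ := (isPGroup_zpowers (p := 3) (k := 1) (by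
      simpa using h.e3 b hb)).exists_fixed_point_of_prime_dvd_card_of_fixed_point K d
      (a := 1) fun g => smul_one g
    have : b * x * b⁻¹ = x := congrArg Subtype.val (hx ⟨b, mem_zpowers b⟩)
    exact x1 (Subtype.ext (h.fpf hb b1 wb x.2 (mul_inv_eq_iff_eq_mul.1 this).symm).symm)
  obtain ⟨n, hn⟩ := (isPGroup_of_forall_pow (p := 3) fun y hy => ⟨1, by simpa using h.e3 y hy⟩).exists_card_eq
  by_contra hV
  refine h.hK (le_bot_iff.1 (le_of_centralizers (A := B) ⟨⟨fun x y => Subtype.ext (h.ab x x.2 y y.2)⟩⟩ nc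
    (fun y hy => mem_normalizer_of_conj_mem (h.BK y hy))
    (hn ▸ ((Nat.prime_three.coprime_iff_not_dvd.2 n3).pow_left n)) fun z hz z1 x hx => ?_))
  by_contra x1
  have e : centralizer {z} ≤ centralizer ({t} : Set X) := by
    rcases (h.f2 z hz x hx.1 x1 (mem_C.1 hx.2).symm).eq_or_lt with e | e
    · exact e.ge
    · exact absurd (h.rad.central fun g => mem_C.1 ((h.co.2 _ e).ge (mem_top g))) z1
  refine hV (mem_centralizer_Vf.2 ⟨mem_C.1 (e (mem_C.2 (hg z hz).symm)), ?_⟩)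
  have := mem_C.1 (e (x := w⁻¹ * g * w) (mem_C.2 (by
    rw [show z * (w⁻¹ * g * w) = w⁻¹ * (w * z * w⁻¹ * g) * w by group, ← hg _ (h.nB h.w_norm hz)]; group)))
  rw [← h.wt, show w * t * w⁻¹ * g = w * (t * (w⁻¹ * g * w)) * w⁻¹ by group, this]; group

theorem le_N {c : X} (hc : c ∈ B) (wc : w * c ≠ c * w) {W : Subgroup X} (bW : b ∈ W) (WB : W ≤ B)
    (wW : w ∈ normalizer (W : Set X)) : normalizer (W : Set X) ≤ normalizer (Vf t s : Set X) := by
  set Y := normalizer (W : Set X)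
  set N := normalizer (Vf t s : Set X)
  have k := h.k4
  have CY : centralizer (Vf t s : Set X) ≤ Y := fun g hg =>
    mem_normalizer_of_conj_mem fun a ha => by rwa [h.cB hg (WB ha), mul_inv_cancel_right]
  have CN : centralizer (Vf t s : Set X) ≤ N := centralizer_le_normalizer _
  have tY := CY (k.le_centralizer t_mem_Vf)
  have sY := CY (k.le_centralizer s_mem_Vf)
  have c1 : ∀ y ∈ Y, t * y = y * t → y ∈ N := fun y hy e => by
    obtain ⟨x, hx, a, ha, u, hu, rfl⟩ := h.dec0 e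
    have m : x * b * x⁻¹ * b⁻¹ ∈ B := mul_mem (WB (conj_mem_of_mem_normalizer
      ((mul_mem_cancel_right (CY (h.bu ha hu))).1 hy) bW)) (inv_mem hb)
    have := K_one h.toVK (x := x * b * x⁻¹ * b⁻¹) (by
      simpa [mul_assoc] using mul_mem hx (h.BK b hb _ (inv_mem hx))) (h.Bs _ m)
    rw [h.fpf hb b1 wb hx (mul_inv_eq_iff_eq_mul.1 (mul_inv_eq_one.1 this)), one_mul]
    exact CN (h.bu ha hu)
  have c2 : ∀ j ∈ N, orderOf j = 2 → ∃ n ∈ Y ⊓ N, j = n * t * n⁻¹ := fun j hj j2 => by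
    have := Fact.mk Nat.prime_two
    have m : j ∈ Vf t s := zpowers_le.1 ((k.syl le_normalizer).le_of_le_normalizer'
      (isPGroup_zpowers (k := 1) (by rw [pow_one, ← j2, pow_orderOf_eq_one])) (zpowers_le.2 hj) (zpowers_le.2 hj))
    have wm : w ∈ Y ⊓ N := ⟨wW, h.w_norm⟩
    rcases k.mem_Vf.1 m with e | e | e | e
    · simp [e] at j2
    · exact ⟨1, one_mem _, by simp [e]⟩
    · exact ⟨w, wm, e.trans h.wt.symm⟩
    · exact ⟨w * w, mul_mem wm wm, by rw [e, ← h.ws, ← h.wt]; group⟩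
  by_contra hY
  have o : ∀ {j : X} (hj : j ∈ Y), j * j = 1 → j ≠ 1 → orderOf (⟨j, hj⟩ : Y) = 2 := fun hj e j1 => by
    rw [orderOf_mk]; exact orderOf_eq_prime (by rw [pow_two, e]) j1
  have tN : t ∈ N := le_normalizer t_mem_Vf
  have sN : s ∈ N := le_normalizer s_mem_Vf
  have se : Cfsg.IsStronglyEmbedded (N.subgroupOf Y) := by
    refine isStronglyEmbedded_iff.2 ⟨fun e => hY (subgroupOf_eq_top.1 e), ?_, fun g j hj j2 hg => ?_⟩
    · exact even_iff_two_dvd.2 (o tY h.tt h.t1 ▸ Subgroup.orderOf_dvd_natCard _ (x := (⟨t, tY⟩ : Y)) tN)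
    obtain ⟨n, hn, e⟩ := c2 j hj (by rw [orderOf_coe, j2])
    obtain ⟨m, hm, d⟩ := c2 (g * j * (g : X)⁻¹) hg (by rw [orderOf_conj', orderOf_coe, j2])
    have := c1 (m⁻¹ * g * n) (mul_mem (mul_mem (inv_mem hm.1) g.2) hn.1) (by
      rw [e] at d
      rw [show t * (m⁻¹ * g * n) = m⁻¹ * (m * t * m⁻¹) * g * n by group, ← d]; group)
    exact (N.mul_mem_cancel_left (N.inv_mem hm.2)).1 ((N.mul_mem_cancel_right hn.2).1 this)
  have k' := k.subtype tY sY
  have core : ∀ a (ha : a ∈ B), (⟨a, CY (mem_centralizer_Vf.2 ⟨h.Bt a ha, h.Bs a ha⟩)⟩ : Y) ∈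
      (N.subgroupOf Y).normalCore := fun a ha =>
    se3 se ⟨⟨t, tY⟩, tN, ⟨s, sY⟩, sN, o tY h.tt h.t1, o sY h.ss h.s1, k'.ts, k'.comm⟩
      (k'.syl (Vf_le.2 ⟨tN, sN⟩)) (CN (mem_centralizer_Vf.2 ⟨h.Bt a ha, h.Bs a ha⟩))
      (Odd.of_dvd_nat (by decide : Odd 3) (orderOf_dvd_of_pow_eq_one (Subtype.ext (h.e3 a ha))))
      fun u hu => (mem_centralizer_Vf.2 ⟨Subtype.ext (h.Bt a ha), Subtype.ext (h.Bs a ha)⟩ u hu).symm
  have odd := BS.P0.odd_of_le se (N.subgroupOf Y).normalCore_le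
  refine hY fun y hy => ?_
  have key : ∀ u ∈ Vf t s, y * u * y⁻¹ ∈ Vf t s := fun u hu => by
    have uY := CY (k.le_centralizer hu)
    obtain ⟨-, -, m, -⟩ := h.dec (h.centB hb b1 wb hc wc (g := y * u * y⁻¹) fun a ha => by
      have r := (normalCore_normal _).conj_mem' _ (core a ha) ⟨y, hy⟩
      have r2 := mul_mem r ((normalCore_normal _).conj_mem _ (inv_mem r) ⟨u, uY⟩)
      have := congrArg Subtype.val (odd_sq odd (pw_card r2) (Subtype.ext (k.sq (x := (y⁻¹ * a * y) * (u *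
        (y⁻¹ * a * y)⁻¹ * u⁻¹)) (by
          have rN : y⁻¹ * a * y ∈ N := normalCore_le (N.subgroupOf Y) r
          simpa [mul_assoc] using mul_mem (conj_mem_of_mem_normalizer rN hu) (inv_mem hu)))))
      change y⁻¹ * a * y * (u * (y⁻¹ * a * y)⁻¹ * u⁻¹) = 1 at this
      rw [show y * u * y⁻¹ * a = y * (y⁻¹ * a * y * (u * (y⁻¹ * a * y)⁻¹ * u⁻¹))⁻¹ * y⁻¹ * (a * (y * u * y⁻¹)) by
        group, this]
      group)
    rwa [conj_pow, pow_succ, pow_two, k.sq hu, one_mul] at m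
  exact k.mem_normalizer (key t t_mem_Vf) (key s s_mem_Vf)

end H3

theorem H3.main [Finite X] (h : H3 t s w K B) (w9 : w ^ 3 ^ 2 = 1) {c : X} (hc : c ∈ B) : w * c = c * w := by
  have := Fact.mk Nat.prime_three
  by_contra wc
  have B3 : IsPGroup 3 B := isPGroup_of_forall_pow fun y hy => ⟨1, by simpa using h.e3 y hy⟩
  obtain ⟨P, hP, wP⟩ := exists_isSyl_ge (isPGroup_zpowers w9) (zpowers_le.2 h.w_norm)
  rw [zpowers_le] at wP
  have BC : B ≤ centralizer (Vf t s : Set X) := fun a ha => mem_centralizer_Vf.2 ⟨h.Bt a ha, h.Bs a ha⟩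
  have PB : P ≤ normalizer (B : Set X) := fun g hg => mem_normalizer_of_conj_mem fun a => h.nB (hP.le hg)
  have BP := hP.le_of_le_normalizer B3 (BC.trans (centralizer_le_normalizer _)) PB
  obtain ⟨b, hb, b1⟩ := (bot_or_exists_ne_one _).resolve_left (inf_centralizer_ne_bot hP.isPGroup B3 PB
    fun e => wc (by rw [mem_bot.1 (e.le hc), mul_one, one_mul]))
  have wb : w * b = b * w := hb.2 w wP
  have PC : ∀ g ∈ P, g ∈ centralizer (Vf t s : Set X) → g ∈ B := fun g hg e =>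
    (pow_eq_one_of_isPGroup hP.isPGroup hg).elim fun _ => h.memB e
  have cP : Nat.card P ≤ Nat.card B * 3 := by
    have : Nat.card P ≤ Nat.card (B × Fin 3) := by
      choose i hi using fun g : P => tri h.toV4 (hP.le g.2)
      refine Nat.card_le_card_of_injective (fun g => (⟨_, PC _ (mul_mem (inv_mem (pow_mem wP _)) g.2) (hi g)⟩,
        i g)) fun a b e => ?_
      simp only [Prod.mk.injEq, Subtype.mk.injEq] at e
      rw [e.2] at e
      exact Subtype.ext (mul_left_cancel e.1)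
    simpa using this
  have mx : MaxAb 3 P B := ⟨BP, ⟨fun x hx y hy => h.ab y hy x hx, h.e3⟩, fun A hA ab => by
    have := FT.card_mul_le_of_lt hP.isPGroup (lt_of_le_of_ne hA fun e => wc (ab.1 (e.ge (BP hc)) w (e.ge wP)))
    omega⟩
  have l := h.le_N hb.1 b1 wb hc wc (mem_ZJT_of_center (BP hb.1) (h.e3 b hb.1) hb.2)
    (fun g hg => PC g (ZJT_le P hg) (h.centB hb.1 b1 wb hc wc fun a ha =>
      (ZJT_le_centralizer P hg a (mx.le_JT ha)).symm)) (le_normalizer_ZJT P wP)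
  have := Transfer.hasNormalPComplement_iff_not_dvd.1 (hnpc_of_normalizer_ZJT (by decide) dvd_rfl
    (isSyl_of_isSyl_normalizer (hP.mono (le_inf le_top le_normalizer)
      (inf_le_right.trans ((normalizer_le_normalizer_ZJT P).trans l))))
    (Transfer.hasNormalPComplement_of_le h.hnpc l))
  rcases h.simple.eq_bot_or_eq_top_of_normal _ (Transfer.pResidual_normal (p := 3)) with e | e
  · exact h.t1 (mem_bot.1 (e.le (Transfer.mem_pResidual_of_coprime
      (Nat.Coprime.of_dvd_left (orderOf_dvd_of_pow_eq_one (by rw [pow_two, h.tt])) (by decide)))))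
  · rw [e, card_top] at this
    exact this (orderOf_eq_prime (h.e3 b hb.1) b1 ▸ orderOf_dvd_natCard b)

theorem MQ.h3 [Finite G] [Finite X] (h : MQ π) (hT : Ab2 G) (v : VK t s w K B) (hK : K ≠ ⊥)
    (e3 : ∀ b ∈ B, b ^ 3 = 1) : ∀ b ∈ B, w * b = b * w := by
  have := Fact.mk Nat.prime_two
  have k := v.k4
  obtain ⟨T, hS⟩ := exists_isSyl 2 ((Vf t s).comap π)
  have e := hS.map π
  rw [map_comap_eq_self_of_surjective h.surj] at e
  have e := e.eq_of_le k.two e.le le_rfl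
  obtain ⟨t', tT, rfl⟩ := e.le t_mem_Vf
  obtain ⟨s', sT, rfl⟩ := e.le s_mem_Vf
  obtain ⟨m, tm⟩ := pow_eq_one_of_isPGroup hS.isPGroup tT
  obtain ⟨n, sn⟩ := pow_eq_one_of_isPGroup hS.isPGroup sT
  have ts := hT T hS.isPGroup _ tT _ sT
  have c3 : ∀ {a y : G} {n : ℕ}, a ^ 2 ^ n = 1 → π y ∈ B → π a * π y = π y * π a → a * y = y * a :=
    fun {a y n} e hy c => h.cm3 c (Nat.Coprime.pow_left n (by decide : Nat.Coprime 2 3)) (e ▸ one_mem _)
      (h.eq_one.1 (by rw [map_pow, e3 _ hy]))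
  have bad : Bad t' := by
    obtain ⟨x, hx, x1⟩ := (bot_or_exists_ne_one K).resolve_left hK
    obtain ⟨x, rfl⟩ := h.surj x
    exact ⟨fun c => v.t1 (h.eq_one.2 c), s', x, ts, h.cm3 (v.Kt _ hx) (Nat.Coprime.pow_left m
      (Nat.coprime_two_left.2 v.Kodd)) (tm ▸ one_mem _) (h.eq_one.1 (by rw [map_pow, pw_card hx])),
      fun c => x1 (K_one v hx (by rw [← map_mul, c, map_mul]))⟩
  have st : ∀ g, π t' * π g = π g * π t' → g ∈ centralizer {t'} := fun g e =>
    mem_C.2 (h.star bad (by rw [← e, mul_inv_cancel_right]; exact mem_zpowers _))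
  have H : H3 (π t') (π s') w K B := ⟨v, hK, e3, fun a ha b hb => ?_, fun y hy x hx x1 e g hg => ?_,
    (h.cent bad).2, h.rad⟩
  · obtain ⟨-, -, m, -⟩ := H.dec (cube v.toV4)
    rw [← pow_mul] at m
    have c := k.le_centralizer m
    have cj : ∀ u ∈ Vf (π t') (π s'), w ^ (3 * 3) * w * (w⁻¹ * u * w) * (w ^ (3 * 3) * w)⁻¹ = u := fun u hu => by
      rw [show w ^ (3 * 3) * w * (w⁻¹ * u * w) * (w ^ (3 * 3) * w)⁻¹ = w ^ (3 * 3) * u * (w ^ (3 * 3))⁻¹ by group,
        ← c u hu, mul_inv_cancel_right]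
    have H' : H3 (π t') (π s') (w ^ (3 * 3) * w) K B :=
      { H with
        wt := by simpa [← v.wt, mul_assoc] using cj _ s_mem_Vf
        ws := by
          have := cj _ ts_mem_Vf
          rwa [← v.ws, show w⁻¹ * (w * π s' * w⁻¹) * w = π s' by group, v.ws] at this
        gen := fun hK => top_le_iff.1 ((v.gen hK).ge.trans (sup_le le_sup_left (zpowers_le.2
          ((mul_mem_cancel_left (mem_sup_left (K4.cent_le_C c))).1 (mem_sup_right (mem_zpowers _)))))) }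
    intro b hb
    have := H'.main (by
      rw [← pow_succ, ← pow_mul, show (3 * 3 + 1) * 3 ^ 2 = 3 * 3 * 2 * 5 by rfl, pow_mul, pow_mul _ _ 2, pow_two,
        k.sq m, one_pow]) hb
    rwa [← mul_assoc, ← H.BV hb m, mul_assoc, mul_assoc, mul_right_inj] at this
  · obtain ⟨a, rfl⟩ := h.surj a
    obtain ⟨b, rfl⟩ := h.surj b
    obtain ⟨w, rfl⟩ := h.surj w
    have CN := centralizer_le_normalizer (Vf (π t') (π s') : Set X)
    by_contra ab
    have := h.le_cent (H := (normalizer (Vf (π t') (π s') : Set X)).comap π) (x := t') (a := a) (b := b)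
      (fun e => v.t1 (mem_bot.1 ((h.rad _ (comap_injective h.surj (e.trans (comap_top π).symm) ▸ inferInstance)
        k.solv_norm).le (le_normalizer t_mem_Vf))))
      (le_normalizer t_mem_Vf) (CN (mem_centralizer_Vf.2 ⟨v.Bt _ ha, v.Bs _ ha⟩))
      (CN (mem_centralizer_Vf.2 ⟨v.Bt _ hb, v.Bs _ hb⟩)) (c3 tm ha (v.Bt _ ha)) (c3 tm hb (v.Bt _ hb))
      (fun e => ab (by rw [← map_mul, e, map_mul]))
    exact v.ts (by rw [← v.wt, ← map_mul, ← mem_C.1 (@this w v.w_norm), map_mul, mul_inv_cancel_right])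
  · obtain ⟨y, rfl⟩ := h.surj y
    obtain ⟨x, rfl⟩ := h.surj x
    obtain ⟨g, rfl⟩ := h.surj g
    have := h.le_cent (cent_ne_top bad.1) (st y (v.Bt _ hy)) (mem_C.2 ts)
      (mul_mem (mul_mem (st x (v.Kt _ hx)) (mem_C.2 ts)) (inv_mem (st x (v.Kt _ hx))))
      (c3 sn hy (v.Bs _ hy)).symm (c3 (n := n) (by rw [conj_pow, sn]; simp) hy (by
        simp only [map_mul, map_inv]
        exact ((Commute.mul_left e (v.Bs _ hy)).mul_left (Commute.inv_left e)).eq)).symm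
      (fun c => x1 (odd_sq v.Kodd (pw_card hx) (K_one v (mul_mem hx hx) (by
        have c := congrArg π c
        simp only [map_mul, map_inv] at c
        rw [← mul_assoc, ← mul_assoc, v.Ks _ hx, mul_assoc (π x), mul_assoc (π x), v.Ks _ (inv_mem hx), inv_inv,
          ← mul_inv_rev, ← v.Ks _ (mul_mem hx hx)] at c
        conv_rhs => rw [← c, mul_assoc, v.ss, mul_one])))) (st g (mem_C.1 hg))
    exact mem_C.2 (by rw [← map_mul, mem_C.1 this, map_mul])

end Cfsg.Agent.Lib.CA
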