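/-
CA-groups (S4369): abelian Sylow 2-subgroups, the structure of `C(t)`.
-/
import Cfsg.Agent.Lib.CA.A2
import Cfsg.Agent.BS.Ch1a

set_option autoImplicit false
set_option linter.unusedSectionVars false

namespace Cfsg.Agent.Lib.CA

open Subgroup Cfsg.Agent.Lib.Core Cfsg.Agent.Lib.AG

variable {X : Type*} [Group X] [Finite X] {t s w : X}

theorem eq_one_of_cop {x : X} {m n : ℕ} (h : m.Coprime n) (h1 : x ^ m = 1) (h2 : x ^ n = 1) : x = 1 := by
  have := Nat.dvd_gcd (orderOf_dvd_of_pow_eq_one h1) (orderOf_dvd_of_pow_eq_one h2)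
  rwa [h.gcd_eq_one, Nat.dvd_one, orderOf_eq_one_iff] at this

theorem inv_pw (ss : s * s = 1) {i : X} (e : s * i * s = i⁻¹) (n : ℕ) : s * i ^ n * s = (i ^ n)⁻¹ := by
  have := inv_eq_of_mul_eq_one_right ss
  nth_rewrite 2 [← this] at e ⊢
  rw [← conj_pow, e, inv_pow]

theorem inv_iv (ss : s * s = 1) {i : X} (e : s * i * s = i⁻¹) : s * i⁻¹ * s = i := by
  rw [← e, ← mul_assoc, ← mul_assoc, ss, one_mul, mul_assoc, ss, mul_one]

namespace AY

variable (h : AY t) (k : K4 t s)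
include h k

theorem memV {j : X} (jj : j * j = 1) (h1 : t * j = j * t) (h2 : s * j = j * s) : j ∈ Vf t s :=
  (k.syl le_top).le_of_le_normalizer' (isPGroup_zpowers (k := 1) (by rwa [pow_one, pow_two])) le_top
    (zpowers_le.2 (centralizer_le_normalizer _ (mem_centralizer_Vf.2 ⟨h1, h2⟩))) (mem_zpowers j)

theorem nil_le {P : Subgroup X} (hP : Group.IsNilpotent P) (PM : P ≤ centralizer {t}) {y : X} (hy : y ∈ P)
    (ys : s * y = y * s) (yc : ¬ centralizer {t} ≤ centralizer ({y} : Set X)) : P ≤ centralizer {s} := by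
  by_contra c
  obtain ⟨n, ⟨nP, nN⟩, nD⟩ := SetLike.exists_of_lt (lt_inf_normalizer_of_isNilpotent hP (inf_lt_left.2 c))
  have nt := mem_C.1 (PM nP)
  have y' := (mem_normalizer_iff.1 nN y).1 ⟨hy, mem_C.2 ys⟩
  have sM : s ∈ centralizer ({t} : Set X) := mem_C.2 k.comm
  have jj : n * s * n⁻¹ * (n * s * n⁻¹) = 1 := by rw [conj_mul, k.ss]; simp
  have jM : n * s * n⁻¹ ∈ centralizer ({t} : Set X) := mul_mem (mul_mem (PM nP) sM) (inv_mem (PM nP))
  have := (h.ca2 _ h.coatom.1 _ (PM y'.1) s sM _ jM k.ss jj (mem_C.1 y'.2).symm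
    ((conj_mul.trans (by rw [ys])).trans conj_mul.symm)).resolve_right fun e => yc fun g hg => mem_C.2 (by
      have := mem_C.1 (e (mul_mem (mul_mem (PM nP) hg) (inv_mem (PM nP))))
      rw [conj_mul, conj_mul] at this
      simpa using this)
  have e1 : n * t * n⁻¹ = t := by rw [← nt]; simp
  rcases k.norm_cases (k.mem_normalizer (e1.symm ▸ t_mem_Vf) (h.memV k jj (mem_C.1 jM) this)) with e | e | e
  · exact nD ⟨nP, mem_C.2 (mem_centralizer_Vf.1 e).2⟩
  · exact k.ts (e1.symm.trans e.1)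
  · exact k.ts_ne_t (e.1.symm.trans e1)

variable (wt : w * t * w⁻¹ = s) (ws : w * s * w⁻¹ = t * s)
include wt ws

theorem nC : ¬ centralizer ({t} : Set X) ≤ centralizer {s} := fun e => by
  have nN := h.rad.norm_ne (isSolvable_of_isPGroup k.two) fun e => k.t1 (mem_bot.1 (e ▸ t_mem_Vf))
  have := (h.coatom.le_iff.1 (show centralizer {t} ≤ normalizer (Vf t s : Set X) from fun g hg =>
    centralizer_le_normalizer _ (mem_centralizer_Vf.2 ⟨mem_C.1 hg, mem_C.1 (e hg)⟩))).resolve_left nN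
  have := mem_C.1 (this.le (k.mem_normalizer (wt.symm ▸ s_mem_Vf) (ws.symm ▸ ts_mem_Vf)))
  exact k.ts (by rw [← wt, ← this]; simp)

theorem move {c : X} (c1 : c ≠ 1) (hc : centralizer {t} ≤ centralizer ({c} : Set X)) :
    t * (w * c * w⁻¹) = w * c * w⁻¹ * t ∧ s * (w * c * w⁻¹) = w * c * w⁻¹ * s ∧
      ¬ centralizer {t} ≤ centralizer ({w * c * w⁻¹} : Set X) := by
  have cj : ∀ {a : X}, t * a = a * t → w * a * w⁻¹ * (w * c * w⁻¹) = w * c * w⁻¹ * (w * a * w⁻¹) := fun e =>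
    (conj_mul.trans (by rw [mem_C.1 (hc (mem_C.2 e))])).trans conj_mul.symm
  refine ⟨?_, wt ▸ cj rfl, fun e => h.nC k wt ws fun g hg => ?_⟩
  · have := cj (a := t * s) (by rw [mul_assoc, ← k.comm])
    rwa [← conj_mul (a := t) (b := w), wt, ws, k.s_ts] at this
  · have := mem_C.1 ((h.cent_eq c1 hc).le (mem_C.2 (show c * (w⁻¹ * g * w) = w⁻¹ * g * w * c by
      calc _ = w⁻¹ * (w * c * w⁻¹ * g) * w := by group
        _ = _ := by rw [mem_C.1 (e hg)]; group)))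
    refine mem_C.2 ?_
    rw [← wt]
    calc _ = w * (t * (w⁻¹ * g * w)) * w⁻¹ := by group
      _ = _ := by rw [this]; group

theorem exists_K : ∃ K : Subgroup X, K ≤ OppOf 2 (centralizer {t}) ∧
    (∀ x ∈ OppOf 2 (centralizer {t}), x ∈ K ↔ s * x * s = x⁻¹) ∧ centralizer {t} ≤ normalizer (K : Set X) := by
  set U := OppOf 2 (centralizer ({t} : Set X))
  set F := fittingOf U
  have UM : U ≤ centralizer {t} := OppOf_le _
  have oU : Odd (Nat.card U) := Nat.not_even_iff_odd.1 (mt Even.two_dvd (OppOf_not_dvd _))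
  have FU : F ≤ U := fittingOf_le _
  have oF : Odd (Nat.card F) := oU.of_dvd_nat (card_dvd_of_le FU)
  have nU : centralizer {t} ≤ normalizer (U : Set X) := le_normalizer_OppOf le_normalizer
  have nF : centralizer {t} ≤ normalizer (F : Set X) := le_normalizer_fittingOf nU
  have sM : s ∈ centralizer ({t} : Set X) := mem_C.2 k.comm
  have CF := inf_centralizer_fittingOf_le_of_isSolvable (solv_O (centralizer ({t} : Set X)))
  have one : ∀ x ∈ U, s * x * s = x⁻¹ → s * x = x * s → x = 1 := fun x hx e1 e2 => by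
    rw [e2, mul_assoc, k.ss, mul_one] at e1
    exact eq_one_of_cop (Nat.coprime_two_left.2 oU) (by rw [pow_two]; nth_rewrite 1 [e1]; simp)
      (orderOf_dvd_iff_pow_eq_one.1 (U.orderOf_dvd_natCard hx))
  have dec : ∀ {D : Subgroup X}, Odd (Nat.card D) → s ∈ normalizer (D : Set X) → ∀ d ∈ D, ∃ c ∈ D, ∃ i ∈ D,
      s * c = c * s ∧ s * i * s = i⁻¹ ∧ d = c * i := fun oD hn d hd => by
    obtain ⟨⟨c, i⟩, ⟨h1, ⟨h2, h3⟩, h4⟩, -⟩ := BS.C1a.exists_VK oD k.ss hn hd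
    exact ⟨c, h1.1, i, h2, mem_C.1 h1.2, (by rwa [k.sinv] at h3), h4⟩
  have sq : ∀ i ∈ U, s * i * s = i⁻¹ → ∃ j ∈ U, i = j * s * j⁻¹ * s := fun i hi e => by
    obtain ⟨n, hn⟩ := oU
    refine ⟨i ^ (n + 1), pow_mem hi _, ?_⟩
    have := inv_iv k.ss (inv_pw k.ss e (n + 1))
    rw [mul_assoc, mul_assoc, ← mul_assoc s, this, ← pow_add, show n + 1 + (n + 1) = Nat.card U + 1 by omega,
      pow_succ, orderOf_dvd_iff_pow_eq_one.1 (U.orderOf_dvd_natCard hi), one_mul]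
  have FZ : ∀ y ∈ F, s * y = y * s → centralizer {t} ≤ centralizer ({y} : Set X) := fun y hy e => by
    by_contra c
    have l := h.nil_le k (fittingOf_isNilpotent U) (FU.trans UM) hy e c
    refine h.nC k wt ws (k.cent_eq.ge.trans (sup_le (fun u hu => ?_) (Vf_le.2 ⟨mem_C.2 k.comm.symm, mem_C.2 rfl⟩)))
    obtain ⟨c, hc, i, hi, e1, e2, rfl⟩ := dec oU (nU sM) u hu
    obtain ⟨j, hj, e3⟩ := sq i hi e2
    have iF : i ∈ F := CF ⟨hi, mem_centralizer_iff.2 fun x hx => by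
      have a1 := mem_C.1 (l hx)
      have a2 := mem_C.1 (l ((mem_normalizer_iff.1 (nF (inv_mem (UM hj))) x).1 hx))
      rw [e3]
      calc _ = j * (j⁻¹ * x * j⁻¹⁻¹ * s) * j⁻¹ * s := by group
        _ = j * s * j⁻¹ * (x * s) := by rw [← a2]; group
        _ = _ := by rw [← a1]; group⟩
    rw [one i hi e2 (mem_C.1 (l iF)), mul_one]; exact mem_C.2 e1
  have cop : ∀ a ∈ F, s * a * s = a⁻¹ → ∀ c ∈ U, centralizer {t} ≤ centralizer ({c} : Set X) →
      (orderOf a).Coprime (orderOf c) := fun a ha e c hc cc => Nat.coprime_of_dvd fun r hr d1 d2 => by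
    have := Fact.mk hr
    have o1 := orderOf_pow_orderOf_div (orderOf_pos a).ne' d1
    have o2 := orderOf_pow_orderOf_div (orderOf_pos c).ne' d2
    generalize orderOf a / r = m at o1
    generalize orderOf c / r = n at o2
    obtain ⟨y1, y2, y3⟩ := h.move k wt ws (c := c ^ n) (fun e => hr.one_lt.ne' (by rw [← o2, e, orderOf_one]))
      fun g hg => mem_C.2 (Commute.pow_left (mem_C.1 (cc hg)) n)
    have py : IsPGroup r (zpowers (w * c ^ n * w⁻¹)) := isPGroup_zpowers (k := 1) (by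
      rw [pow_one, conj_pow, ← o2, pow_orderOf_eq_one]; simp)
    have l := h.nil_le k (P := zpowers (w * c ^ n * w⁻¹) ⊔ OpOf r U)
      (isPGroup_sup_of_le_normalizer py (OpOf_isPGroup U) (le_normalizer_OpOf
        ((zpowers_le.2 (mem_C.2 y1)).trans nU))).isNilpotent
      (sup_le (zpowers_le.2 (mem_C.2 y1)) ((OpOf_le U).trans UM)) (mem_sup_left (mem_zpowers _)) y2 y3
    have := one (a ^ m) (pow_mem (FU ha) m) (inv_pw k.ss e m) (mem_C.1 (l (mem_sup_right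
        (le_OpOf_of_le_fittingOf (isPGroup_zpowers (k := 1) (by rw [pow_one, ← o1, pow_orderOf_eq_one]))
          (zpowers_le.2 (pow_mem ha m)) (mem_zpowers _)))))
    exact hr.one_lt.ne' (by rw [← o1, this, orderOf_one])
  have cm : ∀ a ∈ F, s * a * s = a⁻¹ → ∀ b ∈ F, s * b * s = b⁻¹ → a * b = b * a := fun a ha e1 b hb e2 => by
    obtain ⟨z, hz, i, hi, e3, e4, e5⟩ := dec oF (nF sM) _ (mul_mem ha hb)
    have zc : ∀ g ∈ F, Commute z g := fun g hg => mem_C.1 (FZ z hz e3 (UM (FU hg)))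
    have e6 : a⁻¹ * b⁻¹ = z * i⁻¹ := by
      rw [← e1, ← e2, ← e4]
      calc _ = s * (a * (s * s) * b) * s := by group
        _ = _ := by rw [k.ss, mul_one, e5, ← mul_assoc, e3]; group
    have e7 : b⁻¹ * a * b = z * z * a := by
      calc _ = b⁻¹ * (a * b) := by group
        _ = b⁻¹ * (z * z * (z * i⁻¹)⁻¹) := by
          rw [e5, mul_inv_rev, inv_inv, ← (zc i hi).inv_left.eq]; group
        _ = _ := by rw [← e6, ← mul_assoc, ← ((zc b hb).mul_left (zc b hb)).inv_right.eq]; group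
    have e8 := congrArg (· ^ orderOf a) e7
    simp only [((zc a ha).mul_left (zc a ha)).mul_pow, pow_orderOf_eq_one, mul_one] at e8
    rw [show b⁻¹ * a * b = b⁻¹ * a * b⁻¹⁻¹ by simp, conj_pow, pow_orderOf_eq_one] at e8
    have := eq_one_of_cop (cop a ha e1 (z * z) (FU (mul_mem hz hz)) fun g hg => mem_C.2
      (Commute.mul_left (mem_C.1 (FZ z hz e3 hg)) (mem_C.1 (FZ z hz e3 hg)))) (by simpa using e8.symm)
      (pow_orderOf_eq_one _)
    rw [this, one_mul, mul_assoc, inv_mul_eq_iff_eq_mul] at e7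
    exact e7
  let K : Subgroup X :=
    { carrier := {x | x ∈ F ∧ s * x * s = x⁻¹}
      one_mem' := ⟨one_mem _, by simp [k.ss]⟩
      mul_mem' := fun {a b} ha hb => ⟨mul_mem ha.1 hb.1, by
        rw [cm a ha.1 ha.2 b hb.1 hb.2, mul_inv_rev, ← ha.2, ← hb.2, ← cm a ha.1 ha.2 b hb.1 hb.2]
        calc _ = s * a * (s * s) * b * s := by rw [k.ss]; group
          _ = _ := by group⟩
      inv_mem' := fun {a} ha => ⟨inv_mem ha.1, by rw [inv_iv k.ss ha.2, inv_inv]⟩ }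
  have nK : centralizer {t} ≤ normalizer (K : Set X) := fun g hg => mem_normalizer_fintype fun x hx => by
    have m := (mem_normalizer_iff.1 (nF hg) x).1 hx.1
    obtain ⟨z, hz, i, hi, e3, e4, e5⟩ := dec oF (nF sM) _ m
    have zc := FZ z hz e3
    have c := (cop x hx.1 hx.2 z (FU hz) zc).mul_left (cop i hi e4 z (FU hz) zc)
    have e6 := congrArg (· ^ (orderOf x * orderOf i)) e5
    simp only [conj_pow, (show Commute z i from mem_C.1 (zc (UM (FU hi)))).mul_pow] at e6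
    rw [pow_mul, pow_orderOf_eq_one, one_pow, mul_comm (orderOf x), pow_mul i, pow_orderOf_eq_one, one_pow,
      mul_one, mul_one, mul_inv_cancel, mul_comm] at e6
    rw [e5, eq_one_of_cop c e6.symm (pow_orderOf_eq_one z), one_mul]
    exact ⟨hi, e4⟩
  refine ⟨K, fun x hx => FU hx.1, fun i hi => ⟨fun e => e.2, fun e => ⟨?_, e⟩⟩, nK⟩
  obtain ⟨j, hj, e3⟩ := sq i hi e
  refine CF ⟨hi, mem_centralizer_iff.2 fun x hx => ?_⟩
  obtain ⟨z, hz, y, hy, e4, e5, rfl⟩ := dec oF (nF sM) x hx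
  have a := ((mem_normalizer_iff.1 (nK (inv_mem (UM hj))) y⁻¹).1 (inv_mem (⟨hy, e5⟩ : y ∈ K))).2
  have b : i * y = y * i := by
    rw [e3]
    calc _ = j * s * j⁻¹ * (s * y * s) * s⁻¹ := by group
      _ = j * (s * (j⁻¹ * y⁻¹ * j⁻¹⁻¹) * s) * s⁻¹ * j⁻¹ * s⁻¹ := by rw [e5]; group
      _ = _ := by rw [a, k.sinv]; group
  rw [mul_assoc, ← b, ← mul_assoc, mem_C.1 (FZ z hz e4 (UM hi)), mul_assoc]

theorem vk : ∃ K B : Subgroup X, VK t s w K B ∧ K ≠ ⊥ := by
  obtain ⟨K, KU, mK, nK⟩ := h.exists_K k wt ws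
  set U := OppOf 2 (centralizer ({t} : Set X))
  have UM : U ≤ centralizer {t} := OppOf_le _
  have oU : Odd (Nat.card U) := Nat.not_even_iff_odd.1 (mt Even.two_dvd (OppOf_not_dvd _))
  have nU : centralizer {t} ≤ normalizer (U : Set X) := le_normalizer_OppOf le_normalizer
  have sM : s ∈ centralizer ({t} : Set X) := mem_C.2 k.comm
  have Ks : ∀ x ∈ K, s * x * s = x⁻¹ := fun x hx => (mK x (KU hx)).1 hx
  have sq : ∀ x ∈ K, x * x = 1 → x = 1 := fun x hx e => eq_one_of_cop (Nat.coprime_two_left.2 oU)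
    (by rwa [pow_two]) (orderOf_dvd_iff_pow_eq_one.1 (U.orderOf_dvd_natCard (KU hx)))
  have one : ∀ x ∈ K, s * x = x * s → x = 1 := fun x hx e => sq x hx (by
    have := Ks x hx
    rw [e, mul_assoc, k.ss, mul_one] at this
    nth_rewrite 1 [this]; simp)
  have dec : ∀ u ∈ U, ∃ x ∈ K, ∃ b ∈ U ⊓ centralizer {s}, u = x * b := fun u hu => by
    obtain ⟨⟨c, i⟩, ⟨h1, ⟨h2, h3⟩, h4⟩, -⟩ := BS.C1a.exists_VK oU k.ss (nU sM) (inv_mem hu)
    exact ⟨i⁻¹, inv_mem ((mK i h2).2 ((by rwa [k.sinv] at h3))), c⁻¹, inv_mem h1, by rw [← mul_inv_rev, ← h4, inv_inv]⟩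
  obtain ⟨x0, hx0, x1⟩ : ∃ x ∈ K, x ≠ 1 := by
    by_contra! c
    refine h.nC k wt ws (k.cent_eq.ge.trans (sup_le (fun u hu => ?_)
      (Vf_le.2 ⟨mem_C.2 k.comm.symm, mem_C.2 rfl⟩)))
    obtain ⟨x, hx, b, hb, rfl⟩ := dec u hu
    rw [c x hx, one_mul]; exact hb.2
  have wM : w ∉ centralizer ({t} : Set X) := fun e => k.ts (by rw [← wt, ← mem_C.1 e]; simp)
  have : Nontrivial X := ⟨⟨t, 1, k.t1⟩⟩
  refine ⟨K, U ⊓ centralizer {s}, ⟨k.v4 ⟨fun L hL => or_iff_not_imp_left.2 fun L1 => by_contra fun L2 => ?_⟩ wt ws,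
    oU.of_dvd_nat (card_dvd_of_le KU), oU.of_dvd_nat (card_dvd_of_le inf_le_left),
    fun x hx => mem_C.1 (UM (KU hx)), Ks, fun b hb => mem_C.1 (UM hb.1), fun b hb => mem_C.1 hb.2,
    fun b hb x hx => (mem_normalizer_iff.1 (nK (UM hb.1)) x).1 hx, fun g hg => ?_, fun x hx x1 g e => ?_,
    fun _ => h.coatom.2 _ (left_lt_sup.2 fun e => wM (e (mem_zpowers w)))⟩,
    fun e => x1 (mem_bot.1 (e ▸ hx0))⟩
  · obtain ⟨tL, sL⟩ := Vf_le.1 (k.le_of_nsolv le_top (Subn.of_normal le_top (normalizer_eq_top_iff.2 hL).ge) fun e => L1 (h.rad L hL e))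
    have xL : x0 * x0 ∈ L := by
      have := mul_mem (hL.conj_mem s sL x0) sL
      rwa [mul_assoc, mul_assoc, ← mul_assoc s, inv_iv k.ss (Ks x0 hx0)] at this
    have := (h.ca L L2 t tL s sL _ xL k.tt k.comm (mem_C.1 (UM (KU (mul_mem hx0 hx0))))).resolve_left
      fun e => x1 (sq _ hx0 (one _ (mul_mem hx0 hx0) e))
    have := mem_C.1 (this (hL.conj_mem _ xL w⁻¹))
    refine x1 (sq _ hx0 (one _ (mul_mem hx0 hx0) ?_))
    rw [← wt]
    calc _ = w * (t * (w⁻¹ * (x0 * x0) * w⁻¹⁻¹)) * w⁻¹ := by group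
      _ = _ := by rw [this]; group
  · have := k.cent_eq.ge (mem_C.2 hg)
    rw [← SetLike.mem_coe, coe_mul_of_right_le_normalizer_left _ _ (k.Vf_le_C.trans nU)] at this
    obtain ⟨u, hu, v, hv, rfl⟩ := this
    obtain ⟨x, hx, b, hb, rfl⟩ := dec u hu
    refine ⟨x, hx, b, hb, ?_⟩
    rcases k.mem_Vf.1 hv with rfl | rfl | rfl | rfl <;> simp
  · have xt := mem_C.1 (UM (KU hx))
    have c := h.nb x s g⁻¹ xt (k.sinv.symm ▸ Ks x hx) (fun e => x1 (sq x hx e)) (Commute.inv_right e)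
    by_contra ne
    have jj : g⁻¹ * t * g⁻¹⁻¹ * (g⁻¹ * t * g⁻¹⁻¹) = 1 := by rw [conj_mul, k.tt]; simp
    obtain ⟨m, hm, l⟩ := (k.syl k.Vf_le_C).exists_conj_le (isPGroup_zpowers (k := 1) (by rwa [pow_one, pow_two]))
      (zpowers_le.2 (mem_C.2 c))
    have y := (mem_normalizer_iff.1 (nK hm) x).1 hx
    have cy : m * (g⁻¹ * t * g⁻¹⁻¹) * m⁻¹ * (m * x * m⁻¹) = m * x * m⁻¹ * (m * (g⁻¹ * t * g⁻¹⁻¹) * m⁻¹) := by
      rw [conj_mul, conj_mul]
      calc _ = m * (g⁻¹ * t * (g * x)) * m⁻¹ := by group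
        _ = m * (g⁻¹ * x * t * g) * m⁻¹ := by rw [← e, ← mul_assoc _ x, mul_assoc g⁻¹ t, xt]; group
        _ = _ := by rw [(Commute.inv_right e).symm.eq]; group
    have y1 : m * x * m⁻¹ ≠ 1 := by simpa using x1
    rcases k.mem_Vf.1 (l (mem_map_of_mem _ (mem_zpowers _))) with e1 | e1 | e1 | e1
    · exact k.t1 (by simpa [mul_assoc] using congrArg (g * m⁻¹ * · * m * g⁻¹) (show m * _ * m⁻¹ = 1 from e1))
    · change m * _ * m⁻¹ = t at e1
      rw [mul_inv_eq_iff_eq_mul, mem_C.1 hm, mul_left_cancel_iff, inv_inv, mul_assoc, inv_mul_eq_iff_eq_mul] at e1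
      exact ne e1
    · exact y1 (one _ y (by rwa [show m * (g⁻¹ * t * g⁻¹⁻¹) * m⁻¹ = s from e1] at cy))
    · rw [show m * (g⁻¹ * t * g⁻¹⁻¹) * m⁻¹ = t * s from e1, mul_assoc, ← mul_assoc (m * x * m⁻¹),
        ← mem_C.1 (UM (KU y)), mul_assoc t _ s, mul_left_cancel_iff] at cy
      exact y1 (one _ y cy)

end AY

theorem MQ.vk0 {G : Type*} [Group G] [Finite G] {π : G →* X} (h : MQ π) (hT : Ab2 G) (hn : ¬ NB2 G) :
    ∃ (t s w : X) (K B : Subgroup X), VK t s w K B ∧ K ≠ ⊥ ∧ AY t := by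
  obtain ⟨t, a⟩ := h.ay hT hn
  obtain ⟨s, k⟩ := a.k4
  obtain ⟨w, -, wt, ws⟩ := k.exists_cycle le_top a.nsolv
  obtain ⟨K, B, v, hK⟩ := a.vk k wt ws
  exact ⟨t, s, w, K, B, v, hK, a⟩

end Cfsg.Agent.Lib.CA
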