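/-
CA-groups (S4369): group theory of `C(t) = K ⋊ (V × B)` (variant of `AG/BoneG` without `AG`).
-/
import Cfsg.Agent.Lib.AG.Bone

set_option autoImplicit false

namespace Cfsg.Agent.Lib.AG.C2

open Subgroup Cfsg.Agent.Lib.Core

variable {G : Type*} [Group G] {t s w : G} {K B : Subgroup G}

theorem comm8 [Finite G] (h8 : ¬ 8 ∣ Nat.card G) {P : Subgroup G} (hP : IsPGroup 2 P) {x y : G}
    (hx : x ∈ P) (hy : y ∈ P) : x * y = y * x := by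
  obtain ⟨n, hn⟩ := IsPGroup.iff_card.1 hP
  have hd := card_subgroup_dvd_card P
  have : n ≤ 2 := by
    by_contra c
    exact h8 ((hn ▸ pow_dvd_pow 2 (show 3 ≤ n by omega) : 2 ^ 3 ∣ Nat.card P).trans hd)
  have hc : IsMulCommutative P := by
    interval_cases n
    · haveI := (Nat.card_eq_one_iff_unique.1 hn).1; exact ⟨⟨fun a b => Subsingleton.elim _ _⟩⟩
    · haveI := isCyclic_of_prime_card (p := 2) (by simpa using hn); infer_instance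
    · exact IsPGroup.isMulCommutative_of_card_eq_prime_sq hn
  exact congrArg Subtype.val (hc.is_comm.comm ⟨x, hx⟩ ⟨y, hy⟩)

/-- the projections of `C(t)` -/
structure SU (t s w : G) (K B : Subgroup G) (ρ : HH t →* B) (e1 e2 : HH t →* ℂ) : Prop
    extends VK t s w K B where
  h3 : (∀ b ∈ B, b ^ 3 = 1) → ∀ b ∈ B, w * b = b * w
  hK : K ≠ ⊥
  ρK : ∀ g : HH t, (g : G) ∈ K → ρ g = 1 ∧ e1 g = 1 ∧ e2 g = 1
  ρB : ∀ g : HH t, (g : G) ∈ B → (ρ g : G) = g ∧ e1 g = 1 ∧ e2 g = 1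
  ρt : ∀ g : HH t, (g : G) = t → ρ g = 1 ∧ e1 g = -1 ∧ e2 g = 1
  ρs : ∀ g : HH t, (g : G) = s → ρ g = 1 ∧ e1 g = 1 ∧ e2 g = -1

theorem exists_su (hA : (∀ b ∈ B, b ^ 3 = 1) → ∀ b ∈ B, w * b = b * w) (h : VK t s w K B) (hK : K ≠ ⊥) :
    ∃ ρ e1 e2, SU t s w K B ρ e1 e2 := by
  let ν := nu h.toV4
  have n1 : ν (-1, 1) = t := by simp [ν, nu]
  have n2 : ν (1, -1) = s := by simp [ν, nu]
  have n3 : ν (-1, -1) = t * s := by simp [ν, nu]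
  have nc : ∀ a, ν a = 1 ∨ ν a = t ∨ ν a = s ∨ ν a = t * s := by
    rintro ⟨a, b⟩
    rcases Int.units_eq_one_or a with rfl | rfl <;> rcases Int.units_eq_one_or b with rfl | rfl <;>
      simp [ν, nu]
  have ni : ∀ a, ν a = 1 → a = 1 := by
    rintro ⟨a, b⟩
    have := h.t1; have := h.s1
    have : t * s ≠ 1 := fun e => h.ts (by rw [← mul_left_inj s, e, h.ss])
    rcases Int.units_eq_one_or a with rfl | rfl <;> rcases Int.units_eq_one_or b with rfl | rfl <;>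
      simp [ν, nu, *]
  have cm : ∀ y, Commute t y → Commute s y → ∀ a, Commute (ν a) y := fun y h1 h2 a => by
    rcases nc a with e | e | e | e <;> rw [e]
    exacts [Commute.one_left _, h1, h2, h1.mul_left h2]
  have nK : ∀ a, ∀ x ∈ K, ν a * x * (ν a)⁻¹ ∈ K := fun a x hx => by
    have e1 : s * x * s⁻¹ ∈ K := by rw [inv_eq_of_mul_eq_one_left h.ss, h.Ks x hx]; exact K.inv_mem hx
    have e2 : ∀ x ∈ K, t * x * t⁻¹ ∈ K := fun x hx => by rwa [h.Kt x hx, mul_inv_cancel_right]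
    rcases nc a with e | e | e | e <;> rw [e]
    exacts [by simpa using hx, e2 x hx, e1, by simpa [mul_assoc] using e2 _ e1]
  have ex : ∀ g : HH t, ∃ c : B × ℤˣ × ℤˣ, ∃ x ∈ K, (g : G) = x * (c.1 * ν c.2) := fun g => by
    obtain ⟨x, hx, b, hb, e | e | e | e⟩ := h.cent g (mH.1 g.2)
    exacts [⟨(⟨b, hb⟩, 1), x, hx, by simpa using e⟩, ⟨(⟨b, hb⟩, -1, 1), x, hx, by rw [n1, e, mul_assoc]⟩,
      ⟨(⟨b, hb⟩, 1, -1), x, hx, by rw [n2, e, mul_assoc]⟩, ⟨(⟨b, hb⟩, -1, -1), x, hx, by rw [n3, e, mul_assoc]⟩]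
  choose P hP using ex
  have un : ∀ (g : HH t) (c : B × ℤˣ × ℤˣ), ∀ x ∈ K, (g : G) = x * (c.1 * ν c.2) → P g = c := fun g c x hx e => by
    obtain ⟨y, hy, e'⟩ := hP g
    have cs : ∀ c : B × ℤˣ × ℤˣ, Commute s (c.1 * ν c.2) := fun c =>
      Commute.mul_right (h.Bs _ c.1.2) (cm s h.comm rfl _).symm
    have e1 : x⁻¹ * y = c.1 * ν c.2 * ((P g).1 * ν (P g).2)⁻¹ := by
      rw [eq_mul_inv_iff_mul_eq, mul_assoc, ← e', e]; group
    have e2 := K_one h (K.mul_mem (K.inv_mem hx) hy) (e1 ▸ ((cs c).mul_right (cs _).inv_right).eq)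
    rw [e2, eq_comm, mul_inv_eq_one] at e1
    have e3 : ((P g).1⁻¹ * c.1 : B) = ν ((P g).2 * c.2⁻¹) := by
      rw [map_mul, map_inv, eq_mul_inv_iff_mul_eq, coe_mul, mul_assoc, e1]; simp
    have e4 : (((P g).1⁻¹ * c.1 : B) : G) = 1 := odd_sq h.Bodd (pw_card (Subtype.coe_prop _)) (by
      rw [e3, ← map_mul, show ∀ a : ℤˣ × ℤˣ, a * a = 1 from fun a => Prod.ext (Int.units_mul_self _)
        (Int.units_mul_self _), map_one])
    exact Prod.ext (inv_mul_eq_one.1 (Subtype.ext e4)) (mul_inv_eq_one.1 (ni _ (e3.symm.trans e4)))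
  let Q : HH t →* B × ℤˣ × ℤˣ := MonoidHom.mk' P fun g g' => by
    obtain ⟨x, hx, e⟩ := hP g
    obtain ⟨y, hy, e'⟩ := hP g'
    refine un _ _ (x * ((P g).1 * (ν (P g).2 * y * (ν (P g).2)⁻¹) * ((P g).1 : G)⁻¹))
      (K.mul_mem hx (h.BK _ (P g).1.2 _ (nK _ _ hy))) ?_
    rw [coe_mul, e, e', Prod.fst_mul, Prod.snd_mul, map_mul, coe_mul,
      (cm _ (h.Bt _ (P g').1.2) (h.Bs _ (P g').1.2) (P g).2).symm.mul_mul_mul_comm]
    group
  let u : ℤˣ →* ℂ := (Int.castRingHom ℂ).toMonoidHom.comp (Units.coeHom ℤ)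
  have q : ∀ (g : HH t) (b : B) a1 a2, ∀ x ∈ K, (g : G) = x * (b * ν (a1, a2)) →
      (MonoidHom.fst _ _).comp Q g = b ∧ u.comp ((MonoidHom.fst _ _).comp ((MonoidHom.snd _ _).comp Q)) g = u a1 ∧
      u.comp ((MonoidHom.snd _ _).comp ((MonoidHom.snd _ _).comp Q)) g = u a2 := fun g b a1 a2 x hx e => by
    simp [Q, un g (b, a1, a2) x hx e]
  have n0 : ν (1, 1) = 1 := map_one ν
  refine ⟨(MonoidHom.fst _ _).comp Q, u.comp ((MonoidHom.fst _ _).comp ((MonoidHom.snd _ _).comp Q)),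
    u.comp ((MonoidHom.snd _ _).comp ((MonoidHom.snd _ _).comp Q)), h, hA, hK, fun g hg => ?_, fun g hg => ?_,
    fun g hg => ?_, fun g hg => ?_⟩
  · simpa [u] using q g 1 1 1 g hg (by simp [n0])
  · simpa [u, Subtype.ext_iff] using q g ⟨g, hg⟩ 1 1 1 K.one_mem (by simp [n0])
  · simpa [u] using q g 1 (-1) 1 1 K.one_mem (by simp [n1, hg])
  · simpa [u] using q g 1 1 (-1) 1 K.one_mem (by simp [n2, hg])

namespace SU
variable {ρ : HH t →* B} {e1 e2 : HH t →* ℂ} (h : SU t s w K B ρ e1 e2)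
include h

theorem ms : s ∈ HH t := mH.2 h.comm
theorem mK {x : G} (hx : x ∈ K) : x ∈ HH t := mH.2 (h.Kt x hx)
theorem mB {x : G} (hx : x ∈ B) : x ∈ HH t := mH.2 (h.Bt x hx)

theorem dec (g : HH t) : ∃ x ∈ K, (g : G) = x * ρ g ∧ e1 g = 1 ∧ e2 g = 1 ∨
    (g : G) = x * ρ g * t ∧ e1 g = -1 ∧ e2 g = 1 ∨ (g : G) = x * ρ g * s ∧ e1 g = 1 ∧ e2 g = -1 ∨
    (g : G) = x * ρ g * (t * s) ∧ e1 g = -1 ∧ e2 g = -1 := by
  obtain ⟨x, hx, b, hb, e⟩ := h.cent g (mH.1 g.2)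
  obtain ⟨x1, x2, x3⟩ := h.ρK ⟨x, h.mK hx⟩ hx
  obtain ⟨b1, b2, b3⟩ := h.ρB ⟨b, h.mB hb⟩ hb
  obtain ⟨t1, t2, t3⟩ := h.ρt ⟨t, mH.2 rfl⟩ rfl
  obtain ⟨s1, s2, s3⟩ := h.ρs ⟨s, h.ms⟩ rfl
  refine ⟨x, hx, e.imp (fun e => ?_) (Or.imp (fun e => ?_) (Or.imp (fun e => ?_) fun e => ?_))⟩
  · rw [(Subtype.ext e : g = ⟨x, h.mK hx⟩ * ⟨b, h.mB hb⟩)]
    simp only [map_mul, coe_mul, *]; simp
  · rw [(Subtype.ext e : g = ⟨x, h.mK hx⟩ * ⟨b, h.mB hb⟩ * ⟨t, mH.2 rfl⟩)]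
    simp only [map_mul, coe_mul, *]; simp
  · rw [(Subtype.ext e : g = ⟨x, h.mK hx⟩ * ⟨b, h.mB hb⟩ * ⟨s, h.ms⟩)]
    simp only [map_mul, coe_mul, *]; simp
  · rw [(Subtype.ext e : g = ⟨x, h.mK hx⟩ * ⟨b, h.mB hb⟩ * (⟨t, mH.2 rfl⟩ * ⟨s, h.ms⟩))]
    simp only [map_mul, coe_mul, *]; simp

theorem sg (g : HH t) : (e1 g = 1 ∨ e1 g = -1) ∧ (e2 g = 1 ∨ e2 g = -1) := by
  obtain ⟨x, -, e | e | e | e⟩ := h.dec g <;> simp [e.2]

theorem decU {g : HH t} (h1 : e1 g = 1) (h2 : e2 g = 1) : ∃ x ∈ K, (g : G) = x * ρ g := by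
  obtain ⟨x, hx, e | e | e | e⟩ := h.dec g
  · exact ⟨x, hx, e.1⟩
  all_goals simp only [h1, h2] at e; norm_num at e

theorem odd : Odd (Nat.card B * Nat.card K) := h.Bodd.mul h.Kodd

theorem powU {g : HH t} (h1 : e1 g = 1) (h2 : e2 g = 1) : (g : G) ^ (Nat.card B * Nat.card K) = 1 := by
  obtain ⟨x, hx, e⟩ := h.decU (g := g ^ Nat.card B) (by simp [h1]) (by simp [h2])
  rw [map_pow, pow_card_eq_one', coe_one, mul_one, coe_pow] at e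
  rw [pow_mul, e, pw_card hx]

theorem powA {g : HH t} (h1 : e1 g = -1) (h2 : e2 g = 1) : (g : G) ^ (Nat.card B * Nat.card K) = t := by
  obtain ⟨t1, t2, t3⟩ := h.ρt ⟨t, mH.2 rfl⟩ rfl
  have := h.powU (g := g * ⟨t, mH.2 rfl⟩) (by simp [*]) (by simp [*])
  obtain ⟨k, hk⟩ := h.odd
  rw [coe_mul, Commute.mul_pow (mH.1 g.2).symm, mul_eq_one_iff_eq_inv] at this
  rw [this, hk, pow_succ, pow_mul, pow_two, h.tt, one_pow, one_mul, inv_eq_of_mul_eq_one_left h.tt]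

theorem oddE {g : HH t} {n : ℕ} (hn : Odd n) (e : (g : G) ^ n = 1) : e1 g = 1 ∧ e2 g = 1 := by
  have e' : g ^ n = 1 := Subtype.ext e
  have k : ∀ f : HH t →* ℂ, f g = 1 ∨ f g = -1 → f g = 1 := fun f hf => hf.resolve_right fun e3 => by
    have := congrArg f e'
    rw [map_pow, e3, hn.neg_one_pow, map_one] at this
    norm_num at this
  exact ⟨k _ (h.sg g).1, k _ (h.sg g).2⟩

theorem memB {g : HH t} (h1 : e1 g = 1) (h2 : e2 g = 1) (hs : s * g = g * s) : (g : G) ∈ B := by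
  obtain ⟨x, hx, e⟩ := h.decU h1 h2
  rw [e, K_one h.toVK hx (by
    rw [eq_mul_inv_iff_mul_eq.2 e.symm]
    exact (Commute.mul_right hs (Commute.inv_right (h.Bs _ (ρ g).2))).eq), one_mul]
  exact (ρ g).2

theorem ρ_inv {j : HH t} (hj : (j : G) * j = 1) : ρ j = 1 :=
  odd_sq h.Bodd pow_card_eq_one' (by rw [← map_mul, (Subtype.ext hj : j * j = 1), map_one])

theorem invH {j : G} (hj : j ∈ HH t) (j2 : j * j = 1) (j1 : j ≠ 1) :
    j = t ∨ ∃ y ∈ K, y * j * y⁻¹ = s ∨ y * j * y⁻¹ = t * s := by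
  obtain ⟨x, hx, e⟩ := h.dec ⟨j, hj⟩
  simp only [h.ρ_inv (j := ⟨j, hj⟩) j2, coe_one, mul_one] at e
  obtain ⟨k, hk⟩ := h.Kodd
  have e1 : x ^ k * x * x ^ k = 1 := by rw [← pw_card hx, hk]; group
  have e2 : s * (x ^ k)⁻¹ = x ^ k * s := by
    rw [← h.Ks _ (K.pow_mem hx k), ← mul_assoc, ← mul_assoc, h.ss, one_mul]
  rcases e with ⟨rfl, -⟩ | ⟨rfl, -⟩ | ⟨rfl, -⟩ | ⟨rfl, -⟩
  · exact absurd (odd_sq h.Kodd (pw_card hx) j2) j1
  · rw [Commute.mul_mul_mul_comm (h.Kt x hx), h.tt, mul_one] at j2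
    exact .inl (by rw [odd_sq h.Kodd (pw_card hx) j2, one_mul])
  · exact .inr ⟨_, K.pow_mem hx k, .inl (by rw [mul_assoc, mul_assoc, e2, ← mul_assoc, ← mul_assoc, e1, one_mul])⟩
  · refine .inr ⟨_, K.pow_mem hx k, .inr ?_⟩
    rw [mul_assoc, mul_assoc, mul_assoc, e2, ← mul_assoc t, h.Kt _ (K.pow_mem hx k), mul_assoc, ← mul_assoc,
      ← mul_assoc, e1, one_mul]

theorem Kcomm (a b : K) : a * b = b * a := Subtype.ext (by
  have := h.Ks _ (K.mul_mem a.2 b.2)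
  rw [show s * (a * b) * s = s * a * s * (s * b * s) by
    simp [mul_assoc, ← mul_assoc s s, h.ss], h.Ks _ a.2, h.Ks _ b.2,
    ← mul_inv_rev, inv_inj] at this
  exact this.symm)

variable [Finite G]

theorem wB : w ∈ normalizer (B : Set G) := mem_normalizer_fintype fun b hb => by
  have c1 : Commute s (w * b * w⁻¹) := by rw [← h.wt]; exact (conj_mul.trans (by rw [h.Bt b hb])).trans conj_mul.symm
  have c2 : Commute (t * s) (w * b * w⁻¹) := by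
    rw [← h.ws]; exact (conj_mul.trans (by rw [h.Bs b hb])).trans conj_mul.symm
  have c3 := c2.mul_left c1
  rw [mul_assoc, h.ss, mul_one] at c3
  obtain ⟨a1, a2⟩ := h.oddE (g := ⟨_, mH.2 c3⟩) h.Bodd (by rw [conj_pow, pw_card hb]; simp)
  exact h.memB a1 a2 c1

theorem syl {X : Subgroup G} {j i : G} (hj : j ∈ X) (hi : i ∈ X) (j2 : j * j = 1) (i2 : i * i = 1) :
    ∃ c ∈ X, j * (c * i * c⁻¹) = c * i * c⁻¹ * j := by
  obtain ⟨P, hP, e⟩ := exists_isSyl_ge (isPGroup_zpowers (p := 2) (k := 1) (x := j) (by simpa [pow_two]))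
    (zpowers_le.2 hj)
  obtain ⟨c, hc, e'⟩ := hP.exists_conj_le (isPGroup_zpowers (p := 2) (k := 1) (x := i) (by simpa [pow_two]))
    (zpowers_le.2 hi)
  exact ⟨c, hc, comm8 h.n8 hP.isPGroup (e (mem_zpowers j)) (e' (mem_map_of_mem _ (mem_zpowers i)))⟩

theorem conj_t {j : G} (j2 : j * j = 1) (j1 : j ≠ 1) : ∃ g, g * j * g⁻¹ = t := by
  obtain ⟨c, -, e⟩ := h.syl (mem_top t) (mem_top j) h.tt j2
  rcases h.invH (mH.2 e) (by rw [conj_mul, j2]; simp) (by simpa using j1) with e | ⟨y, -, e | e⟩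
  · exact ⟨c, e⟩
  · exact ⟨w⁻¹ * y * c, by rw [← h.wt] at e; rw [← conj_injective (x := w) |>.eq_iff]; simp only [← e]; group⟩
  · refine ⟨w⁻¹ * w⁻¹ * y * c, ?_⟩
    rw [← h.ws, ← h.wt] at e
    calc _ = w⁻¹ * w⁻¹ * (y * (c * j * c⁻¹) * y⁻¹) * w * w := by simp [mul_assoc]
      _ = t := by rw [e]; simp [mul_assoc]

theorem even {y : G} (hy : 2 ∣ orderOf y) : ∃ g, ∃ a : HH t, (a : G) = g * y * g⁻¹ ∧ e1 a = -1 ∧ e2 a = 1 := by
  obtain ⟨k, hk⟩ := hy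
  have := orderOf_pos y
  obtain ⟨g, e⟩ := h.conj_t (j := y ^ k) (by rw [← pow_add, ← two_mul, ← hk, pow_orderOf_eq_one])
    (pow_ne_one_of_lt_orderOf (by omega) (by omega))
  rw [← conj_pow] at e
  have m : g * y * g⁻¹ ∈ HH t := mH.2 (e ▸ (Commute.refl _).pow_left k)
  obtain ⟨-, t2, t3⟩ := h.ρt (⟨_, m⟩ ^ k) e
  rw [map_pow] at t2 t3
  refine ⟨g, ⟨_, m⟩, rfl, ?_⟩
  rcases h.sg ⟨_, m⟩ with ⟨a | a, b | b⟩ <;> rw [a] at t2 <;> rw [b] at t3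
  · norm_num at t2
  · norm_num at t2
  · exact ⟨a, b⟩
  · rw [t2] at t3; norm_num at t3

/-- conjugation by `w` -/
def cw : B →* B := (B.normalizerMonoidHom ⟨w, h.wB⟩).toMonoidHom

theorem cw_coe (b : B) : (h.cw b : G) = w * b * w⁻¹ := rfl

theorem fusion {F : B → ℂ} (h1 : ∀ b c, F (c * b * c⁻¹) = F b) (h2 : ∀ b, F (h.cw b) = F b) {u v : HH t} {g : G}
    (v1 : e1 v = 1) (v2 : e2 v = 1) (e : (v : G) = g * u * g⁻¹) : F (ρ v) = F (ρ u) := by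
  have k0 : ∀ {v : HH t} {g : G}, (v : G) = g * u * g⁻¹ → g * t * g⁻¹ = t → F (ρ v) = F (ρ u) := fun {v g} e hg => by
    have m := mH.2 (mul_inv_eq_iff_eq_mul.1 hg).symm
    rw [(Subtype.ext e : v = ⟨g, m⟩ * u * ⟨g, m⟩⁻¹), map_mul, map_mul, map_inv, h1]
  have k1 : ∀ v : HH t, (v : G) ∈ B → ∃ v' : HH t, (v' : G) ∈ B ∧ (v' : G) = w⁻¹ * v * w ∧ F (ρ v) = F (ρ v') :=
    fun v hv => by
      have m : w⁻¹ * v * w ∈ B := by simpa using (mem_normalizer_iff.1 (inv_mem h.wB) _).1 hv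
      refine ⟨⟨_, h.mB m⟩, m, rfl, ?_⟩
      rw [← h2 (ρ ⟨_, h.mB m⟩)]
      congr 1
      exact Subtype.ext (by rw [cw_coe, (h.ρB _ hv).1, (h.ρB ⟨_, h.mB m⟩ m).1]; simp [mul_assoc])
  have c0 : ∀ {v g : G}, v = g * u * g⁻¹ → g * t * g⁻¹ * v = v * (g * t * g⁻¹) := fun e => by
    rw [e, conj_mul, conj_mul, mH.1 u.2]
  obtain ⟨c, hc, e'⟩ := h.syl (X := centralizer {(v : G)}) (mem_centralizer_singleton_iff.2 (mH.1 v.2))
    (mem_centralizer_singleton_iff.2 (c0 e)) h.tt (by rw [conj_mul, h.tt]; simp)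
  obtain ⟨g, e, e'⟩ : ∃ g, (v : G) = g * u * g⁻¹ ∧ g * t * g⁻¹ ∈ HH t := ⟨c * g, by
    rw [← mul_inv_eq_iff_eq_mul.2 (mem_centralizer_singleton_iff.1 hc), e]; group, mH.2 (by simpa [mul_assoc] using e')⟩
  rcases h.invH e' (by rw [conj_mul, h.tt]; simp) (by simpa using h.t1) with e3 | ⟨y, hy, e3⟩
  · exact k0 e e3
  obtain ⟨y1, y2, y3⟩ := h.ρK ⟨y, h.mK hy⟩ hy
  obtain ⟨v', g, a1, a2, a3, e, e3⟩ : ∃ (v' : HH t) (g : G), ρ v = ρ v' ∧ e1 v' = 1 ∧ e2 v' = 1 ∧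
      (v' : G) = g * u * g⁻¹ ∧ (g * t * g⁻¹ = s ∨ g * t * g⁻¹ = t * s) :=
    ⟨⟨y, h.mK hy⟩ * v * ⟨y, h.mK hy⟩⁻¹, y * g, by simp [*], by simp [*], by simp [*], by simp [e, mul_assoc],
      by simpa [mul_assoc] using e3⟩
  have c1 := c0 e
  obtain ⟨v1, b1, b2, b3⟩ := k1 v' (h.memB a2 a3 (by
    rcases e3 with e3 | e3 <;> rw [e3] at c1
    · exact c1
    · rwa [mul_assoc, ← mul_assoc _ t, ← mH.1 v'.2, mul_assoc, mul_right_inj] at c1))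
  rw [a1, b3]
  rcases e3 with e3 | e3
  · exact k0 (g := w⁻¹ * g) (by rw [b2, e]; group) (by
      rw [show w⁻¹ * g * t * (w⁻¹ * g)⁻¹ = w⁻¹ * (g * t * g⁻¹) * w by group, e3, ← h.wt]; group)
  · obtain ⟨v2, -, b4, b5⟩ := k1 v1 b1
    rw [b5]
    exact k0 (g := w⁻¹ * w⁻¹ * g) (by rw [b4, b2, e]; simp [mul_assoc]) (by
      rw [show w⁻¹ * w⁻¹ * g * t * (w⁻¹ * w⁻¹ * g)⁻¹ = w⁻¹ * w⁻¹ * (g * t * g⁻¹) * w * w by simp [mul_assoc], e3,
        ← h.ws, ← h.wt]; simp [mul_assoc])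

theorem pow_one' {m : ℕ} (hm : ∀ b ∈ B, ∀ x ∈ K, b ^ m * x = x * b ^ m) {b : G} (hb : b ∈ B) : b ^ m = 1 := by
  have := h.simple
  have n : ∀ g ∈ normalizer (B : Set G), g ∈ normalizer {y | ∃ b ∈ B, y = b ^ m} := fun g hg =>
    mem_normalizer_fintype (by
      rintro _ ⟨b, hb, rfl⟩; exact ⟨_, (mem_normalizer_iff.1 hg b).1 hb, conj_pow.symm⟩)
  have nc : ∀ g, (∀ b ∈ B, g * b ^ m = b ^ m * g) → g ∈ normalizer {y | ∃ b ∈ B, y = b ^ m} := fun g hg =>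
    mem_normalizer_fintype (by rintro _ ⟨b, hb, rfl⟩; exact ⟨b, hb, by rw [hg b hb]; simp⟩)
  have nt := nc t fun b hb => Commute.pow_right (h.Bt b hb) m
  have ns := nc s fun b hb => Commute.pow_right (h.Bs b hb) m
  have top : ⊤ ≤ normalizer {y | ∃ b ∈ B, y = b ^ m} := h.gen h.hK ▸ sup_le (fun g hg => by
    obtain ⟨x, hx, b, hb, e⟩ := h.cent g (mH.1 hg)
    have := mul_mem (nc x fun b hb => (hm b hb x hx).symm) (n b (le_normalizer hb))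
    rcases e with rfl | rfl | rfl | rfl
    exacts [this, mul_mem this nt, mul_mem this ns, mul_mem this (mul_mem nt ns)]) (zpowers_le.2 (n w h.wB))
  rcases (normalClosure_normal (s := {b ^ m})).eq_bot_or_eq_top with e | e
  · exact mem_bot.1 (e ▸ subset_normalClosure rfl)
  · refine (h.ts ?_).elim
    have : normalClosure {b ^ m} ≤ HH t := closure_le _ |>.2 fun y hy => by
      obtain ⟨_, rfl, hc⟩ := Group.mem_conjugatesOfSet_iff.1 hy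
      obtain ⟨c, rfl⟩ := isConj_iff.1 hc
      obtain ⟨b', hb', e⟩ := (mem_set_normalizer_iff.1 (top (mem_top c)) _).1 ⟨b, hb, rfl⟩
      rw [e]; exact pow_mem (h.mB hb') m
    rw [← h.wt, ← mH.1 (this (e.ge (mem_top w)))]; simp

omit [Finite G] in
theorem w3 : w * w * w ∈ HH t := mH.2 (by
  have : w * w * w * t * (w * w * w)⁻¹ = w * (w * (w * t * w⁻¹) * w⁻¹) * w⁻¹ := by simp [mul_assoc]
  rw [h.wt, h.ws, ← conj_mul, h.wt, h.ws, ← mul_assoc s, ← h.comm, mul_assoc t, h.ss, mul_one] at this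
  exact (mul_inv_eq_iff_eq_mul.1 this).symm)

omit [Finite G] in
theorem ρb (b : B) : ρ ⟨b, h.mB b.2⟩ = b := Subtype.ext (h.ρB ⟨b, h.mB b.2⟩ b.2).1

omit [Finite G] in
theorem lin_conj (β : B →* ℂ) {g : G} (hg : g ∈ HH t) {b c : B} (e : (b : G) = g * c * g⁻¹) : β b = β c := by
  have e2 := congrArg (β.comp ρ) (Subtype.ext e : (⟨b, h.mB b.2⟩ : HH t) = ⟨g, hg⟩ * ⟨c, h.mB c.2⟩ * ⟨g, hg⟩⁻¹)
  rw [map_mul, map_mul, mul_comm, ← mul_assoc, ← map_mul, inv_mul_cancel, map_one, one_mul] at e2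
  simpa [h.ρb] using e2

theorem cw3 (β : B →* ℂ) (b : B) : β (h.cw (h.cw (h.cw b))) = β b :=
  h.lin_conj β h.w3 (by simp [cw_coe, mul_assoc])

theorem cw_eq (h3 : ∀ b ∈ B, b ^ 3 = 1) (β : B →* ℂ) : β.comp h.cw = β := by
  ext b
  exact congrArg β (Subtype.ext ((h.cw_coe b).trans (mul_inv_eq_of_eq_mul (h.h3 h3 b b.2))))

end SU

end Cfsg.Agent.Lib.AG.C2
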