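/-
CA-groups (S4369): matrix facts on `PSL₂(F)`.
-/
import Cfsg.Agent.Lib.AG.Tor
import Cfsg.Agent.Lib.AG.Vs
import Cfsg.Agent.Lib.AG.Kn
import Cfsg.Agent.Lib.AG.BSW
import Cfsg.Agent.Lib.CA.Defs

set_option autoImplicit false

namespace Cfsg.Agent.Lib.CA

open Subgroup Matrix Cfsg.Agent.Lib.HallPSL Cfsg.Agent.Lib.AG

variable {F : Type*} [Field F]

theorem mat_rep {Z Y : Matrix (Fin 2) (Fin 2) F} (hZ : ∀ c : F, Z ≠ c • 1) (e : Y * Z = Z * Y) :
    ∃ α β : F, Y = α • 1 + β • Z := by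
  have e0 := congrFun (congrFun e 0) 0
  have e1 := congrFun (congrFun e 0) 1
  have e2 := congrFun (congrFun e 1) 0
  simp only [Matrix.mul_apply, Fin.sum_univ_two] at e0 e1 e2
  suffices ∃ β : F, Y 0 1 = β * Z 0 1 ∧ Y 1 0 = β * Z 1 0 ∧ Y 0 0 - Y 1 1 = β * (Z 0 0 - Z 1 1) by
    obtain ⟨β, k1, k2, k3⟩ := this
    refine ⟨Y 0 0 - β * Z 0 0, β, ?_⟩
    ext i j; fin_cases i <;> fin_cases j <;> simp [k1, k2]
    linear_combination -k3
  by_cases hb : Z 0 1 = 0
  · by_cases hc : Z 1 0 = 0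
    · have hd : Z 0 0 - Z 1 1 ≠ 0 := fun h => hZ (Z 0 0) (by
        ext i j; fin_cases i <;> fin_cases j <;> simp [hb, hc]
        linear_combination -h)
      refine ⟨(Y 0 0 - Y 1 1) / (Z 0 0 - Z 1 1), ?_, ?_, by field_simp⟩
      · field_simp; linear_combination -e1
      · field_simp; linear_combination e2
    · refine ⟨Y 1 0 / Z 1 0, ?_, by field_simp, ?_⟩
      · field_simp; linear_combination e0
      · field_simp; linear_combination -e2
  · refine ⟨Y 0 1 / Z 0 1, by field_simp, ?_, ?_⟩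
    · field_simp; linear_combination -e0
    · field_simp; linear_combination e1

theorem sq_of_trace {A : SL2 F} (hA : A.1.trace = 0) : pr A * pr A = 1 := by
  rw [← map_mul, pr_eq_one_iff, val_mul, ch2, hA, A.2]; simp

theorem comm_lift (h2 : (2 : F) ≠ 0) {Z A : SL2 F} (hz : pr Z * pr Z ≠ 1)
    (h : pr Z * pr A = pr A * pr Z) : A.1 * Z.1 = Z.1 * A.1 := by
  rw [← map_mul, ← map_mul, eq_comm, pr_eq_iff] at h
  refine h.resolve_right fun h => hz (sq_of_trace ?_)
  have e1 : (A * Z * A⁻¹).1 = -Z.1 := by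
    rw [val_mul, h, neg_mul, ← val_mul, mul_inv_cancel_right]
  have := congrArg trace e1
  rw [val_mul, trace_mul_comm, ← val_mul, ← mul_assoc, inv_mul_cancel, one_mul, trace_neg] at this
  exact mul_left_cancel₀ h2 (by linear_combination this)

theorem nonscalar {Z : SL2 F} (hz : pr Z * pr Z ≠ 1) (c : F) : Z.1 ≠ c • 1 := fun e =>
  hz (by rw [pr_smul_one e, one_mul])

/-- centralisers of elements of order `> 2` are abelian -/
theorem psl_comm (h2 : (2 : F) ≠ 0) {z a b : ProjectiveSpecialLinearGroup (Fin 2) F}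
    (hz : z * z ≠ 1) (ha : z * a = a * z) (hb : z * b = b * z) : a * b = b * a := by
  obtain ⟨Z, rfl⟩ := pr_surj z
  obtain ⟨A, rfl⟩ := pr_surj a
  obtain ⟨B, rfl⟩ := pr_surj b
  obtain ⟨α, β, e⟩ := mat_rep (nonscalar hz) (comm_lift h2 hz ha)
  obtain ⟨γ, δ, e'⟩ := mat_rep (nonscalar hz) (comm_lift h2 hz hb)
  rw [← map_mul, ← map_mul, pr_eq_iff, val_mul, val_mul, e, e']
  left
  simp only [add_mul, mul_add, smul_mul_assoc, mul_smul_comm, one_mul, mul_one, smul_add, smul_smul]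
  module

/-- a semisimple element is conjugate in its centraliser only to its inverse -/
theorem psl_conj (h2 : (2 : F) ≠ 0) {p : ℕ} [hp : Fact p.Prime] [CharP F p]
    {z g : ProjectiveSpecialLinearGroup (Fin 2) F} (hz : z * z ≠ 1) (hzp : z ^ p ≠ 1)
    (h : z * (g * z * g⁻¹) = g * z * g⁻¹ * z) : g * z * g⁻¹ = z ∨ g * z * g⁻¹ = z⁻¹ := by
  obtain ⟨Z, rfl⟩ := pr_surj z
  obtain ⟨A, rfl⟩ := pr_surj g
  have hδ : Z.1.trace ^ 2 - 4 ≠ 0 := fun e => hzp (by
    have e1 : (Z.1 - (Z.1.trace / 2) • 1) ^ 2 = 0 := by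
      rw [pow_two, ch2]
      have := Z.2
      rw [det_fin_two] at this
      rw [trace_fin_two] at e
      simp only [trace_fin_two, det_fin_two]
      simp
      rw [show ∀ a b : F, a - (a + b) / 2 + (b - (a + b) / 2) = 0 from fun a b => by
        field_simp; ring, zero_smul, zero_sub, neg_eq_zero, smul_eq_zero]
      left; field_simp; linear_combination 4 * this - e
    rw [← map_pow]
    refine pr_smul_one (c := (Z.1.trace / 2) ^ p) ?_
    change Z.1 ^ p = _
    conv_lhs => rw [← sub_add_cancel Z.1 ((Z.1.trace / 2) • 1)]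
    rw [add_pow_char_of_commute _ ((Commute.one_right _).smul_right _),
      pow_eq_zero_of_le hp.out.two_le e1, zero_add, smul_pow, one_pow])
  rw [← map_inv, ← map_mul, ← map_mul] at h ⊢
  set Y := A * Z * A⁻¹ with hY
  have tY : Y.1.trace = Z.1.trace := by
    rw [hY, val_mul, trace_mul_comm, ← val_mul, ← mul_assoc, inv_mul_cancel, one_mul]
  obtain ⟨α, β, e⟩ := mat_rep (nonscalar hz) (comm_lift h2 hz h)
  have d1 := Y.2
  have d2 := Z.2
  rw [e] at d1 tY
  rw [det_fin_two] at d1 d2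
  rw [trace_fin_two] at hδ
  rw [trace_fin_two, trace_fin_two] at tY
  simp at d1 tY
  have k : (β - 1) * (β + 1) = 0 := mul_left_cancel₀ hδ (by
    linear_combination (-4) * d1 + 4 * β ^ 2 * d2 + (2 * α + (β + 1) * (Z.1 0 0 + Z.1 1 1)) * tY)
  rcases mul_eq_zero.1 k with k | k
  · have a0 : α = 0 := mul_left_cancel₀ h2 (by linear_combination tY - (Z.1 0 0 + Z.1 1 1) * k)
    left
    rw [pr_eq_iff, e, a0, sub_eq_zero.1 k]; simp
  · have a0 : α = Z.1 0 0 + Z.1 1 1 :=
      mul_left_cancel₀ h2 (by linear_combination tY - (Z.1 0 0 + Z.1 1 1) * k)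
    right
    rw [eq_inv_iff_mul_eq_one, ← map_mul, pr_eq_one_iff, val_mul, e, a0, eq_neg_of_add_eq_zero_left k,
      add_mul, smul_mul_assoc, smul_mul_assoc, ch2, Z.2, trace_fin_two]
    simp

/-- abelian centralisers of non-involutions and `8 ∤ |G|` give an A-group -/
theorem ag_of_comm {G : Type*} [Group G] [Finite G] (h8 : ¬ 8 ∣ Nat.card G)
    (h : ∀ z a b : G, z * z ≠ 1 → z * a = a * z → z * b = b * z → a * b = b * a) : AG G := by
  intro p hp P hP x hx y hy
  haveI := Fact.mk hp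
  by_cases p2 : p = 2
  · subst p2
    obtain ⟨n, hn⟩ := IsPGroup.iff_card.1 hP
    have hd := card_subgroup_dvd_card P
    have : n ≤ 2 := by
      by_contra c
      exact h8 ((hn ▸ pow_dvd_pow 2 (show 3 ≤ n by omega) : 2 ^ 3 ∣ Nat.card P).trans hd)
    have hc : IsMulCommutative P := by
      interval_cases n
      · haveI := (Nat.card_eq_one_iff_unique.1 hn).1; exact ⟨⟨fun a b => Subsingleton.elim _ _⟩⟩
      · haveI := isCyclic_of_prime_card (p := 2) (by simpa using hn); infer_instance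
      · exact IsPGroup.isMulCommutative_of_card_eq_prime_sq hn
    exact congrArg Subtype.val (hc.is_comm.comm ⟨x, hx⟩ ⟨y, hy⟩)
  · by_cases x1 : x = 1
    · simp [x1]
    haveI : Nontrivial P := ⟨⟨⟨x, hx⟩, 1, fun e => x1 (congrArg Subtype.val e)⟩⟩
    haveI := hP.center_nontrivial
    obtain ⟨⟨z, hz⟩, z1⟩ := exists_ne (1 : center P)
    refine h z x y (fun e => z1 (Subtype.ext (Subtype.ext ?_)))
      (congrArg Subtype.val (mem_center_iff.1 hz ⟨x, hx⟩)).symm
      (congrArg Subtype.val (mem_center_iff.1 hz ⟨y, hy⟩)).symm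
    exact eq_one_of_sq (odd_of_isPGroup p2 hP) z.2 e

end Cfsg.Agent.Lib.CA
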