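/-
CA-groups (S4369): `PSL₂(q)` is a minimal non-CA-group for the listed `q`.
-/
import Cfsg.Agent.Lib.CA.Psl

set_option autoImplicit false

namespace Cfsg.Agent.Lib.CA

open Subgroup Cfsg.Agent.Lib.Core Cfsg.Agent.Lib.AG

section abs

variable {G : Type*} [Group G] [Finite G] {t s w : G} {K : Subgroup G}

omit [Finite G] in
theorem vs_nca (h : VS t s w K) (hK : K ≠ ⊥) : ¬ CA (⊤ : Subgroup G) := fun c => by
  obtain ⟨x, hx, x1⟩ := (bot_or_exists_ne_one K).resolve_left hK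
  rcases c t trivial x trivial s trivial (h.Kt x hx) h.comm with e | e
  · exact x1 (h.eq_one_of_s hx e.symm)
  · exact h.ts (by rw [← h.wt, ← e w trivial, mul_inv_cancel_right])

omit [Finite G] in
theorem vs_extract (h : VS t s w K) {H : Subgroup G} {a b : G} (ha : a ∈ H) (hb : b ∈ H)
    (h1 : t * a = a * t) (h2 : t * b = b * t) (hab : a * b ≠ b * a) :
    ∃ u ∈ H, K4 t u ∧ ∃ y ∈ H, y ∈ K ∧ y ≠ 1 := by
  have key : ∀ u ∈ H, ∀ c ∈ H, t * u = u * t → u * s ∈ K ⊔ zpowers t → c ∈ K ⊔ zpowers t →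
      u * c ≠ c * u → ∃ u ∈ H, K4 t u ∧ ∃ y ∈ H, y ∈ K ∧ y ≠ 1 := fun u hu c hc e hs hT n => by
    obtain ⟨uu, ui⟩ := h.outer hs
    have nT := h.outer_not hs
    refine ⟨u, hu, ⟨h.tt, uu, h.t1, fun e => nT (e ▸ one_mem _), fun e => nT (e ▸ h.tT), e, h.n8⟩,
      c * c, mul_mem hc hc, ?_, fun e => n ?_⟩
    · rcases h.memT.1 hT with k | k
      · exact mul_mem k k
      · have := mul_mem k k
        rwa [mul_assoc, ← mul_assoc t, h.Tt hT, mul_assoc, h.tt, mul_one] at this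
    · calc u * c = u * c * u * u := by rw [mul_assoc, uu, mul_one]
        _ = c * u := by rw [ui c hT, inv_eq_of_mul_eq_one_right e]
  rcases h.memH.1 h1 with k | k <;> rcases h.memH.1 h2 with k' | k'
  · exact absurd (h.Tcomm k k') hab
  · exact key b hb a ha h2 k' k (Ne.symm hab)
  · exact key a ha b hb h1 k k' hab
  · refine key a ha (a * b⁻¹) (mul_mem ha (inv_mem hb)) h1 k
      (by simpa [mul_assoc] using mul_mem k (inv_mem k')) fun e => hab ?_
    calc a * b = b * (a⁻¹ * (a * b⁻¹ * a)) * b := by group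
      _ = b * a := by rw [← e]; group

theorem vs_odd_cent (hA : AG G) (h : VS t s w K) {Y : Subgroup G} (hY : ¬ 2 ∣ Nat.card Y)
    (hn : Vf t s ≤ normalizer (Y : Set G)) :
    Y ≤ centralizer {t} ∨ Y ≤ centralizer {s} ∨ Y ≤ centralizer {t * s} := by
  have k := h.toV4.k4
  set F := fittingOf Y
  have hF : ¬ 2 ∣ Nat.card F := fun e => hY (e.trans (card_dvd_of_le (fittingOf_le Y)))
  have up : ∀ v ∈ Vf t s, F ≤ centralizer {v} → Y ≤ centralizer {v} := fun v hv e => by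
    have := le_centralizer_of_fitting ((k.coprimeAct hn hY).mono_left (zpowers_le_of_mem hv))
      (solv_of_odd hY) (zpowers_le_of_mem (mem_centralizer_iff.2 fun z hz => (mem_C.1 (e hz)).symm))
    exact fun y hy => mem_C.2 (mem_centralizer_iff.1 (this hy) v (mem_zpowers v))
  have one : ∀ {v u : G} {K' : Subgroup G}, VS v u w K' → F ⊓ centralizer {v} ≠ ⊥ →
      F ≤ centralizer {v} := fun h' h2 => by
    obtain ⟨y, hy, y1⟩ := (bot_or_exists_ne_one _).resolve_left h2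
    exact fun z hz => mem_C.2 (h'.ti y (h'.odd_mem_K hF hy.1 (mem_C.1 hy.2)) y1 z
      (hA.fitting_comm Y hy.1 hz))
  by_cases h1 : F ⊓ centralizer {s} = ⊥
  · by_cases h2 : F ⊓ centralizer {t * s} = ⊥
    · exact .inl (up t t_mem_Vf (k.gen (le_normalizer_fittingOf hn) hF inf_le_right (h1 ▸ bot_le)
        (h2 ▸ bot_le)))
    · obtain ⟨K', h', -⟩ := h.rot2
      exact .inr (.inr (up _ ts_mem_Vf (one h' h2)))
  · exact .inr (.inl (up _ s_mem_Vf (one h.rot h1)))

/-- a subgroup with a non-central involution whose centraliser is non-abelian contains an `L₂(q)` -/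
theorem vs_sub (hA : AG G) (h : VS t s w K) {H : Subgroup G} (hV : Vf t s ≤ H) {y : G} (yH : y ∈ H)
    (yK : y ∈ K) (y1 : y ≠ 1) (ht : ¬ H ≤ centralizer {t}) : ∃ L ≤ H, TB L := by
  have k := h.toV4.k4
  have hO := OppOf_not_dvd (p := 2) H
  have hn : H ≤ normalizer (OppOf 2 H : Set G) := le_normalizer_OppOf le_normalizer
  have hc := vs_odd_cent hA h hO (hV.trans hn)
  rcases k.sup_or_cycle hV with e | ⟨c, cH, c1, c2⟩
  · have yO : y ∈ OppOf 2 H := le_O_of_odd k.two hV e (X := K ⊓ H) inf_le_right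
      (fun d => h.K2 (d.trans (card_dvd_of_le inf_le_left))) ⟨yK, yH⟩
    refine absurd (e ▸ sup_le ?_ k.Vf_le_C) ht
    rcases hc with c | c | c
    · exact c
    · exact absurd (h.eq_one_of_s yK (mem_C.1 (c yO))) y1
    · refine absurd (h.eq_one_of_s yK (mul_left_cancel (a := t) ?_)) y1
      rw [← mul_assoc, mem_C.1 (c yO), ← mul_assoc, ← mul_assoc, h.Kt y yK]
  have tr : ∀ a b : G, c * a * c⁻¹ = b → OppOf 2 H ≤ centralizer {a} →
      OppOf 2 H ≤ centralizer {b} := fun a b e h1 z hz => by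
    have := mem_C.1 (h1 (conj_mem_of_mem_normalizer' (hn cH) hz))
    refine mem_C.2 ?_
    calc b * z = c * (a * (c⁻¹ * z * c)) * c⁻¹ := by rw [← e]; group
      _ = z * b := by rw [this, ← e]; group
  have c3 : c * (t * s) * c⁻¹ = t := by
    calc c * (t * s) * c⁻¹ = c * t * c⁻¹ * (c * s * c⁻¹) := by group
      _ = t := by rw [c1, c2, k.s_ts]
  have ct : OppOf 2 H ≤ centralizer {t} := by
    rcases hc with c | c | c
    · exact c
    · exact tr _ _ c3 (tr _ _ c2 c)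
    · exact tr _ _ c3 c
  by_cases hs : Group.IsSolvable H
  · have O1 : OppOf 2 H = ⊥ := eq_bot_iff.2 fun z hz => eq_one_of_sq hO hz (k.sq (by
      rw [← h.centV, centralizer_Vf]; exact ⟨ct hz, tr _ _ c1 ct hz⟩))
    have e := hA.solv_fact hs (k.syl hV)
    rw [O1, bot_sup_eq] at e
    have yt : y * t * y⁻¹ = t := by rw [← h.Kt y yK, mul_inv_cancel_right]
    rcases k.norm_cases (e.ge yH).2 with c | c | c
    · exact absurd (h.eq_one_of_s yK (mem_centralizer_Vf.1 c).2) y1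
    · exact absurd (yt.symm.trans c.1) h.ts
    · exact absurd (c.1.symm.trans yt) k.ts_ne_t
  obtain ⟨L, v, tL, sL, vL, LH, HL, -, h4⟩ := k.over_cent hA hV hs ct
  obtain ⟨K', h'⟩ := h4.vs (hA.subgroup L)
  have yL : y * y ∈ L := by
    have := mul_mem (conj_mem_of_mem_normalizer (HL yH) sL) sL
    rwa [mul_assoc, mul_assoc, ← mul_assoc s, h.Ks _ (inv_mem yK), inv_inv] at this
  refine ⟨L, LH, _, _, _, K', h', fun e => y1 (eq_one_of_sq h.K2 yK ?_)⟩
  have := h'.odd_mem_K (X := K.subgroupOf L) (g := ⟨y * y, yL⟩)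
    (fun d => h.K2 (d.trans (card_comap_dvd_of_injective K L.subtype (subtype_injective L))))
    (mul_mem yK yK) (Subtype.ext (h.Kt _ (mul_mem yK yK)))
  rw [e, mem_bot] at this
  exact congrArg Subtype.val this

/-- all proper subgroups are CA if no proper subgroup is of type `TB` -/
theorem tb_prop (hA : AG G) (h : TB G)
    (hc : ∀ z a b : G, z * z ≠ 1 → z * a = a * z → z * b = b * z → a * b = b * a)
    (hL : ∀ L : Subgroup G, L ≠ ⊤ → ¬ TB L) (H : Subgroup G) (hH : H ≠ ⊤) : CA H := by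
  intro x hx a ha b hb h1 h2
  by_contra n
  rw [not_or] at n
  have x1 : x ≠ 1 := fun e => n.2 fun g _ => by simp [e]
  obtain ⟨s, w, K, hv, -⟩ := h.dat' (by_contra fun e => n.1 (hc x a b e h1 h2)) x1
  obtain ⟨u, uH, k, y, yH, yK, y1⟩ := vs_extract hv ha hb h1 h2 n.1
  obtain ⟨s', w', K', hv', -, e⟩ := h.dat (k.syl le_top) t_mem_Vf x1
  obtain ⟨L, LH, l⟩ := vs_sub hA hv' (e ▸ Vf_le.2 ⟨hx, uH⟩) yH
    (hv'.odd_mem_K hv.K2 yK (hv.Kt y yK)) y1 fun c => n.2 fun g hg => mem_C.1 (c hg)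
  exact hL L (fun c => hH (top_le_iff.1 (c ▸ LH))) l

theorem tb_of_card (hA : AG G) [hs : IsSimpleGroup G] (k : K4 t s) (h60 : 60 < Nat.card G) : TB G := by
  have ns : ¬ Group.IsSolvable (⊤ : Subgroup G) := fun h => by
    have : Group.IsSolvable G := Group.isSolvable_of_isSolvable_injective
      (f := (topEquiv (G := G)).symm.toMonoidHom) (topEquiv (G := G)).symm.injective
    have c := IsSimpleGroup.comm_iff_isSolvable.2 this
    have p : (Nat.card G).Prime :=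
      letI : CommGroup G := { (inferInstance : Group G) with mul_comm := c }
      IsSimpleGroup.prime_card (α := G)
    have := (Nat.dvd_prime p).1 (k.card_Vf ▸ card_subgroup_dvd_card (Vf t s))
    omega
  obtain ⟨w, -, h1, h2⟩ := k.exists_cycle le_top ns
  obtain ⟨K, h⟩ := (k.v4 hs h1 h2).vs hA
  refine ⟨t, s, w, K, h, fun e => ?_⟩
  have e1 := h.cardH
  have e2 := h.toV4.order.2
  have e3 := (centralizer ({t} : Set G)).card_mul_index
  rw [e, card_bot] at e1
  have : centralizer {t} = Vf t s := (eq_of_le_of_card_ge k.Vf_le_C (by rw [e1, k.card_Vf])).symm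
  rw [relIndex_eq_one.2 (by rw [this, Vf_le]; exact ⟨mem_C.2 k.comm.symm, mem_C.2 rfl⟩)] at e2
  rw [e1] at e3
  omega

end abs

section psl

open Matrix Cfsg.Agent.Lib.HallPSL

variable {F : Type*} [Field F] [Fintype F]

theorem not_sixteen {q : ℕ} (h8 : q % 8 = 3 ∨ q % 8 = 5) : ¬ 16 ∣ q * (q ^ 2 - 1) := by
  rintro ⟨m, hm⟩
  obtain ⟨k, rfl | rfl⟩ : ∃ k, q = 8 * k + 3 ∨ q = 8 * k + 5 := ⟨q / 8, by omega⟩
  · rw [show (8 * k + 3) ^ 2 = 64 * k ^ 2 + 48 * k + 8 + 1 by ring, Nat.add_sub_cancel] at hm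
    ring_nf at hm; omega
  · rw [show (8 * k + 5) ^ 2 = 64 * k ^ 2 + 80 * k + 24 + 1 by ring, Nat.add_sub_cancel] at hm
    ring_nf at hm; omega

variable (h8 : Fintype.card F % 8 = 3 ∨ Fintype.card F % 8 = 5)
include h8

theorem two_ne : (2 : F) ≠ 0 := fun e => by
  have hq := FiniteField.cast_card_eq_zero F
  obtain ⟨k, hk⟩ : ∃ k, Fintype.card F = 2 * k + 1 := ⟨Fintype.card F / 2, by omega⟩
  simp [hk, e] at hq

theorem psl_n8 : ¬ 8 ∣ Nat.card (ProjectiveSpecialLinearGroup (Fin 2) F) := fun h =>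
  not_sixteen h8 (card_PSL2 (two_ne h8) ▸ mul_dvd_mul_left 2 h)

theorem psl_ag : AG (ProjectiveSpecialLinearGroup (Fin 2) F) :=
  ag_of_comm (psl_n8 h8) fun _ _ _ => psl_comm (two_ne h8)

theorem psl_tb (h5 : 5 < Fintype.card F) : TB (ProjectiveSpecialLinearGroup (Fin 2) F) := by
  have h2 := two_ne h8
  obtain ⟨c, d, e⟩ := Tor.univ h2 (neg_ne_zero.2 (one_ne_zero (α := F))) (-1)
  have k := K4_ij h2 (c := c) (d := d) (by linear_combination e)
  have := ProjectiveSpecialLinearGroup.rank_two_simple (F := F)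
    (by rw [Nat.card_eq_fintype_card]; omega)
  refine tb_of_card (psl_ag h8) ⟨k.ha, k.hb, k.a1, k.b1, k.ne, k.comm, psl_n8 h8⟩ ?_
  have e1 := card_PSL2 h2
  have e2 : 11 ^ 2 ≤ Fintype.card F ^ 2 := Nat.pow_le_pow_left (by omega) 2
  have e3 : 11 * 120 ≤ Fintype.card F * (Fintype.card F ^ 2 - 1) :=
    Nat.mul_le_mul (by omega) (by omega)
  omega

theorem psl_nca (h5 : 5 < Fintype.card F) :
    ¬ CA (⊤ : Subgroup (ProjectiveSpecialLinearGroup (Fin 2) F)) := by
  obtain ⟨t, s, w, K, h, hK⟩ := psl_tb h8 h5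
  exact vs_nca h hK

/-- a proper subgroup of type `TB` comes with a subfield -/
theorem psl_sub {p n : ℕ} (hp : p.Prime) (hq : Fintype.card F = p ^ n)
    {L : Subgroup (ProjectiveSpecialLinearGroup (Fin 2) F)} (hL : L ≠ ⊤) (h : TB L) :
    ∃ f, f ∣ n ∧ f ≠ n ∧ 11 ≤ p ^ f := by
  have h2 := two_ne h8
  haveI := Fact.mk hp
  have : CharP F p := (CharP.charP_iff_prime_eq_zero hp).2 (by
    have := FiniteField.cast_card_eq_zero F
    rw [hq, Nat.cast_pow] at this
    exact eq_zero_of_pow_eq_zero this)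
  obtain ⟨t, s, w, K, h, hK⟩ := h
  obtain ⟨Q, D, r, q, j, z, -⟩ := VK.zs ((psl_ag h8).subgroup L) h hK
  haveI := Fact.mk z.prime
  obtain ⟨f, hf⟩ := IsPGroup.iff_card.1
    (Core.isPGroup_of_forall_pow fun x hx => ⟨1, by simpa using z.expQ x hx⟩)
  rw [z.cardQ] at hf
  have q11 := z.q11
  have q8 := z.q8
  have e1 := z.cardG
  have e2 := card_PSL2 h2
  have hr : r = p := by
    by_contra n
    obtain ⟨x, hx, x1⟩ := (bot_or_exists_ne_one Q).resolve_left fun e => by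
      have := z.cardQ; rw [e, card_bot] at this; omega
    have ox : orderOf x = r := orderOf_eq_prime (z.expQ x hx) x1
    have np : ∀ m, m.Prime → m ≠ r → (x : ProjectiveSpecialLinearGroup (Fin 2) F) ^ m ≠ 1 :=
      fun m hm hn e => hn ((Nat.prime_dvd_prime_iff_eq z.prime hm).1 (ox ▸ orderOf_dvd_of_pow_eq_one
        (x := x) (Subtype.ext e))).symm
    have r2 : 2 ≠ r := fun e => by
      have : 2 ∣ q := by rw [hf, ← e]; exact dvd_pow_self 2 fun c => by simp [c] at hf; omega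
      omega
    have cj : ∀ d ∈ D, d * x * d⁻¹ = x ∨ d * x * d⁻¹ = x⁻¹ := fun d hd =>
      (psl_conj h2 (p := p) (g := d) (by simpa [pow_two] using np 2 Nat.prime_two r2) (np p hp (Ne.symm n))
        (congrArg Subtype.val (z.commQ x hx _ (z.cjQ hd hx)))).imp Subtype.ext Subtype.ext
    have := Nat.card_le_card_of_injective
      (fun d : D => (⟨(d : L) * x * (d : L)⁻¹, cj d d.2⟩ : ({x, x⁻¹} : Set L))) fun d e c => by
        have c : (d : L) * x * (d : L)⁻¹ = e * x * (e : L)⁻¹ := congrArg Subtype.val c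
        refine Subtype.ext (eq_of_inv_mul_eq_one (z.semi (mul_mem (inv_mem d.2) e.2) hx x1 ?_))
        calc (d : L)⁻¹ * e * x * ((d : L)⁻¹ * e)⁻¹ = (d : L)⁻¹ * (e * x * (e : L)⁻¹) * d := by group
          _ = x := by rw [← c]; group
    have c1 := Set.ncard_insert_le x {x⁻¹}
    have c2 := z.cardD
    rw [Set.ncard_singleton] at c1
    rw [Nat.card_coe_set_eq] at this
    omega
  subst hr
  refine ⟨f, ?_, fun e => hL (eq_top_of_card_eq _ (by rw [hf, e, ← hq] at e1; omega)), hf ▸ q11⟩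
  have d1 : q * (q ^ 2 - 1) ∣ r ^ n * ((r ^ n) ^ 2 - 1) := by
    rw [← e1, ← hq, ← e2]; exact mul_dvd_mul_left 2 (card_subgroup_dvd_card L)
  have f0 : f ≠ 0 := fun c => by simp [c] at hf; omega
  have cop : (q ^ 2 - 1).Coprime (r ^ n) := by
    refine Nat.Coprime.pow_right _ ((hp.coprime_iff_not_dvd).2 fun d => hp.one_lt.ne' ?_).symm
    have d0 : r ∣ q ^ 2 := dvd_pow (hf ▸ dvd_pow_self r f0) two_ne_zero
    have := (Nat.dvd_sub d0 d)
    rwa [Nat.sub_sub_self (Nat.one_le_pow _ _ (by omega)), Nat.dvd_one] at this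
  have d2 := cop.dvd_of_dvd_mul_left ((dvd_mul_left _ _).trans d1)
  rw [hf, ← pow_mul, ← pow_mul, ← Nat.gcd_eq_left_iff_dvd, Nat.pow_sub_one_gcd_pow_sub_one] at d2
  have d3 : r ^ (f * 2).gcd (n * 2) = r ^ (f * 2) := by
    have := pow_pos hp.pos ((f * 2).gcd (n * 2))
    have := pow_pos hp.pos (f * 2)
    omega
  exact Nat.dvd_of_mul_dvd_mul_right two_pos
    (Nat.gcd_eq_left_iff_dvd.1 (Nat.pow_right_injective hp.two_le d3))

omit h8 in
/-- the converse direction of S4369 -/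
theorem mn_psl (F : Type*) [Field F] [Fintype F]
    (h : ((Fintype.card F).Prime ∧ 5 < Fintype.card F ∧ ¬ 16 ∣ Fintype.card F ^ 2 - 1) ∨
      (∃ p : ℕ, p.Prime ∧ p ≠ 2 ∧ (Fintype.card F = 3 ^ p ∨ Fintype.card F = 5 ^ p))) :
    MN (ProjectiveSpecialLinearGroup (Fin 2) F) := by
  have key : ∃ p n : ℕ, p.Prime ∧ Fintype.card F = p ^ n ∧ 5 < p ^ n ∧ (p ^ n % 8 = 3 ∨ p ^ n % 8 = 5) ∧
      ∀ f, f ∣ n → f ≠ n → p ^ f < 11 := by
    rcases h with ⟨h1, h2, h3⟩ | ⟨n, h1, h2, h3⟩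
    · refine ⟨_, 1, h1, (pow_one _).symm, by rwa [pow_one], ?_, fun f e n => absurd (Nat.dvd_one.1 e) n⟩
      rw [pow_one]
      have := h1.eq_two_or_odd
      by_contra c
      obtain ⟨k, e | e⟩ : ∃ k, Fintype.card F = 8 * k + 1 ∨ Fintype.card F + 1 = 8 * k :=
        ⟨(Fintype.card F + 1) / 8, by omega⟩
      · refine h3 ⟨4 * k ^ 2 + k, ?_⟩
        rw [e, show (8 * k + 1) ^ 2 = 16 * (4 * k ^ 2 + k) + 1 by ring, Nat.add_sub_cancel]
      · obtain ⟨k, rfl⟩ : ∃ m, k = m + 1 := ⟨k - 1, by omega⟩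
        refine h3 ⟨4 * k ^ 2 + 7 * k + 3, ?_⟩
        rw [show Fintype.card F = 8 * k + 7 by omega,
          show (8 * k + 7) ^ 2 = 16 * (4 * k ^ 2 + 7 * k + 3) + 1 by ring, Nat.add_sub_cancel]
    · obtain ⟨k, hk⟩ := h1.odd_of_ne_two h2
      have k1 : 2 ≤ n := h1.two_le
      have m : ∀ a, a * a % 8 = 1 → a ^ n % 8 = a % 8 := fun a ha => by
        rw [hk, pow_succ, pow_mul, pow_two, Nat.mul_mod, Nat.pow_mod, ha]; simp
      rcases h3 with e | e
      · exact ⟨3, n, Nat.prime_three, e, lt_of_lt_of_le (by norm_num) (Nat.pow_le_pow_right three_pos k1),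
          .inl (m 3 rfl), fun f d c => by rw [(h1.eq_one_or_self_of_dvd f d).resolve_right c]; norm_num⟩
      · exact ⟨5, n, Nat.prime_five, e, lt_of_lt_of_le (by norm_num) (Nat.pow_le_pow_right (by norm_num) k1),
          .inr (m 5 rfl), fun f d c => by rw [(h1.eq_one_or_self_of_dvd f d).resolve_right c]; norm_num⟩
  obtain ⟨p, n, hp, hq, h5, h8, hf⟩ := key
  rw [← hq] at h5 h8
  obtain ⟨t, s, w, K, v, hK⟩ := psl_tb h8 h5
  refine ⟨fun c => v.toV4.nsolv inferInstance, vs_nca v hK, tb_prop (psl_ag h8) ⟨t, s, w, K, v, hK⟩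
    (fun _ _ _ => psl_comm (two_ne h8)) fun L hL l => ?_⟩
  obtain ⟨f, a, b, c⟩ := psl_sub h8 hp hq hL l
  exact absurd (hf f a b) (not_lt.2 c)

end psl

end Cfsg.Agent.Lib.CA
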