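/-
General Brauer–Suzuki–Wall, part 1: the group `T` and its embedding.
-/
import Cfsg.Agent.Lib.CA.Def2
import Cfsg.Agent.Lib.AG.BSW6

set_option autoImplicit false
set_option linter.unusedSectionVars false

namespace Cfsg.Agent.Lib.CA

open Subgroup Cfsg.Agent.Lib Cfsg.Agent.Lib.AG

variable {G : Type*} [Group G] {t s : G} {T : Subgroup G} {k : ℕ}

namespace GD

variable (h : GD t s T)
include h

theorem tinv : t⁻¹ = t := inv_eq_of_mul_eq_one_right h.tt
theorem sinv : s⁻¹ = s := inv_eq_of_mul_eq_one_right h.ss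

theorem Tcomm {x y : G} (hx : x ∈ T) (hy : y ∈ T) : x * y = y * x := by
  have e := h.Tinv _ (T.mul_mem hx hy)
  have e2 : s * (x * y) * s = (s * x * s) * (s * y * s) := by
    calc s * (x * y) * s = s * x * (s * s) * y * s := by rw [h.ss]; group
      _ = _ := by group
  rw [e2, h.Tinv x hx, h.Tinv y hy, ← mul_inv_rev] at e
  exact (inv_injective e).symm

theorem Tt {g : G} (hg : g ∈ T) : t * g = g * t := h.Tcomm h.tT hg

theorem comm : t * s = s * t := by
  have := h.Tinv t h.tT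
  rw [h.tinv] at this
  calc t * s = s * t * s * s := by rw [this]
    _ = s * t := by rw [mul_assoc, h.ss, mul_one]

theorem memH {g : G} : t * g = g * t ↔ g ∈ T ∨ g * s ∈ T := by
  refine ⟨h.cent g, ?_⟩
  rintro (hg | hg)
  · exact h.Tt hg
  · have e := h.Tt hg
    rw [mul_assoc, ← h.comm, ← mul_assoc, ← mul_assoc] at e
    exact mul_right_cancel e

theorem outer {g : G} (hg : g * s ∈ T) : g * g = 1 ∧ ∀ x ∈ T, g * x * g = x⁻¹ := by
  obtain ⟨u, hu, rfl⟩ : ∃ u ∈ T, g = u * s := ⟨_, hg, by rw [mul_assoc, h.ss, mul_one]⟩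
  refine ⟨by rw [mul_assoc, ← mul_assoc s, h.Tinv _ hu, mul_inv_cancel], fun x hx => ?_⟩
  calc u * s * x * (u * s) = u * (s * (x * u) * s) := by group
    _ = x⁻¹ := by rw [h.Tinv _ (mul_mem hx hu)]; group

theorem outer_not {g : G} (hg : g * s ∈ T) : g ∉ T := fun e =>
  h.sT (by simpa using mul_mem (inv_mem e) hg)

theorem centT {x g : G} (hx : x ∈ T) (h1 : x * x ≠ 1) (hg : x * g = g * x) : g ∈ T := by
  rcases h.memH.1 (h.ti x hx (fun e => h1 (by simp [e])) g hg) with h2 | h2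
  · exact h2
  · obtain ⟨e1, e2⟩ := h.outer h2
    have := e2 x hx
    rw [← hg, mul_assoc, e1, mul_one] at this
    exact absurd (by nth_rewrite 1 [this]; exact inv_mul_cancel x) h1

theorem tiT {x g : G} (hx : x ∈ T) (h1 : x ≠ 1) (hg : g⁻¹ * x * g ∈ T) : t * g = g * t := by
  have key : g⁻¹ * t * g ∈ T := by
    by_cases x2 : x * x = 1
    · rwa [← (h.invT x hx x2).resolve_left h1]
    · refine h.centT hg (fun e => x2 ?_) ?_
      · have : x * x = g * (g⁻¹ * x * g * (g⁻¹ * x * g)) * g⁻¹ := by group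
        rw [this, e]; group
      · calc g⁻¹ * x * g * (g⁻¹ * t * g) = g⁻¹ * (x * t) * g := by group
          _ = _ := by rw [← h.Tt hx]; group
  rcases h.invT _ key (by
      calc g⁻¹ * t * g * (g⁻¹ * t * g) = g⁻¹ * (t * t) * g := by group
        _ = 1 := by rw [h.tt]; group) with e | e
  · exact absurd (by simpa [mul_assoc] using congrArg (g * · * g⁻¹) e) h.t1
  · calc t * g = g * (g⁻¹ * t * g) := by group
      _ = _ := by rw [e]

variable [Finite G]

theorem cardT : ∃ k, Nat.card T = 2 * k := by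
  have := Subgroup.orderOf_dvd_natCard _ h.tT
  rwa [orderOf_eq_prime (p := 2) (by rw [pow_two, h.tt]) h.t1] at this

theorem cardH (hk : Nat.card T = 2 * k) : Nat.card (centralizer ({t} : Set G)) = 4 * k := by
  rw [card_two_mul (A := T) (a := s) (fun g hg => mem_centralizer_singleton_iff.2
    (h.Tt hg).symm) (mem_centralizer_singleton_iff.2 h.comm.symm) h.sT
    (fun b hb => h.memH.1 (mem_centralizer_singleton_iff.1 hb).symm), hk]; ring

theorem invol_conj {j : G} (hj : j * j = 1) (h1 : j ≠ 1) : ∃ g : G, g⁻¹ * j * g = t := h.conj j hj h1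

theorem inA_of_comm {g y : G} (hy : InA T y) (hc : y * g = g * y) (h1 : g ≠ 1) :
    InA T g := by
  obtain ⟨y1, x, hx⟩ := hy
  have e : t * (x⁻¹ * g * x) = x⁻¹ * g * x * t := by
    refine h.tiT hx (fun e => y1 (by simpa [mul_assoc] using congrArg (x * · * x⁻¹) e)) ?_
    have : (x⁻¹ * g * x)⁻¹ * (x⁻¹ * y * x) * (x⁻¹ * g * x) = x⁻¹ * y * x := by
      calc _ = x⁻¹ * (g⁻¹ * (y * g)) * x := by group
        _ = _ := by rw [hc]; group
    rwa [this]
  rcases h.memH.1 e with h2 | h2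
  · exact ⟨h1, x, h2⟩
  · obtain ⟨z, hz⟩ := h.invol_conj (h.outer h2).1
      (fun e => h1 (by simpa [mul_assoc] using congrArg (x * · * x⁻¹) e))
    exact ⟨h1, x * z, by rw [show (x * z)⁻¹ * g * (x * z) = t by rw [← hz]; group]; exact h.tT⟩

theorem inA_of_prime (hT : Nat.card T = 2 * k) {r : ℕ} (hr : r.Prime) (hk : r ∣ 2 * k) {g : G} (hg : r ∣ orderOf g) :
    InA T g := by
  haveI := Fact.mk hr
  have g1 : g ≠ 1 := by rintro rfl; exact hr.one_lt.ne' (by simpa using hg)
  set y := g ^ (orderOf g / r)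
  have hy : orderOf y = r := orderOf_pow_orderOf_div (orderOf_pos g).ne' hg
  have y1 : y ≠ 1 := fun e => hr.one_lt.ne' (by rw [← hy, e, orderOf_one])
  refine h.inA_of_comm (y := y) ?_ ((Commute.refl g).pow_left _) g1
  by_cases h2 : r = 2
  · subst h2
    obtain ⟨z, hz⟩ := h.invol_conj (j := y) (by rw [← pow_two, ← hy, pow_orderOf_eq_one]) y1
    exact ⟨y1, z, hz ▸ h.tT⟩
  · obtain ⟨x, hx⟩ := exists_prime_orderOf_dvd_card' r (hT ▸ hk)
    have hx' : orderOf (x : G) = r ^ 1 := by rw [orderOf_coe, hx, pow_one]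
    have x1 : (x : G) ≠ 1 := fun e => hr.one_lt.ne' (by rw [← pow_one r, ← hx', e, orderOf_one])
    obtain ⟨R, hR⟩ := (Invol.isPGroup_zpowers_of_orderOf hx').exists_le_sylow
    have hxR : (x : G) ∈ (R : Subgroup G) := hR (mem_zpowers _)
    haveI : Nontrivial (R : Subgroup G) := ⟨⟨⟨x, hxR⟩, 1, fun e => x1 (congrArg Subtype.val e)⟩⟩
    haveI := R.isPGroup'.center_nontrivial
    obtain ⟨z, hz⟩ := exists_ne (1 : center (R : Subgroup G))
    have hzc : ∀ a ∈ (R : Subgroup G), a * z.1.1 = z.1.1 * a := fun a ha =>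
      congrArg Subtype.val (mem_center_iff.1 z.2 ⟨a, ha⟩)
    have z1 : (z.1.1 : G) ≠ 1 := fun e => hz (Subtype.ext (Subtype.ext e))
    obtain ⟨a, ha⟩ := Invol.exists_conj_mem_sylow R (x := y) (k := 1) (by rw [hy, pow_one])
    refine InA.of_conj a (h.inA_of_comm (InA.of_mem (h.centT x.2 (fun e => h2 ((Nat.prime_dvd_prime_iff_eq hr Nat.prime_two).1
      (by rw [← pow_one r, ← hx']; exact orderOf_dvd_of_pow_eq_one (by rwa [pow_two])))) (hzc _ hxR)) z1)
      (hzc _ ha).symm fun e => y1 (by simpa using e))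

theorem not_coprime (hT : Nat.card T = 2 * k) {g : G} (hg : InA T g) :
    ¬ (orderOf g).Coprime (2 * k) := fun hc => by
  obtain ⟨g1, x, hx⟩ := hg
  have := Subgroup.orderOf_dvd_natCard _ hx
  rw [hT, show orderOf (x⁻¹ * g * x) = orderOf g by
    simpa using (MulAut.conj x⁻¹).orderOf_eq g] at this
  exact g1 (orderOf_eq_one_iff.1 (hc.eq_one_of_dvd this))

theorem coprime_of_not (hT : Nat.card T = 2 * k) {g : G} (hg : ¬ InA T g) :
    (orderOf g).Coprime (2 * k) :=
  Nat.coprime_of_dvd' fun r hr h1 h2 => absurd (h.inA_of_prime hT hr h2 h1) hg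

end GD

end Cfsg.Agent.Lib.CA
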