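/-
General Brauer–Suzuki–Wall, part 2: induced characters and coherence.
-/
import Cfsg.Agent.Lib.CA.GD1

set_option autoImplicit false
set_option linter.unusedSectionVars false

namespace Cfsg.Agent.Lib.CA

open Subgroup Cfsg.Agent.Lib Cfsg.Agent.Lib.AG Cfsg.Agent.Lib.Char Cfsg.Agent.Lib.Char.Pair Finset

variable {G : Type*} [Group G] [Fintype G] {t s : G} {T : Subgroup G} {k : ℕ}

theorem lbar_apply {A : Type*} [Group A] [Fintype A] (l : A →* ℂ) (x : A) : lbar l x = l x⁻¹ := rfl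

theorem lin_ne {A : Type*} [Group A] (l : A →* ℂ) (x : A) : l x ≠ 0 :=
  left_ne_zero_of_mul_eq_one (b := l x⁻¹) (by rw [← map_mul, mul_inv_cancel, map_one])

theorem real_iff {A : Type*} [Group A] [Fintype A] {l : A →* ℂ} : l = lbar l ↔ ∀ x, l (x * x) = 1 := by
  refine ⟨fun e x => ?_, fun e => MonoidHom.ext fun x => ?_⟩
  · rw [map_mul]; nth_rewrite 2 [e]; rw [lbar_apply, ← map_mul, mul_inv_cancel, map_one]
  · refine mul_left_cancel₀ (lin_ne l x) ?_
    rw [← map_mul, e, lbar_apply, ← map_mul, mul_inv_cancel, map_one]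

theorem exists_lin {A : Type*} [Group A] [Finite A] (hA : ∀ a b : A, a * b = b * a) {x : A} (hx : x ≠ 1) :
    ∃ l : A →* ℂ, l x ≠ 1 := by
  letI : CommGroup A := { ‹Group A› with mul_comm := hA }
  obtain ⟨φ, hφ⟩ := CommGroup.exists_apply_ne_one_of_hasEnoughRootsOfUnity A ℂ hx
  exact ⟨(Units.coeHom ℂ).comp φ, fun e => hφ (Units.ext e)⟩

namespace GD

variable (h : GD t s T)
include h

theorem Th_mem (l : T →* ℂ) (x : T) :
    Th _ l x = 2 - l x - l x⁻¹ := by
  have := Fintype.ofFinite T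
  by_cases x1 : x = 1
  · rw [x1, Subgroup.coe_one, Th_one]; simp; norm_num
  have hab : s⁻¹ * x * s ∈ T := by rw [h.sinv, h.Tinv _ x.2]; exact inv_mem x.2
  have := ind_apply_of_two (H := T) (f := 1 - ⇑l)
    (isVChar_one.sub (isChar_lin l).isVChar).isClass (A := T)
    (fun y _ => y.2) x h.sT (fun g hg => by
      rcases h.memH.1 (h.tiT x.2 (fun e => x1 (Subtype.ext e)) hg) with e | e
      · exact Or.inl e
      · refine Or.inr ?_
        have := h.Tinv _ e
        rw [mul_assoc, mul_assoc, h.ss, mul_one] at this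
        rw [h.sinv, this]; exact inv_mem e) hab
  have e : (⟨_, hab⟩ : T) = x⁻¹ := Subtype.ext (by
    show s⁻¹ * x * s = _; rw [h.sinv, h.Tinv _ x.2]; rfl)
  rw [Th, this, e]; simp; ring

open Classical in
theorem ip_Th_Th {l m : T →* ℂ} (hl : l ≠ 1) (hm : m ≠ 1) :
    ip (Th _ l) (Th _ m) = 2 + (if l = m then 1 else 0) + (if l = lbar m then 1 else 0) := by
  have := Fintype.ofFinite T
  have hm' : lbar m ≠ 1 := fun e => hm (MonoidHom.ext fun x => by
    have := DFunLike.congr_fun e x⁻¹; simpa [lbar] using this)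
  rw [ip_Th_congr _ l (vc_Th _ m).isClass ((⇑(1 : _ →* ℂ) - ⇑m) + (⇑(1 : _ →* ℂ) - ⇑(lbar m)))
    (fun x _ => by rw [h.Th_mem]; simp [lbar]; ring),
    show (1 : T → ℂ) = ⇑(1 : T →* ℂ) from rfl]
  simp only [ip_add_right, ip_sub_left, ip_sub_right, ip_lin_lin, if_neg hl, if_neg hm.symm,
    if_neg hm'.symm, if_true]
  ring

theorem lin_t (l : T →* ℂ) : l ⟨t, h.tT⟩ = 1 ∨ l ⟨t, h.tT⟩ = -1 :=
  mul_self_eq_one_iff.1 (by rw [← map_mul, show (⟨t, h.tT⟩ * ⟨t, h.tT⟩ : T) = 1 from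
    Subtype.ext h.tt, map_one])

theorem lbar_t (l : T →* ℂ) : lbar l ⟨t, h.tT⟩ = l ⟨t, h.tT⟩ :=
  congrArg l (Subtype.ext h.tinv)

theorem DD_conj (a : G) (ha : a ∈ DD 2 G) : IsConj t a := by
  obtain ⟨g, hg⟩ := h.invol_conj (mem_DD2.1 ha).1 (mem_DD2.1 ha).2
  exact isConj_iff.2 ⟨g, by rw [← hg]; group⟩

theorem card_DD : #(DD 2 G) = (centralizer ({t} : Set G)).index := by
  classical
  rw [← Invol.card_conj_eq_index, Nat.card_eq_fintype_card, Fintype.card_subtype]
  congr 1; ext a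
  simp only [mem_filter, mem_univ, true_and]
  refine ⟨h.DD_conj a, fun e => ?_⟩
  obtain ⟨g, rfl⟩ := isConj_iff.1 e
  exact mem_DD2.2 ⟨by rw [conj_mul, h.tt]; simp, by simpa using h.t1⟩

theorem SJ_Th (hT : Nat.card T = 2 * k) {l : T →* ℂ} (hl : l ≠ 1) :
    SJ (Th _ l) = 2 * k * Fintype.card G := by
  classical
  let n : G → ℂ := fun g => ∑ a ∈ DD 2 G, ∑ b ∈ DD 2 G, if a * b * g = 1 then 1 else 0
  have hc : ∀ (x : G) (F : G → ℂ), ∑ a ∈ DD 2 G, F (x⁻¹ * a * x) = ∑ a ∈ DD 2 G, F a := fun x F =>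
    sum_bij' (fun b _ => x⁻¹ * b * x) (fun b _ => x * b * x⁻¹)
      (fun b hb => by rw [mem_DD] at hb ⊢; rw [← hb]; simpa using (MulAut.conj x⁻¹).orderOf_eq b)
      (fun b hb => by rw [mem_DD] at hb ⊢; rw [← hb]; exact (MulAut.conj x).orderOf_eq b)
      (fun b _ => by group) (fun b _ => by group) (fun b _ => rfl)
  have hn : IsClass n := fun g x => by
    simp only [n]
    rw [← hc x (fun a => ∑ b ∈ DD 2 G, if a * b * g = 1 then 1 else 0)]
    refine sum_congr rfl fun a _ => ?_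
    rw [← hc x (fun b => if x⁻¹ * a * x * b * g = 1 then 1 else 0)]
    refine sum_congr rfl fun b _ => if_congr ?_ rfl rfl
    rw [show x⁻¹ * a * x * (x⁻¹ * b * x) * g = x⁻¹ * (a * b * (x * g * x⁻¹)) * x by group]
    exact ⟨fun e => by rw [e]; simp, fun e => by simpa [mul_assoc] using congrArg (x * · * x⁻¹) e⟩
  have e1 : ∀ f : G → ℂ, SJ f = Fintype.card G * ip f n := fun f => by
    rw [ip, mul_inv_cancel_left₀ card_ne_zero']
    simp only [n, mul_sum, mul_inv_eq_one]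
    rw [sum_comm, SJ]
    refine sum_congr rfl fun a _ => ?_
    rw [sum_comm]
    exact sum_congr rfl fun b _ => by simp
  rw [e1, ip_Th_const _ hl hn (2 * k) fun x hx x1 => ?_, mul_comm]
  have : ∀ a ∈ DD 2 G, (∑ b ∈ DD 2 G, if a * b * x = 1 then (1 : ℂ) else 0) =
      if a * s ∈ T then 1 else 0 := fun a ha => by
    obtain ⟨a2, a1⟩ := mem_DD2.1 ha
    have ai : a⁻¹ = a := inv_eq_of_mul_eq_one_right a2
    have : ∀ b, a * b * x = 1 ↔ b = a * x⁻¹ := fun b =>
      ⟨fun e => by rw [← eq_inv_of_mul_eq_one_left e, ← mul_assoc, a2, one_mul], fun e => by rw [e, ← mul_assoc, a2]; simp⟩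
    simp only [this, sum_ite_eq', mem_DD2]
    refine if_congr ⟨fun ⟨b2, b1⟩ => ?_, fun e => ?_⟩ rfl rfl
    · have e3 : a⁻¹ * x⁻¹ * a = x := by
        rw [ai]; calc a * x⁻¹ * a = a * x⁻¹ * (a * x⁻¹) * x := by group
          _ = x := by rw [b2, one_mul]
      refine (h.memH.1 (h.tiT (inv_mem hx) (inv_ne_one.2 x1) (e3.symm ▸ hx))).resolve_left fun e => ?_
      have r1 := (h.invT _ e a2).resolve_left a1
      have r2 := (h.invT _ (mul_mem e (inv_mem hx)) b2).resolve_left b1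
      exact x1 (by rw [← r1] at r2; simpa using r2)
    · have e' : a * x⁻¹ * s ∈ T := by
        have : a * x⁻¹ * s = a * s * (s * x⁻¹ * s) := by
          rw [show a * s * (s * x⁻¹ * s) = a * (s * s) * x⁻¹ * s by group, h.ss, mul_one]
        rw [this, h.Tinv _ (inv_mem hx), inv_inv]; exact mul_mem e hx
      exact ⟨(h.outer e').1, fun e2 => h.outer_not e' (e2 ▸ one_mem _)⟩
  simp only [n]
  rw [sum_congr rfl this, sum_boole]
  have : #{a ∈ DD 2 G | a * s ∈ T} = Nat.card T := by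
    rw [Nat.card_eq_fintype_card, Fintype.card_subtype]
    refine card_bij' (fun a _ => a * s) (fun a _ => a * s) (fun a ha => by simpa using (mem_filter.1 ha).2)
      (fun a ha => ?_) (fun a _ => by simp [mul_assoc, h.ss]) (fun a _ => by simp [mul_assoc, h.ss])
    have e : a * s * s ∈ T := by simpa [mul_assoc, h.ss] using ha
    exact mem_filter.2 ⟨mem_DD2.2 ⟨(h.outer e).1, fun e2 => h.outer_not e (e2 ▸ one_mem _)⟩, e⟩
  rw [this, hT]; push_cast; ring

theorem exists_eps : ∃ e : T →* ℂ, e ≠ 1 ∧ e = lbar e ∧ ∀ l : T →* ℂ, l = lbar l → l = 1 ∨ l = e := by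
  classical
  have := Fintype.ofFinite T
  letI : CommGroup T := { (inferInstance : Group T) with mul_comm := fun a b => Subtype.ext (h.Tcomm a.2 b.2) }
  let f : T →* T := powMonoidHom 2
  have hf : ∀ x, f x = x * x := fun x => pow_two x
  have hk : f.ker = zpowers ⟨t, h.tT⟩ := le_antisymm (fun x hx => by
      rcases h.invT x x.2 (congrArg Subtype.val ((hf x).symm.trans hx)) with e | e
      · exact (Subtype.ext e : x = 1) ▸ one_mem _
      · exact (Subtype.ext e : x = ⟨t, h.tT⟩) ▸ mem_zpowers _)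
    (zpowers_le_of_mem ((hf _).trans (Subtype.ext h.tt)))
  have hi : f.range.index = 2 := by
    have e1 := f.range.index_mul_card
    have e2 := f.ker.index_mul_card
    rw [index_ker, hk, Nat.card_zpowers, orderOf_eq_prime (p := 2) (by
      rw [pow_two]; exact Subtype.ext h.tt) (fun e => h.t1 (congrArg Subtype.val e)), ← e1, mul_comm] at e2
    exact (Nat.eq_of_mul_eq_mul_right Nat.card_pos e2).symm
  have hm : ∀ x y : T, x * y ∈ f.range ↔ (x ∈ f.range ↔ y ∈ f.range) := fun x y =>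
    mul_mem_iff_of_index_two hi
  obtain ⟨a, ha⟩ : ∃ a, a ∉ f.range := by
    by_contra! e; rw [(eq_top_iff' _).2 e, index_top] at hi; omega
  refine ⟨⟨⟨fun x => if x ∈ f.range then 1 else -1, by simp⟩, fun x y => ?_⟩, fun e => ?_,
    real_iff.2 fun x => if_pos ⟨x, hf x⟩, fun l hl => ?_⟩
  · by_cases hx : x ∈ f.range <;> by_cases hy : y ∈ f.range <;> simp only [hm, hx, hy] <;> simp
  · have := DFunLike.congr_fun e a
    simp only [MonoidHom.coe_mk, OneHom.coe_mk, if_neg ha, MonoidHom.one_apply] at this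
    norm_num at this
  · have r : ∀ x ∈ f.range, l x = 1 := by rintro _ ⟨x, rfl⟩; rw [hf]; exact real_iff.1 hl x
    have r2 : ∀ x, x ∉ f.range → l x = l a := fun x hx => by
      refine mul_right_cancel₀ (lin_ne l a) ?_
      rw [← map_mul, ← map_mul, r _ ((hm _ _).2 (by simp [hx, ha])), real_iff.1 hl]
    rcases mul_self_eq_one_iff.1 ((map_mul l a a).symm.trans (real_iff.1 hl a)) with e | e
    · refine Or.inl (MonoidHom.ext fun x => ?_)
      by_cases hx : x ∈ f.range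
      exacts [r x hx, (r2 x hx).trans e]
    · refine Or.inr (MonoidHom.ext fun x => ?_)
      by_cases hx : x ∈ f.range
      exacts [(r x hx).trans (if_pos hx).symm, ((r2 x hx).trans e).trans (if_neg hx).symm]

theorem exists_dec {l e : T →* ℂ} (e1 : e ≠ 1) (he : e = lbar e)
    (hl : l ≠ lbar l) : ∃ a c, Dec (Th _ l) (Th _ e) a c := by
  have l1 : l ≠ 1 := by rintro rfl; exact hl (MonoidHom.ext fun x => rfl)
  have le : l ≠ e := by rintro rfl; exact hl he
  obtain ⟨a, c, h1, h2, h3, h4, h5, h6, h7, h8⟩ := decomp3 (vc_Th _ l) (vc_Th _ e)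
    (ip_Th_const _ l1 (isClass_const 1) 1 fun _ _ _ => rfl)
    (ip_Th_const _ e1 (isClass_const 1) 1 fun _ _ _ => rfl)
    (by rw [h.ip_Th_Th l1 l1, if_pos rfl, if_neg hl]; norm_num)
    (by rw [h.ip_Th_Th e1 e1, if_pos rfl, if_pos he]; norm_num)
    (by rw [h.ip_Th_Th l1 e1, if_neg le, ← he, if_neg le]; norm_num)
  exact ⟨a, c, h1, h2, h3, h4, h5, h6, h7, h8⟩

theorem Th_t (l : T →* ℂ) : Th _ l t = 2 - 2 * l ⟨t, h.tT⟩ := by
  have := h.Th_mem l ⟨t, h.tT⟩
  rw [show l (⟨t, h.tT⟩ : T)⁻¹ = _ from h.lbar_t l] at this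
  linear_combination this

theorem coh_pm (hT : Nat.card T = 2 * k) {l m e : T →* ℂ} (het : e ⟨t, h.tT⟩ = -1) (he : e = lbar e)
    (l1 : l ≠ 1) (hl : l ⟨t, h.tT⟩ = 1) (hm : m ⟨t, h.tT⟩ = -1) {a c a' c' : G → ℂ}
    (d : Dec (Th _ l) (Th _ e) a c) (d' : Dec (Th _ m) (Th _ e) a' c') : a' = a := by
  have m1 : m ≠ 1 := by rintro rfl; norm_num at hm
  have e1 : e ≠ 1 := by rintro rfl; norm_num at het
  refine (d.dich d' ?_).resolve_right fun ⟨haa, hc⟩ => ?_
  · rw [h.ip_Th_Th l1 m1, if_neg (by rintro rfl; rw [hl] at hm; norm_num at hm),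
      if_neg (by rintro rfl; rw [h.lbar_t, hm] at hl; norm_num at hl)]; norm_num
  subst hc
  have hd : SI (Th _ e - 1 - a - a') := by
    refine (((vc_Th _ e).sub isVChar_one).sub d.sa.vc).sub d'.sa.vc |>.eq_of_norm_one ?_
    have E1 : ip (Th _ e) 1 = 1 := ip_Th_const _ e1 (isClass_const 1) 1 fun _ _ _ => rfl
    have EE : ip (Th _ e) (Th _ e) = 4 := by rw [h.ip_Th_Th e1 e1, if_pos rfl, if_pos he]; norm_num
    simp only [ip_sub_left, ip_sub_right, E1, EE, ip_comm 1 (Th _ e), ip_comm (Th _ e) a,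
      ip_comm (Th _ e) a', d.aE, d'.aE, ip_one_one, ip_comm 1 a, ip_comm 1 a', d.a1, d'.a1,
      d.sa.norm, d'.sa.norm, haa, ip_comm a' a]
    norm_num
  obtain ⟨b, hb⟩ : ∃ b, b = Th _ e - 1 - a - a' := ⟨_, rfl⟩
  rw [← hb] at hd
  have hE : Th _ e = 1 + a + a' + b := by rw [hb]; abel
  have v1 := congrFun d.eq 1
  have v2 := congrFun d'.eq 1
  have v3 := congrFun hE 1
  have t1 := congrFun d.eq t
  have t2 := congrFun d'.eq t
  have t3 := congrFun hE t
  have s1 := h.SJ_Th hT l1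
  have s2 := h.SJ_Th hT m1
  have s3 := h.SJ_Th hT e1
  rw [d.eq] at s1; rw [d'.eq] at s2; rw [hE] at s3
  simp only [SJ_add, Th_one, h.Th_t, hl, hm, het, Pi.add_apply, Pi.one_apply] at v1 v2 v3 t1 t2 t3 s1 s2 s3
  have p1 := d.sa.SJ h.DD_conj
  have p2 := d'.sa.SJ h.DD_conj
  have p3 := d.sc.SJ h.DD_conj
  have p4 := hd.SJ h.DD_conj
  have hN : (#(DD 2 G) : ℂ) ^ 2 ≠ 0 := by
    rw [h.card_DD]; exact pow_ne_zero _ (by exact_mod_cast index_ne_zero_of_finite)
  generalize (#(DD 2 G) : ℂ) ^ 2 = N at *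
  have y1 : a' 1 = a 1 := by linear_combination v1 - v2
  have y2 : c' 1 = -1 - a 1 := by linear_combination -v1
  have y3 : b 1 = -1 - 2 * a 1 := by linear_combination -v3 - y1
  have x1 : a t = -2 := by
    have : N * (a' t ^ 2 - a t ^ 2) = 0 := by
      linear_combination p1 - p2 + SJ a' * y1 + a 1 * (s2 - s1)
    have := (mul_eq_zero.1 this).resolve_left hN
    have e : a' t = a t + 4 := by linear_combination t1 - t2
    rw [e] at this; linear_combination this / 8
  have x2 : a' t = 2 := by linear_combination t1 - t2 + x1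
  have x3 : c' t = 1 := by linear_combination -t1 - x1
  have x4 : b t = 3 := by linear_combination -t3 - x1 - x2
  rw [y1, x2] at p2; rw [y2, x3] at p3; rw [y3, x4] at p4
  have : N * (a 1 + 2) ^ 2 = 0 := by
    have s4 : SJ c' = SJ a' + SJ b := by linear_combination s1 - s3
    rw [s4] at p3
    linear_combination (-(1 + a 1) * (1 + 2 * a 1)) * p2 + ((1 + a 1) * a 1) * p4 -
      ((1 + 2 * a 1) * a 1) * p3
  have y4 : c' 1 = 1 := by
    have := pow_eq_zero_iff two_ne_zero |>.1 ((mul_eq_zero.1 this).resolve_left hN)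
    linear_combination y2 - this
  obtain ⟨j, rfl | rfl⟩ := d.sc
  · have hd : deg j = 1 := by rw [chi_one] at y4; exact_mod_cast y4
    have e : kerI j = ⊤ := top_le_iff.1 (h.perf ▸ commutator_le.2 fun a _ b _ => mem_kerI.2 (by
      show linOf hd _ = _
      rw [commutatorElement_def, hd, map_mul, map_mul, map_mul, mul_right_comm (linOf hd a), mul_assoc,
        ← map_mul, ← map_mul, ← map_mul]; simp))
    have := d.c1; rw [kerI_eq_top_iff.1 e, chi_triv, ip_one_one] at this; exact one_ne_zero this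
  · rw [Pi.neg_apply, chi_one] at y4
    have : ((deg j + 1 : ℕ) : ℂ) = 0 := by push_cast; linear_combination -y4
    exact absurd (Nat.cast_eq_zero.1 this) (by omega)

end GD

end Cfsg.Agent.Lib.CA
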