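/-
General Brauer–Suzuki–Wall, part 3: coherence and the character `ψ`.
-/
import Cfsg.Agent.Lib.CA.GD2

set_option autoImplicit false
set_option linter.unusedSectionVars false

namespace Cfsg.Agent.Lib.CA

open Subgroup Cfsg.Agent.Lib Cfsg.Agent.Lib.AG Cfsg.Agent.Lib.Char Cfsg.Agent.Lib.Char.Pair Finset

variable {G : Type*} [Group G] [Fintype G] {t s : G} {T : Subgroup G} {k : ℕ}

theorem dec_ip {f f' E a c a' c' : G → ℂ} (d : Dec f E a c) (d' : Dec f' E a' c') :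
    ip f f' = 1 + ip a a' + ip c c' := by
  rw [d.eq, d'.eq]
  simp only [ip_add_left, ip_add_right, ip_one_one, d.a1, d.c1, ip_comm 1 a', ip_comm 1 c', d'.a1,
    d'.c1, d.cross d', ip_comm c a', d'.cross d]
  ring

theorem dec_same {f f' E a c a' c' : G → ℂ} (d : Dec f E a c) (d' : Dec f' E a' c') (h : ip f f' = 3) :
    a' = a := by
  rw [dec_ip d d'] at h
  rcases d.sa.cases d'.sa with e | e | e
  · rcases d.sc.cases d'.sc with e2 | e2 | e2
    · rw [e, e2] at h; norm_num at h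
    · rw [e, e2, d.sc.norm] at h; norm_num at h
    · rw [e, e2, ip_comm, ip_neg_left, d.sc.norm] at h; norm_num at h
  · exact e
  · have := d'.aE; rw [e, ip_neg_left, d.aE] at this; norm_num at this

theorem dec_three {f f' f'' E a c a' c' a'' c'' : G → ℂ} (d : Dec f E a c) (d' : Dec f' E a' c')
    (d'' : Dec f'' E a'' c'') (h1 : ip f f' = 2) (h2 : ip f f'' = 2) (h3 : ip f' f'' = 2) (hE : IsVChar E)
    (E1 : ip E 1 = 1) (EE : ip E E = 4) (v : f 1 = 0) (v' : f' 1 = 0) (v'' : f'' 1 = 0) (vE : E 1 = 0) :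
    a' = a := by
  refine (d.dich d' h1).resolve_right fun ⟨e1, e2⟩ => ?_
  subst e2
  rcases d.dich d'' h2 with e3 | ⟨e3, e4⟩ <;> rcases d'.dich d'' h3 with e5 | ⟨e5, e6⟩
  · rw [← e5, e3, d.sa.norm] at e1; norm_num at e1
  · rw [dec_ip d d'', e3, e6, d.sa.norm, d.sc.norm] at h2; norm_num at h2
  · rw [dec_ip d' d'', e5, e4, d'.sa.norm, d.sc.norm] at h3; norm_num at h3
  subst e4
  have hd : SI (E - 1 - a - a') := by
    refine ((hE.sub isVChar_one).sub d.sa.vc).sub d'.sa.vc |>.eq_of_norm_one ?_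
    simp only [ip_sub_left, ip_sub_right, E1, EE, ip_comm 1 E, ip_comm E a,
      ip_comm E a', d.aE, d'.aE, ip_one_one, ip_comm 1 a, ip_comm 1 a', d.a1, d'.a1,
      d.sa.norm, d'.sa.norm, e1, ip_comm a' a]
    norm_num
  have e7 := hd.eq_of_ip d''.sa (by
    simp only [ip_sub_left, ip_comm E a'', d''.aE, ip_comm 1 a'', d''.a1, e3, e5]; norm_num)
  have w := congrFun d.eq 1
  have w' := congrFun d'.eq 1
  have w'' := congrFun d''.eq 1
  have wE := congrFun e7 1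
  simp only [Pi.add_apply, Pi.sub_apply, Pi.one_apply, v, v', v'', vE] at w w' w'' wE
  obtain ⟨n, hn⟩ : ∃ n : ℤ, a 1 = n := by
    obtain ⟨j, rfl | rfl⟩ := d.sa
    exacts [⟨deg j, by simp [chi_one]⟩, ⟨-deg j, by simp [chi_one]⟩]
  have : ((3 * n + 1 : ℤ) : ℂ) = 0 := by push_cast; linear_combination wE + w'' + w' - 2 * w - 3 * hn
  have := Int.cast_eq_zero.1 this
  omega

theorem lbar_lbar {A : Type*} [Group A] [Fintype A] (l : A →* ℂ) : lbar (lbar l) = l :=
  MonoidHom.ext fun x => congrArg l (inv_inv x)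

theorem lbar_mul {A : Type*} [Group A] [Fintype A] (l m : A →* ℂ) : lbar (l * m) = lbar l * lbar m := rfl

theorem mul_lbar {A : Type*} [Group A] [Fintype A] (l : A →* ℂ) : l * lbar l = 1 :=
  MonoidHom.ext fun x => by
    show l x * l x⁻¹ = 1
    rw [← map_mul, mul_inv_cancel, map_one]

namespace GD

variable (h : GD t s T)
include h

theorem third {l m e : T →* ℂ} (het : e ⟨t, h.tT⟩ = 1) (hr : ∀ l : T →* ℂ, l = lbar l → l = 1 ∨ l = e)
    (hl : l ≠ lbar l) (hm : m ≠ lbar m) (h1 : l ≠ m) (h2 : l ≠ lbar m) :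
    ∃ n : T →* ℂ, n ≠ lbar n ∧ l ≠ n ∧ l ≠ lbar n ∧ m ≠ n ∧ m ≠ lbar n := by
  have := Fintype.ofFinite T
  have nr : ∀ n : T →* ℂ, n ⟨t, h.tT⟩ = -1 → n ≠ lbar n := fun n hn e1 => by
    rcases hr n e1 with rfl | rfl
    · norm_num at hn
    · rw [het] at hn; norm_num at hn
  have ne : ∀ {a b : T →* ℂ}, a ⟨t, h.tT⟩ = -b ⟨t, h.tT⟩ → a ≠ b ∧ a ≠ lbar b := fun {a b} e1 =>
    ⟨fun e2 => lin_ne b ⟨t, h.tT⟩ (by rw [e2] at e1; linear_combination e1 / 2),
      fun e2 => lin_ne b ⟨t, h.tT⟩ (by rw [e2, h.lbar_t] at e1; linear_combination e1 / 2)⟩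
  have cn : ∀ {a b c : T →* ℂ}, a * b = a * c → b = c := fun {a b c} e1 =>
    MonoidHom.ext fun x => mul_left_cancel₀ (lin_ne a x) (DFunLike.congr_fun e1 x)
  have mix : ∀ {l m : T →* ℂ}, l ≠ lbar l → l ⟨t, h.tT⟩ = 1 → m ⟨t, h.tT⟩ = -1 →
      ∃ n : T →* ℂ, n ≠ lbar n ∧ l ≠ n ∧ l ≠ lbar n ∧ m ≠ n ∧ m ≠ lbar n := fun {l m} hl e1 e2 => by
    have l1 : ∀ {l : T →* ℂ}, l ≠ lbar l → m ≠ m * l := fun {l} hl e3 => hl (by
      rw [← cn ((mul_one m).trans e3)]; rfl)
    have v1 : (m * l) ⟨t, h.tT⟩ = -1 := by simp [e1, e2]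
    have v2 : (m * lbar l) ⟨t, h.tT⟩ = -1 := by simp [h.lbar_t, e1, e2]
    by_cases e3 : m = lbar (m * l)
    · refine ⟨m * lbar l, nr _ v2, (ne (by rw [v2, e1]; simp)).1, (ne (by rw [v2, e1]; simp)).2,
        l1 (by rw [lbar_lbar]; exact hl.symm), fun e4 => hl ?_⟩
      rw [lbar_mul] at e3 e4
      rw [lbar_lbar] at e4
      exact cn (e4.symm.trans e3)
    · exact ⟨m * l, nr _ v1, (ne (by rw [v1, e1]; simp)).1, (ne (by rw [v1, e1]; simp)).2, l1 hl, e3⟩
  rcases h.lin_t l with e1 | e1 <;> rcases h.lin_t m with e2 | e2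
  · obtain ⟨n, hn⟩ := exists_lin (fun a b : T => Subtype.ext (h.Tcomm a.2 b.2)) (x := ⟨t, h.tT⟩)
      fun e => h.t1 (congrArg Subtype.val e)
    have v := (h.lin_t n).resolve_left hn
    exact ⟨n, nr n v, (ne (by rw [v, e1]; simp)).1, (ne (by rw [v, e1]; simp)).2,
      (ne (by rw [v, e2]; simp)).1, (ne (by rw [v, e2]; simp)).2⟩
  · exact mix hl e1 e2
  · obtain ⟨n, a, b, c, d, e⟩ := mix hm e2 e1
    exact ⟨n, a, d, e, b, c⟩
  · have v1 : (l * m) ⟨t, h.tT⟩ = 1 := by simp [e1, e2]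
    have v2 : (l * lbar m) ⟨t, h.tT⟩ = 1 := by simp [h.lbar_t, e1, e2]
    by_cases e3 : l * m = lbar (l * m)
    · refine ⟨l * lbar m, fun e4 => ?_, (ne (by rw [v2, e1])).1, (ne (by rw [v2, e1])).2,
        (ne (by rw [v2, e2])).1, (ne (by rw [v2, e2])).2⟩
      rcases hr _ e3 with e5 | e5
      · exact h2 (cn (a := m) (by rw [mul_comm, e5, mul_lbar]))
      rcases hr _ e4 with e6 | e6
      · exact h1 (cn (a := lbar m) (by rw [mul_comm, e6, mul_comm, mul_lbar]))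
      · exact hm (cn (e5.trans e6.symm))
    · exact ⟨l * m, e3, (ne (by rw [v1, e1])).1, (ne (by rw [v1, e1])).2,
        (ne (by rw [v1, e2])).1, (ne (by rw [v1, e2])).2⟩

theorem coh_neg (hT : Nat.card T = 2 * k) {l m e : T →* ℂ} (het : e ⟨t, h.tT⟩ = -1) (he : e = lbar e)
    (hl : l ≠ lbar l) (hm : m ≠ lbar m) {a c a' c' : G → ℂ}
    (d : Dec (Th _ l) (Th _ e) a c) (d' : Dec (Th _ m) (Th _ e) a' c') : a' = a := by
  have l1 : l ≠ 1 := by rintro rfl; exact hl (MonoidHom.ext fun x => rfl)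
  have m1 : m ≠ 1 := by rintro rfl; exact hm (MonoidHom.ext fun x => rfl)
  have hel : e * l ≠ lbar (e * l) := fun e2 => hl (MonoidHom.ext fun x => by
    have := DFunLike.congr_fun e2 x
    have e3 : e x⁻¹ = e x := (DFunLike.congr_fun he x).symm
    have e4 : e x ≠ 0 := fun e5 => by simpa [e5] using lin_norm e x
    simp only [lbar, MonoidHom.mul_apply, MonoidHom.coe_mk, OneHom.coe_mk, e3] at this ⊢
    exact mul_left_cancel₀ e4 this)
  have el1 : e * l ≠ 1 := by intro e2; rw [e2] at hel; exact hel (MonoidHom.ext fun x => rfl)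
  obtain ⟨a2, c2, d2⟩ := h.exists_dec (by rintro rfl; norm_num at het) he hel
  rcases h.lin_t l with e1 | e1 <;> rcases h.lin_t m with e2 | e2
  · have : (e * l) ⟨t, h.tT⟩ = -1 := by simp [het, e1]
    rw [← h.coh_pm hT het he l1 e1 this d d2, h.coh_pm hT het he m1 e2 this d' d2]
  · exact h.coh_pm hT het he l1 e1 e2 d d'
  · exact (h.coh_pm hT het he m1 e2 e1 d' d).symm
  · have : (e * l) ⟨t, h.tT⟩ = 1 := by simp [het, e1]
    rw [h.coh_pm hT het he el1 this e1 d2 d, h.coh_pm hT het he el1 this e2 d2 d']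

theorem coh (hT : Nat.card T = 2 * k) {l m e : T →* ℂ} (e1 : e ≠ 1) (he : e = lbar e)
    (hr : ∀ l : T →* ℂ, l = lbar l → l = 1 ∨ l = e) (hl : l ≠ lbar l) (hm : m ≠ lbar m)
    {a c a' c' : G → ℂ} (d : Dec (Th _ l) (Th _ e) a c) (d' : Dec (Th _ m) (Th _ e) a' c') : a' = a := by
  rcases h.lin_t e with het | het
  swap
  · exact h.coh_neg hT het he hl hm d d'
  have n1 : ∀ {l : T →* ℂ}, l ≠ lbar l → l ≠ 1 := by rintro _ hl rfl; exact hl (MonoidHom.ext fun x => rfl)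
  by_cases h1 : l = m
  · exact dec_same d d' (by rw [h.ip_Th_Th (n1 hl) (n1 hm), if_pos h1, if_neg (h1 ▸ hl)]; norm_num)
  by_cases h2 : l = lbar m
  · exact dec_same d d' (by rw [h.ip_Th_Th (n1 hl) (n1 hm), if_neg h1, if_pos h2]; norm_num)
  obtain ⟨n, hn, a1, a2, a3, a4⟩ := h.third het hr hl hm h1 h2
  obtain ⟨a'', c'', d''⟩ := h.exists_dec e1 he hn
  exact dec_three d d' d'' (by rw [h.ip_Th_Th (n1 hl) (n1 hm), if_neg h1, if_neg h2]; norm_num)
    (by rw [h.ip_Th_Th (n1 hl) (n1 hn), if_neg a1, if_neg a2]; norm_num)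
    (by rw [h.ip_Th_Th (n1 hm) (n1 hn), if_neg a3, if_neg a4]; norm_num) (vc_Th _ e)
    (ip_Th_const _ e1 (isClass_const 1) 1 fun _ _ _ => rfl)
    (by rw [h.ip_Th_Th e1 e1, if_pos rfl, if_pos he]; norm_num) (Th_one _ _) (Th_one _ _) (Th_one _ _)
    (Th_one _ _)

theorem exists_nonreal (h2 : 2 < Nat.card T) : ∃ l : T →* ℂ, l ≠ lbar l := by
  have := Fintype.ofFinite T
  obtain ⟨x, hx⟩ : ∃ x : T, x * x ≠ 1 := by
    by_contra! e
    have := Set.ncard_le_ncard (s := (T : Set G)) (t := {1, t})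
      fun x hx => h.invT x hx (congrArg Subtype.val (e ⟨x, hx⟩))
    rw [Set.ncard_pair h.t1.symm] at this
    exact absurd (h2.trans_le this) (lt_irrefl _)
  obtain ⟨l, hl⟩ := exists_lin (fun a b : T => Subtype.ext (h.Tcomm a.2 b.2)) hx
  exact ⟨l, fun e => hl (real_iff.1 e x)⟩

theorem char (hk : Nat.card T = 2 * k) (h2 : 2 < Nat.card T) : ∃ (ψ : G → ℤ), SI (fun g => (ψ g : ℂ)) ∧ ∑ g, ψ g = 0 ∧
    (∀ x, InA T x → ψ x = 1) ∧
    (centralizer ({t} : Set G)).index * (ψ 1 - 1) ^ 2 = 8 * (k : ℤ) ^ 2 * (ψ 1 * (ψ 1 + 1)) := by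
  have := Fintype.ofFinite T
  obtain ⟨e, e1, he, hr⟩ := h.exists_eps
  obtain ⟨l, hl⟩ := h.exists_nonreal h2
  have l1 : l ≠ 1 := by rintro rfl; exact hl (MonoidHom.ext fun x => rfl)
  obtain ⟨a, c, d⟩ := h.exists_dec e1 he hl
  have hT : ∀ x ∈ T, x ≠ 1 → a x = 1 := fun x hx x1 =>
    val_of_ip _ (fun a b => Subtype.ext (h.Tcomm a.2 b.2)) d.sa.vc.isClass (fun m m1 => by
      by_cases hm : m = lbar m
      · rw [(hr m hm).resolve_left m1, ip_comm, d.aE]
      · obtain ⟨a', c', d'⟩ := h.exists_dec e1 he hm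
        rw [← h.coh hk e1 he hr hl hm d d', d'.eq, ip_add_left, ip_add_left, ip_comm 1, d'.a1, d'.sa.norm,
          ip_comm, d'.ac]; simp) hx x1
  have ct : c t ^ 2 = 4 := by
    have := congrFun d.eq t
    rw [h.Th_t] at this
    simp only [Pi.add_apply, Pi.one_apply, hT t h.tT h.t1] at this
    rcases h.lin_t l with e1 | e1 <;> rw [e1] at this
    · rw [show c t = -2 by linear_combination -this]; norm_num
    · rw [show c t = 2 by linear_combination -this]; norm_num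
  have hint : ∀ g, ∃ n : ℤ, a g = n := fun g => by
    refine FT.exists_int_of_fixed (d.sa.vc.isIntegral g) fun u => ?_
    have su := d.sa.gal u
    have v : ∀ x ∈ T, x ≠ 1 → u (a x) = 1 := fun x hx x1 => by rw [hT x hx x1, map_one]
    have i1 := ip_Th_const _ l1 su.vc.isClass 1 v
    have i2 : ip 1 (fun g => u (a g)) = 0 := by
      have := congrArg u ((ip_comm _ _).trans d.a1)
      simpa [ip, map_sum] using this
    have i3 : ip c (fun g => u (a g)) = 0 := by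
      rcases d.sc.cases su with e1 | e1 | e1
      · exact e1
      · have := congrFun e1 t; rw [v t h.tT h.t1] at this; rw [← this] at ct; norm_num at ct
      · have := congrFun e1 t
        rw [v t h.tT h.t1, Pi.neg_apply, eq_comm, neg_eq_iff_eq_neg] at this
        rw [this] at ct; norm_num at ct
    rw [d.eq, ip_add_left, ip_add_left, i2, i3, zero_add, add_zero] at i1
    exact congrFun (d.sa.eq_of_ip su i1) g
  choose ψ hψ using hint
  refine ⟨ψ, by rw [← funext hψ]; exact d.sa, ?_, fun x ⟨x1, g, hg⟩ => ?_, ?_⟩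
  · have := d.a1
    simp only [ip, Pi.one_apply, mul_one, hψ, mul_eq_zero, inv_eq_zero, card_ne_zero', false_or] at this
    exact_mod_cast this
  · have := hT _ hg fun e => x1 (by simpa [mul_assoc] using congrArg (g * · * g⁻¹) e)
    rw [d.sa.vc.isClass.conj', hψ] at this
    exact_mod_cast this
  · have s1 := h.SJ_Th hk l1
    have v1 := congrFun d.eq 1
    rw [d.eq, SJ_add, SJ_add, SJ_one, ← Nat.card_eq_fintype_card,
      ← (centralizer ({t} : Set G)).index_mul_card, h.cardH hk] at s1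
    simp only [Th_one, Pi.add_apply, Pi.one_apply] at v1
    have p1 := d.sa.SJ h.DD_conj
    have p3 := d.sc.SJ h.DD_conj
    rw [show c 1 = -1 - a 1 by linear_combination -v1, ct] at p3
    rw [hT t h.tT h.t1] at p1
    rw [h.card_DD, hψ] at *
    have hN : ((centralizer ({t} : Set G)).index : ℂ) ≠ 0 := by exact_mod_cast index_ne_zero_of_finite
    have : ((centralizer ({t} : Set G)).index : ℂ) * (ψ 1 - 1) ^ 2 =
        8 * (k : ℂ) ^ 2 * (ψ 1 * (ψ 1 + 1)) := by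
      apply mul_left_cancel₀ hN
      push_cast at s1
      linear_combination (ψ 1 * (ψ 1 + 1) : ℂ) * s1 - (ψ 1 + 1 : ℂ) * p1 + (ψ 1 : ℂ) * p3
    exact_mod_cast this

end GD

end Cfsg.Agent.Lib.CA
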