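/-
General Brauer–Suzuki–Wall, part 4: the order of `G` and the `p`-elements.
-/
import Cfsg.Agent.Lib.CA.GD3

set_option autoImplicit false
set_option linter.unusedSectionVars false

namespace Cfsg.Agent.Lib.CA

open Subgroup Cfsg.Agent.Lib Cfsg.Agent.Lib.AG Cfsg.Agent.Lib.Char Finset

variable {G : Type*} [Group G] {t s : G} {T : Subgroup G} {k : ℕ}

namespace GD

section

variable [Fintype G] (h : GD t s T) (hk : Nat.card T = 2 * k)
include h hk

theorem card_A : {g | InA T g}.ncard + (centralizer ({t} : Set G)).index =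
    (centralizer ({t} : Set G)).index * (2 * k) := by
  have := card_TI (centralizer ({t} : Set G)) (((T : Subgroup G) : Set G) \ {1})
    (fun a ha => mem_centralizer_singleton_iff.2 (h.Tt ha.1).symm)
    (fun a ha n hn => ⟨by
      rcases h.memH.1 (mem_centralizer_singleton_iff.1 hn).symm with e | e
      · exact mul_mem (mul_mem e ha.1) (inv_mem e)
      · rw [inv_eq_of_mul_eq_one_right (h.outer e).1, (h.outer e).2 a ha.1]; exact inv_mem ha.1,
      fun e => ha.2 (by simpa using e)⟩)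
    (fun a ha x hx => mem_centralizer_singleton_iff.2 (h.tiT ha.1 ha.2 hx.1).symm)
  have e1 := Set.ncard_diff_singleton_add_one (s := ((T : Subgroup G) : Set G)) (one_mem _)
  rw [show ((T : Subgroup G) : Set G).ncard = _ from hk] at e1
  have e2 : {g | ∃ x : G, x⁻¹ * g * x ∈ ((T : Subgroup G) : Set G) \ {1}} =
      {g | InA T g} := by
    ext g
    exact ⟨fun ⟨x, hx, x1⟩ => ⟨fun e => x1 (by simp [e]), x, hx⟩, fun ⟨g1, x, hx⟩ =>
      ⟨x, hx, fun e => g1 (by simpa [mul_assoc] using congrArg (x * · * x⁻¹) e)⟩⟩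
  rw [e2, ← (centralizer ({t} : Set G)).index_mul_card, mul_right_comm] at this
  rw [Nat.eq_of_mul_eq_mul_right Nat.card_pos this, ← e1]; ring

theorem char2 (h2 : 2 < Nat.card T) : ∃ (ψ : G → ℤ) (q k' : ℕ), SI (fun g => (ψ g : ℂ)) ∧
    ((ψ 1 = q ∧ q = 4 * k + 1 ∧ k' = 2 * k + 1) ∨
      (ψ 1 = -q ∧ q + 1 = 4 * k ∧ k' + 1 = 2 * k)) ∧
    Nat.card G = 4 * k * k' * q ∧ (∀ x, InA T x → ψ x = 1) ∧
    (∀ x, x ≠ 1 → ψ x = 0 ∨ ψ x = 1 ∨ ψ x = -1) ∧ {x | ψ x = 0}.ncard + 1 = q ^ 2 := by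
  classical
  obtain ⟨ψ, hs, s0, hA, hN⟩ := h.char hk h2
  have k3 : 2 ≤ k := by omega
  obtain ⟨m, hm⟩ : ∃ m : ℤ, ψ 1 = 1 + 4 * k * m := by
    obtain ⟨n, hn⟩ := (hs.vc.comp (centralizer ({t} : Set G)).subtype).ip_int isVChar_one
    have : ∀ x : centralizer ({t} : Set G), (ψ x : ℂ) = 1 + if x = 1 then (ψ 1 - 1 : ℂ) else 0 :=
      fun x => by
      split_ifs with e
      · simp [e]
      · rw [hA x (h.inA_of_comm (InA.of_mem h.tT h.t1) (mem_centralizer_singleton_iff.1 x.2).symm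
          fun e' => e (Subtype.ext e'))]; simp
    simp only [ip, Function.comp_apply, coe_subtype, this, Pi.one_apply, mul_one, sum_add_distrib,
      sum_ite_eq', mem_univ, if_true, sum_const, card_univ, nsmul_eq_mul] at hn
    rw [inv_mul_eq_iff_eq_mul₀ card_ne_zero', ← Nat.card_eq_fintype_card, h.cardH hk] at hn
    refine ⟨n - 1, ?_⟩
    have : (ψ 1 : ℂ) = 1 + 4 * k * (n - 1) := by push_cast at hn; linear_combination hn
    exact_mod_cast this
  have hA' := h.card_A hk
  have hG := (centralizer ({t} : Set G)).index_mul_card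
  rw [h.cardH hk] at hG
  generalize (centralizer ({t} : Set G)).index = N at *
  clear hk h2
  have e1 : m * (m * N - 6 * k - 8 * k ^ 2 * m) = 1 := by
    rw [hm] at hN
    have : (16 * k ^ 2 : ℤ) ≠ 0 := by positivity
    apply mul_left_cancel₀ this
    linear_combination hN
  obtain ⟨q, k', hq, hNq, hz⟩ : ∃ q k' : ℕ, ((ψ 1 = q ∧ q = 4 * k + 1 ∧ k' = 2 * k + 1) ∨
      (ψ 1 = -q ∧ q + 1 = 4 * k ∧ k' + 1 = 2 * k)) ∧ N = k' * q ∧ ψ 1 * (ψ 1 + 1) = 2 * N := by
    rcases Int.eq_one_or_neg_one_of_mul_eq_one e1 with rfl | rfl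
    · refine ⟨4 * k + 1, 2 * k + 1, Or.inl ⟨by rw [hm]; push_cast; ring, rfl, rfl⟩, ?_, ?_⟩
      · zify; linear_combination e1
      · rw [hm]; linear_combination -2 * e1
    · obtain ⟨j, rfl⟩ : ∃ j, k = j + 1 := ⟨k - 1, by omega⟩
      refine ⟨4 * j + 3, 2 * j + 1, Or.inr ⟨by rw [hm]; push_cast; ring, by ring, by ring⟩, ?_, ?_⟩
      · zify; push_cast at e1; linear_combination e1
      · rw [hm]; linear_combination -2 * e1
  have s2 : ∑ g, ψ g * ψ g = Nat.card G := by
    have := hs.norm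
    simp only [ip, hs.vc.inv, map_intCast] at this
    rw [inv_mul_eq_iff_eq_mul₀ card_ne_zero', mul_one, ← Nat.card_eq_fintype_card] at this
    exact_mod_cast this
  have v : ∀ x, x ≠ 1 → ψ x = 0 ∨ ψ x = 1 ∨ ψ x = -1 := fun x x1 => by
    have := (sum_eq_zero_iff_of_nonneg (s := univ) (f := fun g => ψ g * ψ g + ψ g -
      2 * (if InA T g then 1 else 0) - if g = 1 then 2 * (N : ℤ) else 0)
      fun g _ => ?_).1 ?_ x (mem_univ _)
    · by_cases e : InA T x
      · exact Or.inr (Or.inl (hA x e))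
      · simp only [if_neg e, if_neg x1] at this
        have : ψ x * (ψ x + 1) = 0 := by linear_combination this
        rcases mul_eq_zero.1 this with e | e
        exacts [Or.inl e, Or.inr (Or.inr (by omega))]
    · by_cases e : InA T g
      · simp [e, e.1, hA g e]
      · by_cases g1 : g = 1
        · rw [if_neg e, if_pos g1, g1]; linarith
        · rw [if_neg e, if_neg g1]; nlinarith [sq_nonneg (2 * ψ g + 1), Int.lt_or_le (ψ g) 0]
    · rw [Set.ncard_eq_toFinset_card', Set.toFinset_setOf] at hA'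
      simp only [sum_sub_distrib, sum_add_distrib, s0, s2, ← mul_sum, sum_boole, sum_ite_eq',
        mem_univ, if_true, ← hG]
      zify at hA'; push_cast; linear_combination -2 * hA'
  refine ⟨ψ, q, k', hs, hq, by rw [← hG, hNq]; ring, hA, v, ?_⟩
  have z0 : ψ 1 ≠ 0 := by rcases hq with ⟨e, _, _⟩ | ⟨e, _, _⟩ <;> omega
  have : ∑ g, ψ g * ψ g = ∑ g, (1 - (if ψ g = 0 then 1 else 0) +
      if g = 1 then (ψ 1 * ψ 1 - 1) else 0) := sum_congr rfl fun g _ => by
    by_cases g1 : g = 1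
    · simp [g1, z0]
    · rcases v g g1 with e | e | e <;> simp [g1, e]
  simp only [sum_sub_distrib, sum_add_distrib, s2, sum_boole, sum_ite_eq', mem_univ, if_true,
    sum_const, card_univ, nsmul_eq_mul, mul_one, Nat.card_eq_fintype_card] at this
  rw [Set.ncard_eq_toFinset_card', Set.toFinset_setOf]
  zify
  rcases hq with ⟨e, _, _⟩ | ⟨e, _, _⟩ <;> rw [e] at this <;> linear_combination this

end

theorem count [Finite G] (h : GD t s T) (hk : Nat.card T = 2 * k) (h2 : 2 < Nat.card T) : ∃ q k' p f : ℕ, p.Prime ∧ q = p ^ f ∧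
    ((q = 4 * k + 1 ∧ k' = 2 * k + 1) ∨
      (q + 1 = 4 * k ∧ k' + 1 = 2 * k)) ∧
    Nat.card G = 4 * k * k' * q ∧
    (∀ x : G, p ∣ orderOf x → Nat.card (centralizer ({x} : Set G)) = q) ∧
    {x : G | p ∣ orderOf x}.ncard + 1 = q ^ 2 := by
  have := Fintype.ofFinite G
  obtain ⟨ψ, q, k', hs, hq, hG, hA, v, hZ⟩ := h.char2 hk h2
  have k3 : 2 ≤ k := by omega
  have hcop : (4 * k * k').Coprime q := by
    refine Nat.coprime_of_dvd fun r hr h1 h2 => hr.one_lt.ne' (Nat.dvd_one.1 ?_)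
    rcases hq with ⟨-, e1, e2⟩ | ⟨-, e1, e2⟩ <;> rcases (Nat.Prime.dvd_mul hr).1 h1 with e | e
    · exact (Nat.dvd_add_right e).1 (e1 ▸ h2)
    · exact (Nat.dvd_add_right h2).1 ((show 2 * k' = q + 1 by omega) ▸ e.mul_left 2)
    · exact (Nat.dvd_add_right h2).1 (e1 ▸ e)
    · exact (Nat.dvd_add_right (e.mul_left 2)).1 ((show q = 2 * k' + 1 by omega) ▸ h2)
  have hq2 : 2 * (4 * k * k') + 1 = q ^ 2 := by
    rcases hq with ⟨-, e1, e2⟩ | ⟨-, e1, e2⟩
    · rw [e1, e2]; ring
    · rw [← e1, show q = 2 * k' + 1 by omega]; ring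
  have qodd : ¬ 2 ∣ q := by omega
  have z0 : ∀ p : ℕ, p.Prime → p ∣ q → ∀ g, p ∣ orderOf g → ψ g = 0 := fun p hp h1 g hg => by
    have := Fact.mk hp
    have := hs.defect_zero (q := q) (by rcases hq with ⟨e, -⟩ | ⟨e, -⟩ <;> simp [e]) hG
      (fun e => hp.one_lt.ne' (Nat.eq_one_of_dvd_coprimes hcop e h1)) hg
    exact_mod_cast this
  have nz : ∀ n, ∀ y : G, orderOf y = n → y ≠ 1 → (orderOf y).Coprime q → ψ y = 1 ∨ ψ y = -1 := by
    intro n
    induction n using Nat.strong_induction_on with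
    | _ n ih =>
    intro y hn y1 hc
    refine (v y y1).resolve_left fun e0 => ?_
    have nA : ¬ InA T y := fun e => by rw [hA y e] at e0; exact one_ne_zero e0
    obtain ⟨r, hr, hry⟩ := Nat.exists_prime_and_dvd (fun e => y1 (orderOf_eq_one_iff.1 e))
    have := Fact.mk hr
    have hrk : r ∣ k' := by
      have h1 : r ∣ 4 * k * k' * q := hG ▸ hry.trans (orderOf_dvd_natCard y)
      have h2 := (Nat.Coprime.coprime_dvd_left hry hc).dvd_of_dvd_mul_right h1
      have h3 := Nat.Coprime.coprime_dvd_left hry (h.coprime_of_not hk nA)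
      rw [show 4 * k * k' = 2 * k * (2 * k') by ring] at h2
      exact (Nat.Coprime.coprime_mul_right_right h3).dvd_of_dvd_mul_left (h3.dvd_of_dvd_mul_left h2)
    obtain ⟨u, y', -, hy', hc', ⟨j, hj⟩, hreg, e⟩ := exists_ppart (p := r) y
    have hd := vc_cong hs.vc hc' hj
    rw [← e, e0, zero_sub, dvd_neg] at hd
    have r1 : ¬ (r : ℤ) ∣ 1 := fun e => hr.one_lt.ne' (by exact_mod_cast Int.eq_one_of_dvd_one (by positivity) e)
    by_cases y'1 : y' = 1
    · have hk : (r : ℤ) ∣ 2 * k' := (Int.natCast_dvd_natCast.2 hrk).mul_left 2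
      rw [y'1] at hd
      rcases hq with ⟨e1, e2, e3⟩ | ⟨e1, e2, e3⟩
      · exact r1 ((show (2 * k' : ℤ) - ψ 1 = 1 by omega) ▸ hk.sub hd)
      · exact r1 ((show -((2 * k' : ℤ) + ψ 1) = 1 by omega) ▸ (hk.add hd).neg_right)
    · have hdv := orderOf_dvd_of_mem_zpowers hy'
      have hlt : orderOf y' < n := hn ▸ lt_of_le_of_ne (Nat.le_of_dvd (orderOf_pos y) hdv)
        fun e => hreg (e ▸ hry)
      rcases ih _ hlt y' rfl y'1 (hc.coprime_dvd_left hdv) with e1 | e1 <;> rw [e1] at hd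
      exacts [r1 hd, r1 (dvd_neg.1 hd)]
  have cls : ∀ x : G, ψ x = 0 → {y | IsConj x y} ⊆ {y | ψ y = 0} := fun x hx y hy => by
    have := hs.vc.isClass.of_isConj hy
    have : ψ x = ψ y := by exact_mod_cast this
    exact this.symm.trans hx
  have cq : ∀ p : ℕ, p.Prime → p ∣ q → ∀ x : G, p ∣ orderOf x →
      Nat.card (centralizer ({x} : Set G)) = q := fun p hp h1 x hx => by
    have := Fact.mk hp
    have hc : (Nat.card (centralizer ({x} : Set G))).Coprime (4 * k * k') := by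
      refine Nat.coprime_of_dvd fun r hr h2 h3 => ?_
      have := Fact.mk hr
      have hrq : r.Coprime q := hcop.coprime_dvd_left h3
      obtain ⟨y, hy⟩ := exists_prime_orderOf_dvd_card' r h2
      rw [← orderOf_coe] at hy
      have hx' : orderOf (x ^ (orderOf x / p)) = p := orderOf_pow_orderOf_div (orderOf_pos x).ne' hx
      have hcm : Commute (x ^ (orderOf x / p)) y :=
        (show Commute x y from (mem_centralizer_singleton_iff.1 y.2).symm).pow_left _
      have hd := vc_cong hs.vc hcm (k := 1) (p := p) (by rw [pow_one, ← hx', hx', ← orderOf_dvd_iff_pow_eq_one, hx'])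
      rw [z0 p hp h1 _ (by
        rw [hcm.orderOf_mul_eq_mul_orderOf_of_coprime (by
          rw [hx', hy]; exact (hrq.coprime_dvd_right h1).symm), hx']
        exact dvd_mul_right _ _), zero_sub, dvd_neg] at hd
      have r1 : ¬ (p : ℤ) ∣ 1 := fun e =>
        hp.one_lt.ne' (by exact_mod_cast Int.eq_one_of_dvd_one (by positivity) e)
      rcases nz _ y rfl (fun e => hr.one_lt.ne' (by rw [← hy, e, orderOf_one])) (hy ▸ hrq)
        with e1 | e1 <;> rw [e1] at hd
      exacts [r1 hd, r1 (dvd_neg.1 hd)]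
    obtain ⟨d, hd⟩ := hc.dvd_of_dvd_mul_left (hG ▸ card_subgroup_dvd_card _)
    have e1 := ncard_class x
    have e2 := Set.ncard_le_ncard (cls x (z0 p hp h1 x hx))
    rw [hG, hd, mul_comm _ d, ← mul_assoc] at e1
    rw [Nat.eq_of_mul_eq_mul_right Nat.card_pos e1] at e2
    have : d < 3 := by
      by_contra! h3
      have := Nat.mul_le_mul_left (4 * k * k') h3
      have : 0 < k' := by omega
      have : 0 < 4 * k * k' := by positivity
      omega
    have : ¬ 2 ∣ d := fun e => qodd (hd ▸ e.mul_left _)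
    rw [hd, show d = 1 by omega, mul_one]
  obtain ⟨p, hp, hpq⟩ := Nat.exists_prime_and_dvd (show q ≠ 1 by omega)
  have := Fact.mk hp
  have uq : ∀ r : ℕ, r.Prime → r ∣ q → r = p := fun r hr h1 => by
    by_contra hne
    have := Fact.mk hr
    obtain ⟨x, hx⟩ := exists_prime_orderOf_dvd_card' (G := G) p (hG ▸ hpq.mul_left _)
    obtain ⟨y, hy⟩ := exists_prime_orderOf_dvd_card' r ((cq p hp hpq x hx.symm.dvd).symm ▸ h1)
    rw [← orderOf_coe] at hy
    have hxy : orderOf (x * y) = p * r := by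
      rw [(show Commute x y from (mem_centralizer_singleton_iff.1 y.2).symm
        ).orderOf_mul_eq_mul_orderOf_of_coprime (by
          rw [hx, hy]; exact (Nat.coprime_primes hp hr).2 (Ne.symm hne)), hx, hy]
    have c : ∀ r : ℕ, r.Prime → r ∣ q → ∀ x : G, r ∣ orderOf x →
        {y | IsConj x y}.ncard = 4 * k * k' := fun r hr h1 x hx => by
      have := ncard_class x
      rw [cq r hr h1 x hx, hG] at this
      exact Nat.eq_of_mul_eq_mul_right (by omega) this
    have dj : ∀ a b : G, orderOf a ≠ orderOf b → Disjoint {y | IsConj a y} {y | IsConj b y} :=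
      fun a b hab => Set.disjoint_left.2 fun z h1 h2 => hab (by
        obtain ⟨g, hg⟩ := isConj_iff.1 (IsConj.trans h1 (IsConj.symm h2))
        rw [← hg]; exact ((MulAut.conj g).orderOf_eq a).symm)
    have := Set.ncard_le_ncard (Set.union_subset (Set.union_subset (cls x (z0 p hp hpq x hx.symm.dvd))
      (cls y (z0 r hr h1 y hy.symm.dvd))) (cls (x * y) (z0 p hp hpq _ (hxy ▸ dvd_mul_right _ _))))
    rw [Set.ncard_union_eq (Set.disjoint_union_left.2 ⟨dj _ _ (by
        rw [hx, hxy]; exact ((Nat.lt_mul_iff_one_lt_right hp.pos).2 hr.one_lt).ne), dj _ _ (by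
        rw [hy, hxy]; exact ((Nat.lt_mul_iff_one_lt_left hr.pos).2 hp.one_lt).ne)⟩),
      Set.ncard_union_eq (dj _ _ (by rw [hx, hy]; exact Ne.symm hne)), c p hp hpq x hx.symm.dvd,
      c r hr h1 y hy.symm.dvd, c p hp hpq _ (hxy ▸ dvd_mul_right _ _)] at this
    have : 0 < k' := by omega
    have : 0 < 4 * k * k' := by positivity
    omega
  refine ⟨q, k', p, _, hp, Nat.eq_prime_pow_of_unique_prime_dvd (by omega) (uq _), by tauto, hG,
    cq p hp hpq, ?_⟩
  rw [← hZ]; congr 2; ext x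
  refine ⟨z0 p hp hpq x, fun e => by_contra fun hn => ?_⟩
  by_cases x1 : x = 1
  · rw [x1] at e; change ψ 1 = 0 at e; omega
  · change ψ x = 0 at e
    have := nz _ x rfl x1 (Nat.coprime_of_dvd fun r hr h1 h2 => hn (uq r hr h2 ▸ h1))
    omega

end GD

end Cfsg.Agent.Lib.CA
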