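/-
General Brauer–Suzuki–Wall, part 5: strongly real elements.
-/
import Cfsg.Agent.Lib.CA.GD4
import Cfsg.Agent.Lib.AG.BSW
import Cfsg.Agent.Lib.Core.Coprime
import Cfsg.Agent.S0205

set_option autoImplicit false
set_option linter.unusedSectionVars false

namespace Cfsg.Agent.Lib.CA

open Subgroup Cfsg.Agent.Lib Cfsg.Agent.Lib.AG Cfsg.Agent.Lib.Core Finset

variable {G : Type*} [Group G] [Finite G] {t s : G} {T : Subgroup G} {k : ℕ}

/-- inverted by an involution -/
def SR (g : G) : Prop := ∃ u : G, u * u = 1 ∧ u ≠ 1 ∧ u * g * u = g⁻¹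

theorem comm_of_inv {B : Subgroup G} {u : G} (uu : u * u = 1) (h : ∀ c ∈ B, u * c * u = c⁻¹) {a b : G}
    (ha : a ∈ B) (hb : b ∈ B) : a * b = b * a := by
  have e := h _ (mul_mem ha hb)
  rw [show u * (a * b) * u = u * a * (u * u) * b * u by rw [uu]; group,
    show u * a * (u * u) * b * u = u * a * u * (u * b * u) by group, h a ha, h b hb, ← mul_inv_rev] at e
  exact (inv_injective e).symm

theorem pclosed {p : ℕ} [hp : Fact p.Prime]
    (H : ∀ r : ℕ, r.Prime → r ≠ p → ∀ R : Subgroup G, IsPGroup r R → R ≠ ⊥ → Odd r →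
      ¬ p ∣ Nat.card (normalizer (R : Set G))) :
    ∀ (n : ℕ) (K : Subgroup G), Nat.card K = n → Odd n → ∃ P, IsSyl p P K ∧ K ≤ normalizer (P : Set G) := by
  intro n
  induction n using Nat.strong_induction_on with
  | _ n ih =>
  intro K hn ho
  by_cases hK : K = ⊥
  · subst hK; exact ⟨⊥, isSyl_self IsPGroup.of_bot, bot_le⟩
  obtain ⟨K0, lt, nm, r, hr, -, Q, hQ, e⟩ := exists_normal_sup_isSyl (S0205.result (hn ▸ ho)) hK
  have := Fact.mk hr
  have o0 : Odd (Nat.card K0) := (hn ▸ ho).of_dvd_nat (card_dvd_of_le lt.le)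
  have idx : ∀ Q : Subgroup G, Q ≤ K → K0 ⊔ Q = K → K0.relIndex K ∣ Nat.card Q := fun Q hQ e => by
    have e1 := card_sup_mul_card_inf (H := Q) (N := K0) (hQ.trans nm)
    have e2 := (K0.subgroupOf K).index_mul_card
    rw [Nat.card_congr (subgroupOfEquivOfLe lt.le).toEquiv] at e2
    rw [sup_comm, e, ← e2, mul_right_comm] at e1
    exact Dvd.intro _ (Nat.eq_of_mul_eq_mul_right Nat.card_pos e1)
  by_cases hrp : r = p
  · subst hrp
    by_cases h0 : IsPGroup r K0
    · have : IsPGroup r K := by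
        rw [← e, sup_comm]; exact isPGroup_sup_of_le_normalizer hQ.isPGroup h0 (hQ.le.trans nm)
      exact ⟨K, isSyl_self this, le_normalizer⟩
    obtain ⟨r', hr', hd, ne⟩ : ∃ r' : ℕ, r'.Prime ∧ r' ∣ Nat.card K0 ∧ r' ≠ r := by
      by_contra! c
      exact h0 (IsPGroup.of_card (Nat.eq_prime_pow_of_unique_prime_dvd Nat.card_pos.ne' (c _)))
    have := Fact.mk hr'
    obtain ⟨R, hR⟩ := exists_isSyl r' K0
    obtain ⟨m, hm⟩ := IsPGroup.iff_card.1 hQ.isPGroup
    obtain ⟨j, -, hj⟩ := (Nat.dvd_prime_pow hr).1 (hm ▸ idx Q hQ.le e)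
    refine absurd (((hj ▸ dvd_pow_self r ?_ : r ∣ K0.relIndex K).trans
      (idx _ inf_le_left (hR.frattini_sup lt.le nm))).trans (card_dvd_of_le inf_le_right))
      (H r' hr' ne R hR.isPGroup (hR.ne_bot hd) (o0.of_dvd_nat hd))
    rintro rfl
    exact lt.not_ge (relIndex_eq_one.1 hj)
  · obtain ⟨P, hP, hN⟩ := ih _ (hn ▸ card_lt_of_lt lt) K0 rfl o0
    refine ⟨P, hP.trans lt.le fun d => hrp ?_, fun g hg => ?_⟩
    · obtain ⟨m, hm⟩ := IsPGroup.iff_card.1 hQ.isPGroup
      exact ((Nat.prime_dvd_prime_iff_eq hp.out hr).1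
        (hp.out.dvd_of_dvd_pow (hm ▸ d.trans (idx Q hQ.le e)))).symm
    · have c := hP.conj_of_mem_normalizer (nm hg)
      have := hP.le_of_le_normalizer' c.isPGroup c.le (c.le.trans hN)
      exact mem_normalizer_fintype fun x hx => this (mem_map_of_mem _ hx)

namespace GD

variable (h : GD t s T)
include h

theorem s1 : s ≠ 1 := fun e => h.sT (e ▸ one_mem _)

theorem sr_of_inA {g : G} (hg : InA T g) : SR g := by
  obtain ⟨-, y, hy⟩ := hg
  refine ⟨y * s * y⁻¹, by rw [conj_mul, h.ss]; simp, by simpa using h.s1, ?_⟩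
  calc _ = y * (s * (y⁻¹ * g * y) * s) * y⁻¹ := by group
    _ = _ := by rw [h.Tinv _ hy]; group

theorem inA_invol {u : G} (uu : u * u = 1) (u1 : u ≠ 1) : InA T u := by
  obtain ⟨g, hg⟩ := h.conj u uu u1
  exact ⟨u1, g, hg ▸ h.tT⟩

theorem inv_cent {g u : G} (g2 : g * g ≠ 1) (uu : u * u = 1) (u1 : u ≠ 1) (e : u * g * u = g⁻¹) :
    ∀ c ∈ centralizer ({g} : Set G), u * c * u = c⁻¹ := fun c hc => by
  have ui : u⁻¹ = u := inv_eq_of_mul_eq_one_right uu
  have g1 : g ≠ 1 := fun e => g2 (by simp [e])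
  by_cases hA : InA T g
  · obtain ⟨-, y, hy⟩ := hA
    have x2 : y⁻¹ * g * y * (y⁻¹ * g * y) ≠ 1 := fun e => g2 (by
      have : g * g = y * (y⁻¹ * g * y * (y⁻¹ * g * y)) * y⁻¹ := by group
      rw [this, e]; group)
    have e2 : (y⁻¹ * u * y)⁻¹ * (y⁻¹ * g * y) * (y⁻¹ * u * y) = (y⁻¹ * g * y)⁻¹ := by
      calc _ = y⁻¹ * (u⁻¹ * g * u) * y := by group
        _ = _ := by rw [ui, e]; group
    have hc' : y⁻¹ * c * y ∈ T := h.centT hy x2 (by
      calc _ = y⁻¹ * (g * c) * y := by group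
        _ = _ := by rw [← mem_centralizer_singleton_iff.1 hc]; group)
    rcases h.memH.1 (h.tiT hy (fun e => x2 (by rw [e, mul_one])) (e2 ▸ inv_mem hy)) with e3 | e3
    · rw [mul_assoc, ← h.Tcomm e3 hy, inv_mul_cancel_left] at e2
      exact absurd (by nth_rewrite 1 [e2]; exact inv_mul_cancel _) x2
    · calc u * c * u = y * (y⁻¹ * u * y * (y⁻¹ * c * y) * (y⁻¹ * u * y)) * y⁻¹ := by group
        _ = _ := by rw [(h.outer e3).2 _ hc']; group
  · refine inv_of_fpf uu (fun c hc => mem_centralizer_singleton_iff.2 ?_) (fun c hc e => by_contra fun c1 =>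
      hA (h.inA_of_comm (h.inA_of_comm (h.inA_invol uu u1) e.symm c1)
        (mem_centralizer_singleton_iff.1 hc) g1)) hc
    have e2 : u * g⁻¹ * u = g := by rw [← e, ← mul_assoc, ← mul_assoc, uu, one_mul, mul_assoc, uu, mul_one]
    have c2 : Commute c g⁻¹ := Commute.inv_right (mem_centralizer_singleton_iff.1 hc)
    calc u * c * u * g = u * c * (u * u) * g⁻¹ * u := by nth_rewrite 1 [← e2]; group
      _ = u * (c * g⁻¹) * u := by rw [uu]; group
      _ = u * g⁻¹ * (u * u) * c * u := by rw [c2.eq, uu]; group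
      _ = _ := by rw [show u * g⁻¹ * (u * u) * c * u = u * g⁻¹ * u * (u * c * u) by group, e2]

theorem comm_sr {g a b : G} (g2 : g * g ≠ 1) (hg : SR g) (ha : a ∈ centralizer ({g} : Set G))
    (hb : b ∈ centralizer ({g} : Set G)) : a * b = b * a := by
  obtain ⟨u, uu, u1, e⟩ := hg
  exact comm_of_inv uu (h.inv_cent g2 uu u1 e) ha hb

theorem real_count (hk : Nat.card T = 2 * k) {q k' p c : ℕ} (hp : p.Prime) (hpk : p.Coprime (2 * k))
    (hq : (q = 4 * k + 1 ∧ k' = 2 * k + 1 ∧ c = q) ∨ (q + 1 = 4 * k ∧ k' + 1 = 2 * k ∧ c = 0))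
    (hG : Nat.card G = 4 * k * k' * q) (hC : ∀ x : G, p ∣ orderOf x → IsPGroup p (centralizer ({x} : Set G)))
    (hC2 : ∀ x : G, p ∣ orderOf x → SR x → Nat.card (centralizer ({x} : Set G)) ≤ c)
    (hC3 : ∀ x : G, x ≠ 1 → ¬ InA T x → ¬ p ∣ orderOf x → Nat.card (centralizer ({x} : Set G)) ≤ k')
    (hZ : {x : G | p ∣ orderOf x}.ncard + 1 = q ^ 2) {x : G} (x1 : x ≠ 1) (hx : ¬ p ∣ orderOf x) : SR x := by
  classical
  have := Fintype.ofFinite G
  have := Fact.mk hp
  let J := Char.Pair.DD 2 G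
  let n : G → ℕ := fun g => #{a ∈ J | a * g ∈ J}
  have inv : ∀ {g a}, a ∈ {a ∈ J | a * g ∈ J} → a * g * a = g⁻¹ := fun {g a} ha =>
    eq_inv_of_mul_eq_one_left (by rw [mul_assoc]; exact (mem_DD2.1 (mem_filter.1 ha).2).1)
  have sr : ∀ g, ¬ SR g → n g = 0 := fun g hg => card_eq_zero.2 (eq_empty_of_forall_notMem fun a ha =>
    hg ⟨a, (mem_DD2.1 (mem_filter.1 ha).1).1, (mem_DD2.1 (mem_filter.1 ha).1).2, inv ha⟩)
  have le : ∀ (g : G) (H : Subgroup G) (f : G → G), Function.Injective f →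
      (∀ a ∈ {a ∈ J | a * g ∈ J}, f a ∈ H) → n g ≤ Nat.card H := fun g H f hf hH => by
    rw [Nat.card_eq_fintype_card, Fintype.card_subtype]
    exact card_le_card_of_injOn f (fun a ha => by simpa using hH a ha) hf.injOn
  have leC : ∀ g, n g ≤ Nat.card (centralizer ({g} : Set G)) := fun g => by
    rcases ({a ∈ J | a * g ∈ J} : Finset G).eq_empty_or_nonempty with e | ⟨b, hb⟩
    · simp only [n, e]; exact Nat.zero_le _
    refine le g _ (b⁻¹ * ·) (mul_right_injective _) fun a ha => mem_centralizer_singleton_iff.2 ?_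
    have b2 := (mem_DD2.1 (mem_filter.1 hb).1).1
    have a2 := (mem_DD2.1 (mem_filter.1 ha).1).1
    calc b⁻¹ * a * g = b⁻¹ * (a * g * a) * a := by rw [mul_assoc, mul_assoc, mul_assoc, mul_assoc, a2, mul_one]
      _ = g * (b * b) * b⁻¹ * a := by rw [inv ha, ← inv hb]; group
      _ = _ := by rw [b2]; group
  have hN : #J = (centralizer ({t} : Set G)).index := h.card_DD
  have tot : ∑ g, n g = #J * #J := by
    simp only [n, card_filter]
    rw [sum_comm, ← smul_eq_mul, ← sum_const]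
    refine sum_congr rfl fun a _ => ?_
    rw [← card_filter]
    exact card_bij' (fun g _ => a * g) (fun b _ => a⁻¹ * b) (fun g hg => (mem_filter.1 hg).2)
      (fun b hb => by simpa using hb) (fun _ _ => by simp) (fun _ _ => by simp)
  have hA := h.card_A hk
  have hG' := (centralizer ({t} : Set G)).index_mul_card
  rw [h.cardH hk, hG] at hG'
  have k0 : 0 < k := by have := Nat.card_pos (α := T); omega
  rw [← hN] at hA hG'
  have hJ : #J = k' * q := Nat.eq_of_mul_eq_mul_left (show 0 < 4 * k by omega) (by linear_combination hG')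
  have pA : ∀ g, InA T g → ¬ p ∣ orderOf g := fun g hg d => by
    obtain ⟨m, hm⟩ := pow_eq_one_of_isPGroup (hC g d) (mem_centralizer_singleton_iff.2 rfl)
    exact h.not_coprime hk hg ((hpk.pow_left m).coprime_dvd_left (orderOf_dvd_of_pow_eq_one hm))
  have p1 : ¬ p ∣ orderOf (1 : G) := by simpa using hp.one_lt.ne'
  by_contra hs
  have nA : ¬ InA T x := fun e => hs (h.sr_of_inA e)
  have := (sum_eq_zero_iff_of_nonneg (s := univ) (f := fun g => (k' : ℤ) + (if g = 1 then (#J - k' : ℤ) else 0) +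
    (if InA T g then 1 else 0) * (2 * k - k' : ℤ) + (if p ∣ orderOf g then 1 else 0) * (c - k' : ℤ) - n g)
    fun g _ => ?_).1 ?_ x (mem_univ _)
  · simp only [if_neg x1, if_neg nA, if_neg hx, sr x hs] at this
    omega
  · by_cases g1 : g = 1
    · have : n g ≤ #J := card_filter_le _ _
      subst g1
      simp only [if_true, if_neg p1, if_neg (fun e : InA T 1 => e.1 rfl)]
      omega
    by_cases gA : InA T g
    · simp only [if_neg g1, if_pos gA, if_neg (pA g gA)]
      obtain ⟨-, y, hy⟩ := gA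
      have := le g T (fun a => y⁻¹ * a * y * s) (fun a b e => by simpa using e) fun a ha => by
        obtain ⟨⟨a2, a1⟩, b2, b1⟩ := (mem_filter.1 ha).imp mem_DD2.1 mem_DD2.1
        have e2 : (y⁻¹ * a * y)⁻¹ * (y⁻¹ * g * y) * (y⁻¹ * a * y) = (y⁻¹ * g * y)⁻¹ := by
          calc _ = y⁻¹ * (a⁻¹ * g * a) * y := by group
            _ = _ := by rw [inv_eq_of_mul_eq_one_right a2, inv ha]; group
        have c1 : ∀ {z : G}, z ≠ 1 → y⁻¹ * z * y ≠ 1 := fun z1 e =>
          z1 (by simpa [mul_assoc] using congrArg (y * · * y⁻¹) e)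
        have c2 : ∀ {z : G}, z * z = 1 → y⁻¹ * z * y * (y⁻¹ * z * y) = 1 := fun {z} e => by
          calc _ = y⁻¹ * (z * z) * y := by group
            _ = 1 := by rw [e]; group
        refine (h.memH.1 (h.tiT hy (c1 g1) (e2 ▸ inv_mem hy))).resolve_left fun e => ?_
        have r1 := (h.invT _ e (c2 a2)).resolve_left (c1 a1)
        have r2 := (h.invT (y⁻¹ * (a * g) * y) (by simpa [mul_assoc] using mul_mem e hy) (c2 b2)).resolve_left (c1 b1)
        exact g1 (by rw [← r1] at r2; simpa using r2)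
      omega
    by_cases gp : p ∣ orderOf g
    · simp only [if_neg g1, if_neg gA, if_pos gp]
      by_cases e : SR g
      · have := (leC g).trans (hC2 g gp e); omega
      · have := sr g e; omega
    · simp only [if_neg g1, if_neg gA, if_neg gp]
      have := (leC g).trans (hC3 g g1 gA gp); omega
  · rw [Set.ncard_eq_toFinset_card', Set.toFinset_setOf] at hA hZ
    simp only [sum_sub_distrib, sum_add_distrib, ← sum_mul, sum_boole, sum_ite_eq', mem_univ, if_true,
      sum_const, card_univ, nsmul_eq_mul, ← Nat.cast_sum, tot, ← Nat.card_eq_fintype_card, hG]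
    generalize #{x : G | p ∣ orderOf x} = z at hZ ⊢
    zify at hA hZ hJ
    rw [eq_sub_of_add_eq hA, eq_sub_of_add_eq hZ]
    push_cast
    rw [hJ]
    rcases hq with ⟨rfl, rfl, rfl⟩ | ⟨e1, e2, rfl⟩
    · push_cast; ring
    · obtain ⟨j, rfl⟩ : ∃ j, k = j + 1 := ⟨k - 1, by omega⟩
      obtain rfl : q = 4 * j + 3 := by omega
      obtain rfl : k' = 2 * j + 1 := by omega
      push_cast; ring

theorem not_dvd_norm {p : ℕ} (hp : p.Prime) (p2 : p ≠ 2)
    (hC : ∀ x : G, p ∣ orderOf x → IsPGroup p (centralizer ({x} : Set G)))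
    (hR : ∀ x : G, x ≠ 1 → ¬ p ∣ orderOf x → SR x) {r : ℕ} (hr : r.Prime) (ne : r ≠ p) {R : Subgroup G}
    (hP : IsPGroup r R) (R1 : R ≠ ⊥) (ho : Odd r) : ¬ p ∣ Nat.card (normalizer (R : Set G)) := fun d => by
  have := Fact.mk hp
  have := Fact.mk hr
  obtain ⟨⟨y, hy⟩, oy⟩ := exists_prime_orderOf_dvd_card' p d
  rw [← orderOf_coe] at oy
  change orderOf y = p at oy
  have pr : ∀ x ∈ R, x ≠ 1 → ¬ p ∣ orderOf x ∧ x * x ≠ 1 := fun x hx x1 => by
    obtain ⟨m, hm⟩ := pow_eq_one_of_isPGroup hP hx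
    have hm := orderOf_dvd_of_pow_eq_one hm
    refine ⟨fun e => ne ((Nat.prime_dvd_prime_iff_eq hp hr).1 (hp.dvd_of_dvd_pow (e.trans hm))).symm, fun e => ?_⟩
    rw [← pow_two] at e
    have := Nat.dvd_gcd hm (orderOf_dvd_of_pow_eq_one e)
    rw [(Nat.coprime_two_right.2 ho.pow).gcd_eq_one, Nat.dvd_one, orderOf_eq_one_iff] at this
    exact x1 this
  obtain ⟨g, ⟨gR, gc⟩, g1⟩ := (bot_or_exists_ne_one _).resolve_left
    (inf_centralizer_ne_bot hP hP le_normalizer R1)
  have cB : ∀ x ∈ R, x ≠ 1 → ∀ a b, a ∈ centralizer ({x} : Set G) → b ∈ centralizer ({x} : Set G) →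
      a * b = b * a := fun x hx x1 a b => h.comm_sr (pr x hx x1).2 (hR x x1 (pr x hx x1).1)
  have yg : y * g * y⁻¹ ∈ R := (mem_normalizer_iff.1 hy g).1 gR
  have nB : ∀ b ∈ centralizer ({g} : Set G), y * b * y⁻¹ ∈ centralizer ({g} : Set G) := fun b hb =>
    mem_centralizer_singleton_iff.2 (cB _ yg (by simpa using g1) _ _ (mem_centralizer_singleton_iff.2 (by
      rw [conj_mul, conj_mul, mem_centralizer_singleton_iff.1 hb]))
      (mem_centralizer_singleton_iff.2 (mem_centralizer_iff.1 gc _ yg).symm))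
  obtain ⟨u, uu, u1, e⟩ := hR g g1 (pr g gR g1).1
  have iu := h.inv_cent (pr g gR g1).2 uu u1 e
  have ui : u⁻¹ = u := inv_eq_of_mul_eq_one_right uu
  have fp : ∀ b ∈ centralizer ({g} : Set G), b * y = y * b → b = 1 := fun b hb e => by
    by_contra b1
    obtain ⟨m, hm⟩ := pow_eq_one_of_isPGroup (hC y oy.symm.dvd) (mem_centralizer_singleton_iff.2 e)
    obtain ⟨j, -, hj⟩ := (Nat.dvd_prime_pow hp).1 (orderOf_dvd_of_pow_eq_one hm)
    obtain ⟨l, hl⟩ := pow_eq_one_of_isPGroup (hC b (hj ▸ dvd_pow_self p fun e => b1 (orderOf_eq_one_iff.1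
      (by rw [hj, e, pow_zero])))) (mem_centralizer_singleton_iff.2 (mem_centralizer_singleton_iff.1 hb).symm)
    obtain ⟨i, -, hi⟩ := (Nat.dvd_prime_pow hp).1 (orderOf_dvd_of_pow_eq_one hl)
    exact (pr g gR g1).1 (hi ▸ dvd_pow_self p fun e => g1 (orderOf_eq_one_iff.1 (by rw [hi, e, pow_zero])))
  let f : centralizer ({g} : Set G) → centralizer ({g} : Set G) := fun b =>
    ⟨b * (y * b * y⁻¹)⁻¹, mul_mem b.2 (inv_mem (nB _ b.2))⟩
  have fi : Function.Injective f := fun a b e => by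
    have e1 : (a : G) * (y * a * y⁻¹)⁻¹ = b * (y * b * y⁻¹)⁻¹ := congrArg Subtype.val e
    refine (Subtype.ext (inv_mul_eq_one.1 (fp _ (mul_mem (inv_mem b.2) a.2) ?_))).symm
    calc (b : G)⁻¹ * a * y = (b : G)⁻¹ * (a * (y * a * y⁻¹)⁻¹) * y * a := by group
      _ = _ := by rw [e1]; group
  have nB' : y⁻¹ * g * y ∈ centralizer ({g} : Set G) := mem_centralizer_singleton_iff.2
    (mem_centralizer_iff.1 gc _ (by simpa using (mem_normalizer_iff.1 (inv_mem hy) g).1 gR))
  obtain ⟨b, hb⟩ := Finite.surjective_of_injective fi ⟨u * (y * u * y⁻¹), mem_centralizer_singleton_iff.2 (by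
    calc u * (y * u * y⁻¹) * g = u * y * (u * (y⁻¹ * g * y) * u) * u⁻¹ * y⁻¹ := by group
      _ = u * g⁻¹ * u * u⁻¹ * y * u⁻¹ * y⁻¹ := by rw [iu _ nB']; group
      _ = _ := by rw [iu _ (inv_mem (mem_centralizer_singleton_iff.2 rfl)), ui]; group)⟩
  have hb : (b : G) * (y * b * y⁻¹)⁻¹ = u * (y * u * y⁻¹) := congrArg Subtype.val hb
  have c : u * b * y = y * (u * b) := by
    calc u * b * y = u * (b * (y * b * y⁻¹)⁻¹) * y * b := by group
      _ = u * u * (y * (u * b)) := by rw [hb]; group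
      _ = _ := by rw [uu, one_mul]
  obtain ⟨m, hm⟩ := pow_eq_one_of_isPGroup (hC y oy.symm.dvd) (mem_centralizer_singleton_iff.2 c)
  have o2 : (u * b) ^ 2 = 1 := by rw [pow_two, ← mul_assoc, iu _ b.2, inv_mul_cancel]
  have := Nat.dvd_gcd (orderOf_dvd_of_pow_eq_one hm) (orderOf_dvd_of_pow_eq_one o2)
  rw [(Nat.coprime_two_right.2 (hp.odd_of_ne_two p2).pow).gcd_eq_one, Nat.dvd_one, orderOf_eq_one_iff] at this
  have ug : u * g = g * u := by
    rw [eq_inv_of_mul_eq_one_left this]; exact mem_centralizer_singleton_iff.1 (inv_mem b.2)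
  rw [ug, mul_assoc, uu, mul_one] at e
  exact (pr g gR g1).2 (by nth_rewrite 1 [e]; exact inv_mul_cancel g)

end GD

end Cfsg.Agent.Lib.CA
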