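/-
General Brauer–Suzuki–Wall, part 6: abelian centralisers; Zassenhaus data without the A-group hypothesis.
-/
import Cfsg.Agent.Lib.CA.GD5
import Cfsg.Agent.Lib.CA.Psl

set_option autoImplicit false
set_option linter.unusedSectionVars false

namespace Cfsg.Agent.Lib.CA

open Subgroup Cfsg.Agent.Lib Cfsg.Agent.Lib.AG Cfsg.Agent.Lib.Core

variable {G : Type*} [Group G] [Finite G] {t s : G} {T : Subgroup G} {k : ℕ}

theorem norm_le_of_pclosed {p : ℕ} [Fact p.Prime] {S : Subgroup G} (hS : IsSyl p S ⊤)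
    (H : ∀ U ≤ S, U ≠ ⊥ → ∃ P, IsSyl p P (normalizer (U : Set G)) ∧
      normalizer (U : Set G) ≤ normalizer (P : Set G)) (U : Subgroup G) :
    U ≤ S → U ≠ ⊥ → normalizer (U : Set G) ≤ normalizer (S : Set G) := by
  induction U using WellFoundedGT.induction with
  | _ U ih =>
  intro hU U1
  rcases hU.eq_or_lt with rfl | lt
  · exact le_rfl
  obtain ⟨P, hP, hN⟩ := H U hU U1
  have l1 : U < P ⊓ S := (lt_inf_normalizer_of_isPGroup hS.isPGroup lt).trans_le (le_inf
    (hP.le_of_le_normalizer' (hS.isPGroup.to_le inf_le_left) inf_le_right (inf_le_right.trans hN)) inf_le_left)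
  have l2 : P ≤ S := by
    by_contra c
    have l3 := lt_inf_normalizer_of_isPGroup hP.isPGroup (inf_lt_left.2 c)
    exact l3.not_ge (le_inf inf_le_left (hS.le_of_le_normalizer' (hP.isPGroup.to_le inf_le_left) le_top
      (inf_le_right.trans (ih _ l1 inf_le_right (ne_bot_of_gt l1)))))
  exact hN.trans (ih P (l1.trans_le inf_le_left) l2 (ne_bot_of_gt (l1.trans_le inf_le_left)))

theorem GD.main (h : GD t s T) (h2 : 2 < Nat.card T) : ∃ p q : ℕ, p.Prime ∧ 3 < q ∧
    (∀ x : G, x ≠ 1 → ¬ p ∣ orderOf x → SR x) ∧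
    ∀ x : G, p ∣ orderOf x → x * x ≠ 1 ∧ ZQ (centralizer {x}) p q := by
  obtain ⟨k, hk⟩ := h.cardT
  obtain ⟨q, k', p, f, hp, hq, hkk, hG, hC, hZ⟩ := h.count hk h2
  have := Fact.mk hp
  have hq2 : 2 * (4 * k * k') + 1 = q ^ 2 := by
    rcases hkk with ⟨e1, e2⟩ | ⟨e1, e2⟩
    · rw [e1, e2]; ring
    · rw [← e1, show q = 2 * k' + 1 by omega]; ring
  have hpq : p ∣ q := hq ▸ dvd_pow_self p (by rintro rfl; rw [pow_zero] at hq; omega)
  have hcop : ¬ p ∣ 4 * k * k' := fun e => hp.one_lt.ne' (Nat.dvd_one.1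
    ((Nat.dvd_add_right (e.mul_left 2)).1 (hq2 ▸ hpq.trans (dvd_pow_self q two_ne_zero))))
  have p2 : p ≠ 2 := by rintro rfl; exact hcop ⟨2 * k * k', by ring⟩
  have hP : ∀ x : G, p ∣ orderOf x → IsPGroup p (centralizer ({x} : Set G)) := fun x hx =>
    IsPGroup.of_card ((hC x hx).trans hq)
  have sq : ∀ x : G, p ∣ orderOf x → x * x ≠ 1 := fun x hx e => p2 ((Nat.prime_dvd_prime_iff_eq hp
    Nat.prime_two).1 (hx.trans (orderOf_dvd_of_pow_eq_one (by rwa [pow_two]))))
  have syl : ∀ x : G, p ∣ orderOf x → IsSyl p (centralizer ({x} : Set G)) ⊤ := fun x hx =>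
    ⟨le_top, hP x hx, fun d => hcop (by
      have := (centralizer ({x} : Set G)).index_mul_card
      rw [hC x hx, hG] at this
      rwa [relIndex_top_right, Nat.eq_of_mul_eq_mul_right (by omega) this] at d)⟩
  have ord : ∀ {P : Subgroup G}, IsPGroup p P → ∀ x ∈ P, x ≠ 1 → p ∣ orderOf x := fun hP x hx x1 => by
    obtain ⟨m, hm⟩ := pow_eq_one_of_isPGroup hP hx
    obtain ⟨j, -, hj⟩ := (Nat.dvd_prime_pow hp).1 (orderOf_dvd_of_pow_eq_one hm)
    exact hj ▸ dvd_pow_self p fun e => x1 (orderOf_eq_one_iff.1 (by rw [hj, e, pow_zero]))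
  have ab : ∀ x : G, p ∣ orderOf x → (∀ a ∈ centralizer ({x} : Set G), ∀ b ∈ centralizer ({x} : Set G),
      a * b = b * a) → ∀ x : G, p ∣ orderOf x → ZQ (centralizer {x}) p q := fun x hx e y hy => by
    have hab : ∀ P : Subgroup G, IsPGroup p P → ∀ x ∈ P, ∀ y ∈ P, x * y = y * x := fun P hP a ha b hb => by
      obtain ⟨g, -, hg⟩ := (syl x hx).exists_conj_le hP le_top
      have := e _ (hg (mem_map_of_mem _ ha)) _ (hg (mem_map_of_mem _ hb))
      rw [← map_mul, ← map_mul] at this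
      exact (MulAut.conj g).injective this
    have o := orderOf_pow_orderOf_div (orderOf_pos y).ne' hy
    rw [eq_of_le_of_card_ge (H := centralizer ({y} : Set G)) (K := centralizer {y ^ (orderOf y / p)})
      (fun g hg => mem_centralizer_singleton_iff.2 (Commute.pow_right
        (mem_centralizer_singleton_iff.1 hg) _)) (by rw [hC y hy, hC _ o.symm.dvd])]
    exact zq_of hp hq hG hq2 hC hZ hab o
  have c3 : ∀ x : G, x ≠ 1 → ¬ InA T x → ¬ p ∣ orderOf x → Nat.card (centralizer ({x} : Set G)) ≤ k' :=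
    fun x x1 hA hx => by
    have hc : (Nat.card (centralizer ({x} : Set G))).Coprime (2 * k * (2 * q)) := by
      refine Nat.coprime_of_dvd fun r hr d1 d2 => ?_
      have := Fact.mk hr
      obtain ⟨y, hy⟩ := exists_prime_orderOf_dvd_card' r d1
      rw [← orderOf_coe] at hy
      have nk : ¬ r ∣ 2 * k := fun e => hA (h.inA_of_comm (h.inA_of_prime hk hr e hy.symm.dvd)
        (mem_centralizer_singleton_iff.1 y.2) x1)
      rcases (Nat.Prime.dvd_mul hr).1 (((Nat.Prime.dvd_mul hr).1 d2).resolve_left nk) with e | e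
      · exact nk (e.mul_right k)
      · obtain rfl := (Nat.prime_dvd_prime_iff_eq hr hp).1 (hr.dvd_of_dvd_pow (hq ▸ e))
        exact hx (ord (hP y hy.symm.dvd) x (mem_centralizer_singleton_iff.2
          (mem_centralizer_singleton_iff.1 y.2).symm) x1)
    refine Nat.le_of_dvd (by omega) (hc.dvd_of_dvd_mul_left ?_)
    rw [show 2 * k * (2 * q) * k' = Nat.card G by rw [hG]; ring]
    exact card_subgroup_dvd_card _
  have hpk : p.Coprime (2 * k) := (Nat.Prime.coprime_iff_not_dvd hp).2 fun e =>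
    hcop (e.trans ⟨2 * k', by ring⟩)
  have real : ∀ x : G, x ≠ 1 → ¬ p ∣ orderOf x → SR x := fun x x1 hx => by
    rcases hkk with ⟨e1, e2⟩ | ⟨e1, e2⟩
    · exact h.real_count hk hp hpk (Or.inl ⟨e1, e2, rfl⟩) hG hP (fun x hx _ => (hC x hx).le) c3 hZ x1 hx
    refine h.real_count hk hp hpk (Or.inr ⟨e1, e2, rfl⟩) hG hP (fun x hx hs => ?_) c3 hZ x1 hx
    have z := (ab x hx (fun a ha b hb => h.comm_sr (sq x hx) hs ha hb) x hx).cardN
    obtain ⟨u, uu, u1, e⟩ := hs
    have h1 := Subgroup.orderOf_dvd_natCard _ (mem_normalizer_fintype (S := centralizer ({x} : Set G)) (x := u)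
      fun c hc => by
        rw [inv_eq_of_mul_eq_one_right uu, h.inv_cent (sq x hx) uu u1 e c hc]; exact inv_mem hc)
    rw [orderOf_eq_prime ((pow_two u).trans uu) u1] at h1
    rw [show q ^ 2 = 2 * (2 * (k' * k') + k') + q by rw [show q = 2 * k' + 1 by omega]; ring] at z
    omega
  refine ⟨p, q, hp, by omega, real, fun x hx => ⟨sq x hx, ?_⟩⟩
  by_cases hs : ∃ y : G, p ∣ orderOf y ∧ SR y
  · obtain ⟨y, hy, hs⟩ := hs
    exact ab y hy (fun a ha b hb => h.comm_sr (sq y hy) hs ha hb) x hx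
  refine ab x hx (fun a ha b hb => ?_) x hx
  by_cases a1 : a = 1
  · simp [a1]
  have oa := ord (hP x hx) a ha a1
  have := norm_le_of_pclosed (syl x hx) (fun U hU U1 => pclosed
    (fun r hr ne R hR R1 ho => h.not_dvd_norm hp p2 hP real hr ne hR R1 ho) _ _ rfl ?_) (zpowers a)
    (zpowers_le.2 ha) (by simpa using a1)
  · have e := (syl a oa).eq_of_le (hP x hx) ((syl x hx).le_of_le_normalizer' (hP a oa) le_top
      (le_trans (fun g hg => mem_normalizer_fintype (by
        rintro _ ⟨n, rfl⟩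
        rw [(Commute.zpow_right (mem_centralizer_singleton_iff.1 hg) n).eq, mul_inv_cancel_right]
        exact ⟨n, rfl⟩)) this)) le_top
    exact (mem_centralizer_singleton_iff.1 (e ▸ hb)).symm
  · refine Nat.not_even_iff_odd.1 fun e => hs ?_
    obtain ⟨⟨u, hu⟩, ou⟩ := exists_prime_orderOf_dvd_card' 2 e.two_dvd
    rw [← orderOf_coe, orderOf_eq_prime_iff, pow_two] at ou
    obtain ⟨y, hy, y1⟩ := (bot_or_exists_ne_one U).resolve_left U1
    refine ⟨y, ord (hP x hx) y (hU hy) y1, u, ou.1, ou.2, inv_of_fpf ou.1 (fun c hc => ?_)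
      (fun c hc e => by_contra fun c1 => ?_) hy⟩
    · simpa [inv_eq_of_mul_eq_one_right ou.1] using (mem_normalizer_iff.1 hu c).1 hc
    · exact sq u (ord (hP c (ord (hP x hx) c (hU hc) c1)) u (mem_centralizer_singleton_iff.2 e.symm) ou.2) ou.1

theorem GD.cent_comm (h : GD t s T) (h2 : 2 < Nat.card T) (z a b : G) (hz : z * z ≠ 1) (ha : z * a = a * z)
    (hb : z * b = b * z) : a * b = b * a := by
  obtain ⟨p, q, -, -, h3, h4⟩ := h.main h2
  have ha := mem_centralizer_singleton_iff.2 ha.symm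
  have hb := mem_centralizer_singleton_iff.2 hb.symm
  by_cases e : p ∣ orderOf z
  · exact (h4 z e).2.commQ a ha b hb
  · exact h.comm_sr hz (h3 z (fun e => hz (by simp [e])) e) ha hb

theorem GD.false (h : GD t s T) (h2 : 2 < Nat.card T) (hr : Rad1 G) {x : G}
    (hx : IsCoatom (centralizer ({x} : Set G))) : ¬ Odd (Nat.card (centralizer ({x} : Set G))) := fun ho => by
  obtain ⟨p, q, -, q3, h3, h4⟩ := h.main h2
  have x1 : x ≠ 1 := by rintro rfl; exact hx.1 (by simp [eq_top_iff', mem_centralizer_singleton_iff])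
  have hN : normalizer (centralizer ({x} : Set G) : Set G) = centralizer {x} := by
    refine ((hx.le_iff.1 le_normalizer).resolve_left fun e => x1 ?_)
    exact mem_bot.1 (hr _ (normalizer_eq_top_iff.1 e) (S0205.result ho) ▸ mem_centralizer_singleton_iff.2 rfl)
  by_cases e : p ∣ orderOf x
  · have z := (h4 x e).2
    have := z.cardN
    rw [hN, z.cardQ] at this
    nlinarith
  · obtain ⟨u, uu, u1, e⟩ := h3 x x1 e
    have inv : ∀ u ∈ centralizer ({x} : Set G), u * u = 1 → u = 1 := fun u hu uu => by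
      have := Nat.dvd_gcd (Subgroup.orderOf_dvd_natCard _ hu) (orderOf_dvd_of_pow_eq_one ((pow_two u).trans uu))
      rwa [(Nat.coprime_two_right.2 ho).gcd_eq_one, Nat.dvd_one, orderOf_eq_one_iff] at this
    refine u1 (inv u (hN ▸ mem_normalizer_fintype fun c hc => ?_) uu)
    rw [inv_eq_of_mul_eq_one_right uu, h.inv_cent (fun e => x1 (inv x (mem_centralizer_singleton_iff.2 rfl) e))
      uu u1 e c hc]
    exact inv_mem hc

theorem gd_of_vs {w : G} {K : Subgroup G} (h : VS t s w K) (hK : K ≠ ⊥) :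
    GD t s (K ⊔ zpowers t) ∧ 2 < Nat.card ↥(K ⊔ zpowers t) := by
  have := h.simple
  have k3 := h.three_le hK
  refine ⟨⟨((commutator G).normal_of_characteristic.eq_bot_or_eq_top).resolve_left fun e => ?_, h.tt, h.t1, h.ss,
    h.tT, h.sT, fun _ => h.Tinv, fun _ => h.invT, fun _ => h.memH.1, fun x hx x1 g e => h.tiT hx x1 ?_,
    fun _ => h.invol_conj⟩, by rw [h.cardT]; omega⟩
  · have : w * t * w⁻¹ * t⁻¹ ∈ commutator G := commutator_mem_commutator (mem_top w) (mem_top t)
    rw [e, mem_bot, h.wt, mul_inv_eq_one] at this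
    exact h.ts this.symm
  · rwa [mul_assoc, e, inv_mul_cancel_left]

theorem ag_of_vs {w : G} {K : Subgroup G} (h : VS t s w K) (hK : K ≠ ⊥) : AG G :=
  ag_of_comm h.n8 ((gd_of_vs h hK).1.cent_comm (gd_of_vs h hK).2)

theorem zs0 {w : G} {K : Subgroup G} (h : VS t s w K) (hK : K ≠ ⊥) : ∃ Q D p q j, ZS (G := G) Q D p q j := by
  obtain ⟨Q, D, p, q, j, z, -⟩ := h.zs (ag_of_vs h hK) hK
  exact ⟨Q, D, p, q, j, z⟩

end Cfsg.Agent.Lib.CA
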