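/-
CA-groups (S4369), piece N: centralisers of bad elements have odd order modulo the centre.
-/
import Cfsg.Agent.Lib.CA.SE
import Cfsg.Agent.Lib.CA.N0

set_option autoImplicit false

namespace Cfsg.Agent.Lib.CA

open Subgroup Cfsg.Agent.Lib.Core Cfsg.Agent.Lib.AG

variable {G X : Type*} [Group G] [Group X] {π : G →* X} [Finite G] [Finite X]

theorem MQ.not_na (h : MQ π) (hn : NB2 G) {c : G} (c1 : c ∉ center G) : ¬ NA 2 c := by
  intro hc
  have hb := hc.bad c1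
  obtain ⟨e1, co⟩ := h.cent hb
  refine c1 (h.eq_one.1 (h.rad.se1 (H := centralizer {π c}) (Invol.isStronglyEmbedded_iff.2
    ⟨co.1, ?_, fun u t ht t2 hu => ?_⟩) (mem_C.2 rfl) fun g hg => mem_C.1 hg))
  · obtain ⟨P, hP, l, a, ha, b, hb, ab⟩ := hc
    refine even_iff_two_dvd.2 ((dvd_card_of_isPGroup_of_ne_bot (hP.map π) fun e => ab ?_).trans
      (card_dvd_of_le (e1 ▸ map_mono l)))
    exact mem_center_iff.1 (h.eq_one.1 (mem_bot.1 (e.le (mem_map_of_mem π hb)))) a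
  obtain ⟨g, rfl⟩ := h.surj u
  obtain ⟨s, hs, rfl, k, e⟩ := h.lift2 (e1 ▸ ht) (n := 1) (by rw [pow_one, ← t2, pow_orderOf_eq_one])
  have s1 : g * s * g⁻¹ ∉ center G :=
    conj_not_center (fun e => by rw [h.eq_one.2 e, orderOf_one] at t2; omega) g
  rw [← map_inv, ← map_mul, ← map_mul, e1, h.mem_map center_le_C] at hu
  have e' : (g * s * g⁻¹) ^ 2 ^ k = 1 := by rw [conj_pow, e]; simp
  obtain ⟨D, hD, l⟩ := exists_isSyl_ge (isPGroup_zpowers e') (zpowers_le_of_mem (mem_C.2 rfl) :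
    zpowers (g * s * g⁻¹) ≤ centralizer {g * s * g⁻¹})
  have cm : ∀ y, g * s * g⁻¹ * y = y * (g * s * g⁻¹) → D ≤ centralizer {y} := fun y hy d hd =>
    mem_C.2 (hn.comm e' s1 hy (mem_C.1 (hD.le hd)))
  have := h.toMN.two c1 hc (g := g) (cm c (mem_C.1 hu).symm) (cm _ (by
    rw [conj_mul, conj_mul, mem_C.1 hs])) (fun l2 => s1 (l2 (l (mem_zpowers _))))
    (hD.mono (fun a ha => mem_centralizer_iff.2 fun b hb => mem_C.1 (cm b (mem_C.1 (hD.le hb)) ha))
      fun y hy => mem_C.2 (mem_centralizer_iff.1 hy _ (l (mem_zpowers _))))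
  exact mem_C.2 (by rw [← map_mul, this, map_mul])

theorem MQ.odd (h : MQ π) (hT : ¬ Ab2 G) {x : G} (hx : Bad x) :
    Odd (Nat.card (centralizer ({π x} : Set X))) := by
  have hn := h.nb2 hT
  by_contra ev
  obtain ⟨u, hu⟩ := exists_prime_orderOf_dvd_card' 2 (even_iff_two_dvd.1 (Nat.not_odd_iff_even.1 ev))
  rw [← orderOf_coe] at hu
  obtain ⟨s, hs, su, k, e⟩ := h.lift2 ((h.cent hx).1.le u.2) (n := 1)
    (by rw [pow_one, ← hu, pow_orderOf_eq_one])
  have s1 : s ∉ center G := fun e => by rw [← su, h.eq_one.2 e, orderOf_one] at hu; omega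
  obtain ⟨S, hS, l⟩ := exists_isSyl_ge (isPGroup_zpowers e) (zpowers_le_of_mem hs)
  have sS := l (mem_zpowers s)
  have c : ∀ a ∈ S, ∀ b ∈ S, a * b = b * a := fun a ha b hb => by_contra fun ab =>
    h.not_na hn hx.1 ⟨S, hS.isPGroup, hS.le, a, ha, b, hb, ab⟩
  obtain ⟨n, h1, h2, h3, h4⟩ := exists_sq_top hT hS.isPGroup c
  have xn : x * n ≠ n * x := fun e => h2 ((hS.eq_of_le h4 le_sup_left
    (sup_le hS.le (zpowers_le_of_mem (mem_C.2 e)))).le (mem_sup_right (mem_zpowers n)))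
  have x' : ∀ a ∈ S, n * x * n⁻¹ * a = a * (n * x * n⁻¹) := fun a ha => by
    calc n * x * n⁻¹ * a = n * (x * (n⁻¹ * a * n)) * n⁻¹ := by group
      _ = _ := by rw [mem_C.1 (hS.le (conj_mem_of_mem_normalizer' h1 ha))]; group
  exact h.not_na hn (fun e => xn (h.star' hx e)) ⟨_, h4, sup_le (fun a ha => mem_C.2
    (Commute.mul_left (mem_C.1 (hS.le ha)) (x' a ha))) (zpowers_le_of_mem (mem_C.2 (comm_mul_conj
    (hn.comm e s1 (mem_C.1 hs).symm (x' s sS).symm) (mem_C.1 (hS.le h3)).symm))),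
    s, mem_sup_left sS, n, mem_sup_right (mem_zpowers n),
    fun e' => xn (hn.comm e s1 (mem_C.1 hs).symm e')⟩

end Cfsg.Agent.Lib.CA
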