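/-
CA-groups (S4369), piece N: generalised dihedral centralisers of involutions.
-/
import Cfsg.Agent.Lib.CA.N1
import Cfsg.Agent.Lib.Transfer.Focal
import Cfsg.Agent.Lib.AG.Kn

set_option autoImplicit false

namespace Cfsg.Agent.Lib.CA

open Subgroup Cfsg.Agent.Lib.Core Cfsg.Agent.Lib.AG

variable {G X : Type*} [Group G] [Group X] {π : G →* X}

structure LA (t : X) (A : Subgroup X) : Prop where
  tA : t ∈ A
  comm : ∀ a ∈ A, ∀ b ∈ A, a * b = b * a
  ti : ∀ y ∈ A, y ≠ 1 → ∀ g : X, g * y * g⁻¹ ∈ A → ∀ a ∈ A, g * a * g⁻¹ ∈ A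
  out : ∀ v ∈ A, v * v = 1 → v ≠ 1 → ∀ n : X, v * n = n * v → n ∉ A →
    n * n = 1 ∧ ∀ a ∈ A, n * a * n = a⁻¹

theorem comm_of_exp {H : Subgroup X} (h : ∀ g ∈ H, g * g = 1) {a b : X} (ha : a ∈ H) (hb : b ∈ H) :
    a * b = b * a := by
  rw [← inv_eq_of_mul_eq_one_right (h _ (mul_mem ha hb)), mul_inv_rev,
    inv_eq_of_mul_eq_one_right (h a ha), inv_eq_of_mul_eq_one_right (h b hb)]

theorem LA.idx {t y w m n : X} {A : Subgroup X} (h : LA t A) (hy : y ∈ A) (y2 : y * y ≠ 1)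
    (hw : w ∈ A) (ww : w * w = 1) (w1 : w ≠ 1) (hm : w * m = m * w) (hn : w * n = n * w)
    (mA : m ∉ A) (nA : n ∉ A) : m * n ∈ A := by
  by_contra c
  obtain ⟨mm, mi⟩ := h.out w hw ww w1 m hm mA
  obtain ⟨nn, ni⟩ := h.out w hw ww w1 n hn nA
  obtain ⟨cc, ci⟩ := h.out w hw ww w1 (m * n) (Commute.mul_right hm hn) c
  have e : m * n = n * m := by
    rw [← inv_eq_of_mul_eq_one_right cc, mul_inv_rev, inv_eq_of_mul_eq_one_right mm,
      inv_eq_of_mul_eq_one_right nn]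
  have := ci y hy
  rw [show m * n * y * (m * n) = m * (n * y * n) * m by nth_rewrite 2 [e]; group, ni y hy,
    mi _ (inv_mem hy), inv_inv] at this
  exact y2 (mul_eq_one_iff_eq_inv.2 this)

theorem mem_of_odd_index {L : Subgroup X} [L.Normal] (h : ¬ 2 ∣ L.index) {j : X} (hj : j * j = 1) :
    j ∈ L := by
  obtain ⟨k, hk⟩ : ∃ k, L.index = 2 * k + 1 := ⟨L.index / 2, by omega⟩
  have := pow_index_mem (H := L) j
  rwa [hk, pow_succ, pow_mul, pow_two, hj, one_pow, one_mul] at this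

variable [Finite G] [Finite X]

theorem MQ.la (h : MQ π) (hT : ¬ Ab2 G) {t : X} (tt : t * t = 1) (t1 : t ≠ 1) : ∃ A, LA t A := by
  obtain ⟨s, -, rfl, k, e⟩ := h.lift2 (H := ⊤) (u := t) (by rw [map_top_of_surjective _ h.surj]; trivial)
    (n := 1) (by rw [pow_one, pow_two, tt])
  have s1 : s ∉ center G := fun e => t1 (h.eq_one.2 e)
  have cB : ∀ a ∈ centralizer {s}, ∀ b ∈ centralizer {s}, a * b = b * a := fun a ha b hb =>
    (h.nb2 hT).comm e s1 (mem_C.1 ha) (mem_C.1 hb)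
  have key : ∀ y ∈ centralizer {s}, y ∉ center G → ∀ g, y * g = g * y → g ∈ centralizer {s} :=
    fun y hy y1 g hg => mem_C.2 (by_contra fun n => t1 (eq_one_of_sq (X := centralizer {π y}) (by
      have := Nat.odd_iff.1 (h.odd hT ⟨y1, s, g, (mem_C.1 hy).symm, hg, n⟩); omega)
      (mem_C.2 (by rw [← map_mul, ← mem_C.1 hy, map_mul])) tt))
  have ti : ∀ y ∈ centralizer {s}, y ∉ center G → ∀ g, g * y * g⁻¹ ∈ centralizer {s} →
      ∀ a ∈ centralizer {s}, g * a * g⁻¹ ∈ centralizer {s} := fun y hy y1 g hg a ha =>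
    key _ hg (conj_not_center y1 g) _ (by rw [conj_mul, conj_mul, cB y hy a ha])
  refine ⟨(centralizer {s}).map π, mem_map_of_mem π (mem_C.2 rfl), ?_, ?_, ?_⟩
  · rintro _ ⟨a, ha, rfl⟩ _ ⟨b, hb, rfl⟩
    rw [← map_mul, cB a ha b hb, map_mul]
  · rintro _ ⟨y, hy, rfl⟩ y1 u hu _ ⟨a, ha, rfl⟩
    obtain ⟨g, rfl⟩ := h.surj u
    rw [← map_inv, ← map_mul, ← map_mul, h.mem_map center_le_C] at hu ⊢
    exact ti y hy (fun e => y1 (h.eq_one.2 e)) g hu a ha
  · rintro _ ⟨v, hv, rfl⟩ vv v1 u hu uA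
    obtain ⟨n, rfl⟩ := h.surj u
    rw [h.mem_map center_le_C] at uA
    have vZ : v ∉ center G := fun e => v1 (h.eq_one.2 e)
    have v' : n * v * n⁻¹ ∈ centralizer {s} := (h.mem_map center_le_C).1 (by
      rw [map_mul, map_mul, map_inv, ← hu, mul_inv_cancel_right]; exact mem_map_of_mem π hv)
    have cn : ∀ y ∈ centralizer {s}, y * n = n * y → π y = 1 := fun y hy e =>
      h.eq_one.2 (by_contra fun c => uA (key y hy c n e))
    have n2 : n * n ∈ centralizer {s} := key v hv vZ _ (by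
      have c : v * (n * v * n⁻¹) ∈ center G := h.eq_one.1 (by
        rw [map_mul, map_mul, map_mul, map_inv, ← hu, mul_inv_cancel_right, vv])
      have c1 := mem_center_iff.1 c n
      rw [cB v hv _ v'] at c1
      nth_rewrite 1 [← cB v hv _ v'] at c1
      calc v * (n * n) = n * v⁻¹ * n⁻¹ * (n * v * n⁻¹ * v * n) * n := by group
        _ = n * n * v := by rw [← c1]; group)
    have nn : π n * π n = 1 := by rw [← map_mul, cn _ n2 (mul_assoc _ _ _)]
    refine ⟨nn, ?_⟩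
    rintro _ ⟨a, ha, rfl⟩
    have a' := ti v hv vZ n v' a ha
    have := cn _ (mul_mem ha a') (comm_mul_conj (cB _ ha _ a') (cB _ n2 _ ha))
    rw [map_mul, map_mul, map_mul, map_inv, inv_eq_of_mul_eq_one_right nn] at this
    exact eq_inv_of_mul_eq_one_right this

omit [Finite G] in
theorem Rad1.odd_index (h : Rad1 X) {M : Subgroup X} (hM : IsCoatom M) (ho : Odd (Nat.card M))
    {L : Subgroup X} [hL : L.Normal] (L1 : L ≠ ⊥) : ¬ 2 ∣ L.index := fun e => by
  have o : ¬ 2 ∣ Nat.card M := by have := Nat.odd_iff.1 ho; omega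
  by_cases l : L ≤ M
  · exact L1 (h L hL (solv_of_odd fun d => o (d.trans (card_dvd_of_le l))))
  · rw [← relIndex_top_right, ← hM.2 (M ⊔ L) (left_lt_sup.2 l), relIndex_sup_right] at e
    exact o (e.trans (relIndex_dvd_card L M))

omit [Finite G] in
theorem exists_central {S : Subgroup X} (hS : IsPGroup 2 S) (h : S ≠ ⊥) :
    ∃ z ∈ S, z * z = 1 ∧ z ≠ 1 ∧ S ≤ centralizer {z} := by
  haveI := (nontrivial_iff_ne_bot S).2 h
  haveI := hS.center_nontrivial
  obtain ⟨⟨z, hz⟩, z1⟩ := exists_ne (1 : center S)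
  obtain ⟨k, hk⟩ := pow_eq_one_of_isPGroup hS z.2
  obtain ⟨j, h1, h2⟩ := exists_pow_sq (K := ⊥) (fun e => z1 (Subtype.ext (Subtype.ext (mem_bot.1 e)))) hk
  exact ⟨_, pow_mem z.2 j, mem_bot.1 h2, fun e => h1 (mem_bot.2 e), fun a ha => mem_C.2
    (Commute.pow_left (congrArg Subtype.val (mem_center_iff.1 hz ⟨a, ha⟩)).symm j)⟩

omit [Finite G] in
theorem LA.gd (hr : Rad1 X) (hi : ∀ L : Subgroup X, L.Normal → L ≠ ⊥ → ¬ 2 ∣ L.index) {t a b : X}
    {A S : Subgroup X} (h : LA t A) (tt : t * t = 1) (t1 : t ≠ 1) (hS : IsSyl 2 S ⊤)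
    (St : S ≤ centralizer {t}) (ha : t * a = a * t) (hb : t * b = b * t) (ab : a * b ≠ b * a) :
    ∃ s, GD t s A ∧ 2 < Nat.card A := by
  have out := h.out t h.tA tt t1
  obtain ⟨y, hy, y2⟩ : ∃ y ∈ A, y * y ≠ 1 := by
    by_contra! c
    exact ab (comm_of_exp (H := centralizer {t}) (fun g hg => by_cases (c g) fun n =>
      (out g (mem_C.1 hg) n).1) (mem_C.2 ha) (mem_C.2 hb))
  obtain ⟨m, hm, mA⟩ : ∃ m, t * m = m * t ∧ m ∉ A := by
    by_contra! c
    exact ab (h.comm a (c a ha) b (c b hb))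
  obtain ⟨n, nS, nA⟩ : ∃ n ∈ S, n ∉ A := by
    by_contra! c
    obtain ⟨g, hg, e⟩ := (hS.mono St le_top).exists_conj_le (isPGroup_zpowers (k := 1)
      (by rw [pow_one, pow_two, (out m hm mA).1])) (zpowers_le_of_mem (mem_C.2 hm))
    have := h.ti t h.tA t1 g⁻¹ (by rw [← mem_C.1 (inv_mem hg), mul_inv_cancel_right]; exact h.tA) _
      (c _ (e (conj_mem_map_conj.2 (mem_zpowers m))))
    exact mA (by simpa [mul_assoc] using this)
  have tn := mem_C.1 (St nS)
  obtain ⟨nn, ni⟩ := out n tn nA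
  have idx : ∀ g, t * g = g * t → g ∈ A ∨ g * n ∈ A := fun g hg =>
    or_iff_not_imp_left.2 fun c => h.idx hy y2 h.tA tt t1 hg tn c nA
  have tr : ∀ m ∈ S, m ∉ A → ∃ g, g * m * g⁻¹ ∈ A := fun m hm mA => by
    by_contra! c
    obtain ⟨P, rfl⟩ := hS.exists_sylow_top
    obtain ⟨M, hM, e, -⟩ := Transfer.thompson_transfer P (Q := A) (index_eq_two_iff.2 ⟨⟨n, nS⟩, fun g => by
      by_cases e : (g : X) ∈ A
      · exact .inr ⟨e, fun e' => nA ((A.mul_mem_cancel_left e).1 e')⟩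
      · exact .inl ⟨(idx g (mem_C.1 (St g.2))).resolve_left e, e⟩⟩)
      (by rw [pow_two, (out m (mem_C.1 (St hm)) mA).1]) hm mA c
    exact hi M hM (fun e' => y2 (mem_bot.1 (e'.le (mul_self_mem_of_index_two e y)))) e.symm.dvd
  have uq : ∀ v ∈ A, v * v = 1 → v = 1 ∨ v = t := fun v hv vv => or_iff_not_imp_left.2 fun v1 => by
    obtain ⟨g, hg⟩ := tr n nS nA
    have F : ∀ y ∈ A, y ≠ 1 → g * y * g⁻¹ ∉ A := fun y hy y1 c => nA (by
      simpa [mul_assoc] using h.ti _ c (by simpa using y1) g⁻¹ (by simpa [mul_assoc] using hy) _ hg)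
    have vn : n * v = v * n := by
      rw [← mul_inv_cancel_right (n * v) n, ni v hv, inv_eq_of_mul_eq_one_right vv,
        inv_eq_of_mul_eq_one_right nn]
    have := h.idx hy y2 hg (by rw [conj_mul, nn]; simp) (by simpa using fun e : n = 1 => nA (e ▸ one_mem A))
      (m := g * t * g⁻¹) (n := g * v * g⁻¹) (by rw [conj_mul, conj_mul, tn])
      (by rw [conj_mul, conj_mul, vn]) (F t h.tA t1) (F v hv v1)
    rw [conj_mul] at this
    by_contra c
    exact F _ (mul_mem h.tA hv) (fun e => c (by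
      rw [eq_inv_of_mul_eq_one_right e, inv_eq_of_mul_eq_one_right tt])) this
  have cj : ∀ g j : X, j * j = 1 → j ≠ 1 → g * j * g⁻¹ ∈ A → g * j * g⁻¹ = t := fun g j jj j1 e =>
    (uq _ e (by rw [conj_mul, jj]; simp)).resolve_left (by simpa using j1)
  refine ⟨n, ⟨?_, tt, t1, nn, h.tA, nA, ni, uq, idx, fun x hx x1 g e => ?_, fun j jj j1 => ?_⟩, ?_⟩
  · have L1 : commutator X ≠ ⊥ := fun e => ab (commutatorElement_eq_one_iff_mul_comm.1
      (mem_bot.1 (e.le (commutator_mem_commutator (mem_top a) (mem_top b)))))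
    have iL : ∀ j : X, j * j = 1 → j ∈ commutator X := fun j => mem_of_odd_index (hi _ inferInstance L1)
    have HL : ∀ g, t * g = g * t → g ∈ commutator X := fun g hg => by
      by_cases e : g ∈ A
      · have := mul_mem (iL n nn) (iL _ (out (n * g) (Commute.mul_right tn hg)
          fun c => nA ((A.mul_mem_cancel_right e).1 c)).1)
        rwa [← mul_assoc, nn, one_mul] at this
      · exact iL g (out g hg e).1
    have SL : S ≤ commutator X := fun g hg => HL g (mem_C.1 (St hg))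
    have tS : t ∈ S := hS.le_of_le_normalizer' (isPGroup_zpowers (k := 1) (by rw [pow_one, pow_two, tt]))
      le_top (zpowers_le_of_mem (centralizer_le_normalizer _ (mem_centralizer_iff.2 fun d hd =>
        (mem_C.1 (St hd)).symm))) (mem_zpowers t)
    rw [← (hS.mono SL le_top).frattini_sup le_top le_normalizer_of_normal, left_eq_sup]
    rintro g ⟨-, hg⟩
    by_cases e : g * t * g⁻¹ = t
    · exact HL g (by rw [← e, inv_mul_cancel_right, e])
    have t'S := conj_mem_of_mem_normalizer hg tS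
    have t'A : g * t * g⁻¹ ∉ A := fun c => e (cj g t tt t1 c)
    have ct : ∀ x ∈ S, g * t * g⁻¹ * x = x * (g * t * g⁻¹) := fun x hx => by
      calc g * t * g⁻¹ * x = g * (t * (g⁻¹ * x * g)) * g⁻¹ := by group
        _ = _ := by rw [mem_C.1 (St (conj_mem_of_mem_normalizer' hg hx))]; group
    have c2 : ∀ w : X, w * t * w⁻¹ = g * t * g⁻¹ → t * (w⁻¹ * g) = w⁻¹ * g * t := fun w e => by
      calc t * (w⁻¹ * g) = w⁻¹ * (w * t * w⁻¹) * g := by group
        _ = _ := by rw [e]; group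
    generalize g * t * g⁻¹ = u at *
    obtain ⟨uu, ui⟩ := out u (ct t tS).symm t'A
    have sA : ∀ x ∈ S, x ∈ A → x = 1 ∨ x = t := fun x hx e => uq x e (mul_eq_one_iff_eq_inv.2 (by
      rw [← ui x e, ct x hx, mul_assoc, uu, mul_one]))
    have k : K4 t u := ⟨tt, uu, t1, fun e => t'A (e ▸ one_mem A), Ne.symm e, (ct t tS).symm, fun d => by
      obtain ⟨K, hK⟩ := Sylow.exists_subgroup_card_pow_prime 2 (n := 3) d
      have c1 := hS.card_le (IsPGroup.of_card hK) le_top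
      have c3 : (S : Set X).ncard ≤ ({1, t, u, t * u} : Set X).ncard := Set.ncard_le_ncard fun x hx => by
        by_cases e : x ∈ A
        · rcases sA x hx e with e | e <;> simp [e]
        · rcases sA _ (mul_mem hx t'S) (h.idx hy y2 h.tA tt t1 (mem_C.1 (St hx)) (ct t tS).symm e t'A)
            with e | e <;> rw [← mul_inv_cancel_right x u, e, inv_eq_of_mul_eq_one_right uu] <;> simp
      have : ({1, t, u, t * u} : Set X).ncard ≤ 4 := (Set.ncard_insert_le _ _).trans (Nat.succ_le_succ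
        ((Set.ncard_insert_le _ _).trans (Nat.succ_le_succ ((Set.ncard_insert_le _ _).trans (by simp)))))
      change Nat.card S ≤ _ at c3
      omega⟩
    obtain ⟨w, hw, e1, -⟩ := k.exists_cycle (Vf_le.2 ⟨SL tS, SL t'S⟩) fun c => L1 (hr _ inferInstance c)
    simpa using mul_mem hw (HL _ (c2 w e1))
  · have := cj g t tt t1 (h.ti x hx x1 g (by rwa [← e, mul_inv_cancel_right]) t h.tA)
    rw [← this, inv_mul_cancel_right, this]
  · obtain ⟨g, -, e⟩ := hS.exists_conj_le (isPGroup_zpowers (k := 1) (x := j)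
      (by rw [pow_one, pow_two, jj])) le_top
    have e1 := e (conj_mem_map_conj.2 (mem_zpowers j))
    by_cases c : g * j * g⁻¹ ∈ A
    · exact ⟨g⁻¹, by rw [inv_inv, cj g j jj j1 c]⟩
    · obtain ⟨f, hf⟩ := tr _ e1 c
      exact ⟨(f * g)⁻¹, by rw [inv_inv, cj (f * g) j jj j1 (by simpa [mul_assoc] using hf)]⟩
  · have : ({1, y, y⁻¹} : Set X).ncard ≤ (A : Set X).ncard := Set.ncard_le_ncard (by
      rintro _ (rfl | rfl | rfl)
      exacts [one_mem A, hy, inv_mem hy])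
    have y1 : y ≠ 1 := fun e => y2 (by simp [e])
    rwa [Set.ncard_eq_three.2 ⟨_, _, _, y1.symm, (inv_ne_one.2 y1).symm,
      fun e => y2 (mul_eq_one_iff_eq_inv.2 e), rfl⟩] at this

theorem MQ.gd (h : MQ π) (hT : ¬ Ab2 G) :
    CI X ∨ ∃ (t s : X) (T : Subgroup X), GD t s T ∧ 2 < Nat.card T := by
  refine or_iff_not_imp_left.2 fun c => ?_
  obtain ⟨x, hx⟩ := h.toMN.exists_bad
  have hi : ∀ L : Subgroup X, L.Normal → L ≠ ⊥ → ¬ 2 ∣ L.index := fun L _ =>
    h.rad.odd_index (h.cent hx).2 (h.odd hT hx)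
  simp only [CI, not_forall] at c
  obtain ⟨u, a, b, uu, u1, ha, hb, ab⟩ := c
  obtain ⟨S, hS, l⟩ := exists_isSyl_ge (isPGroup_zpowers (p := 2) (k := 1) (x := u)
    (by rw [pow_one, pow_two, uu])) le_top
  by_cases c : ∀ a ∈ S, ∀ b ∈ S, a * b = b * a
  · obtain ⟨A, hA⟩ := h.la hT uu u1
    exact ⟨u, (hA.gd h.rad hi uu u1 hS (fun g hg => mem_C.2 (c u (l (mem_zpowers u)) g hg)) ha hb ab).imp
      fun _ e => ⟨A, e⟩⟩
  · push Not at c
    obtain ⟨a, ha, b, hb, ab⟩ := c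
    obtain ⟨z, -, zz, z1, l⟩ := exists_central hS.isPGroup fun e => ab (by simp [mem_bot.1 (e.le ha)])
    obtain ⟨A, hA⟩ := h.la hT zz z1
    exact ⟨z, (hA.gd h.rad hi zz z1 hS l (mem_C.1 (l ha)) (mem_C.1 (l hb)) ab).imp fun _ e => ⟨A, e⟩⟩

end Cfsg.Agent.Lib.CA
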