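/-
CA-groups (S4369): subfields; the condition on `q` for a minimal non-CA `PSL₂(q)`.
-/
import Cfsg.Agent.Lib.CA.Conv

set_option autoImplicit false

namespace Cfsg.Agent.Lib.CA

open Subgroup Matrix Cfsg.Agent.Lib.HallPSL

theorem exists_psl_hom {E F : Type*} [Field E] [Field F] (f : E →+* F) :
    ∃ φ : ProjectiveSpecialLinearGroup (Fin 2) E →* ProjectiveSpecialLinearGroup (Fin 2) F,
      Function.Injective φ := by
  have key : ∀ A : SL2 E, pr (SpecialLinearGroup.map f A) = 1 ↔ pr A = 1 := fun A => by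
    have inj : Function.Injective (f.mapMatrix (m := Fin 2)) := Matrix.map_injective f.injective
    rw [pr_eq_one_iff, pr_eq_one_iff, ← inj.eq_iff, ← inj.eq_iff, map_neg, map_one]
    rfl
  refine ⟨QuotientGroup.lift _ (pr.comp (SpecialLinearGroup.map f)) fun A hA =>
    (key A).2 ((QuotientGroup.eq_one_iff A).2 hA), (injective_iff_map_eq_one _).2 fun x hx => ?_⟩
  obtain ⟨A, rfl⟩ := pr_surj x
  exact (key A).1 hx

theorem MN.no_sub {F : Type*} [Field F] [Fintype F]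
    (h : MN (ProjectiveSpecialLinearGroup (Fin 2) F)) {p n m : ℕ} (hp : p.Prime) [CharP F p]
    (hq : Fintype.card F = p ^ n) (h8 : p ^ n % 8 = 3 ∨ p ^ n % 8 = 5) (hm : m ∣ n) (hn : m < n)
    (m8 : p ^ m % 8 = 3 ∨ p ^ m % 8 = 5) : p ^ m ≤ 5 := by
  by_contra m5
  haveI := Fact.mk hp
  have m0 : m ≠ 0 := fun e => by simp [e] at m8
  letI := ZMod.algebra F p
  have hF : Module.finrank (ZMod p) F = n :=
    Nat.pow_right_injective hp.two_le ((FiniteField.pow_finrank_eq_card p F).trans hq)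
  obtain ⟨f⟩ := FiniteField.nonempty_algHom_of_finrank_dvd (F := ZMod p) (K := GaloisField p m)
    (L := F) (by rwa [GaloisField.finrank p m0, hF])
  obtain ⟨φ, hφ⟩ := exists_psl_hom f.toRingHom
  haveI := Fintype.ofFinite (GaloisField p m)
  have hE : Fintype.card (GaloisField p m) = p ^ m := by
    rw [← Nat.card_eq_fintype_card, GaloisField.card p m m0]
  refine psl_nca (hE ▸ m8) (by omega) ((ca_map_iff φ hφ).1 (h.prop _ fun e => ?_))
  have e1 := card_PSL2 (two_ne (F := F) (hq ▸ h8))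
  have e2 := card_PSL2 (two_ne (F := GaloisField p m) (hE ▸ m8))
  have e3 := card_map_of_injective (K := ⊤) hφ
  rw [e, card_top, card_top] at e3
  rw [e3, e2, hE, hq] at e1
  have l1 : p ^ m < p ^ n := Nat.pow_lt_pow_right hp.one_lt hn
  have l2 : (p ^ m) ^ 2 - 1 ≤ (p ^ n) ^ 2 - 1 := Nat.sub_le_sub_right (Nat.pow_le_pow_left l1.le 2) 1
  have l3 : 6 ^ 2 ≤ (p ^ n) ^ 2 := Nat.pow_le_pow_left (by omega) 2
  exact absurd e1 (Nat.mul_lt_mul_of_lt_of_le l1 l2 (by omega)).ne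

/-- the condition on `q` in S4369 -/
theorem MN.cond {F : Type*} [Field F] [Fintype F] (h : MN (ProjectiveSpecialLinearGroup (Fin 2) F))
    (h8 : Fintype.card F % 8 = 3 ∨ Fintype.card F % 8 = 5) (h5 : 5 < Fintype.card F) :
    ((Fintype.card F).Prime ∧ 5 < Fintype.card F ∧ ¬ 16 ∣ Fintype.card F ^ 2 - 1) ∨
      (∃ p : ℕ, p.Prime ∧ p ≠ 2 ∧ (Fintype.card F = 3 ^ p ∨ Fintype.card F = 5 ^ p)) := by
  obtain ⟨p, _, ⟨n, n0⟩, hp, hq⟩ := FiniteField.card' F
  change _ = p ^ n at hq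
  have p2 : p % 2 = 1 := hp.eq_two_or_odd.resolve_left fun e => by
    have : 2 ∣ Fintype.card F := by rw [hq, e]; exact dvd_pow_self 2 n0.ne'
    omega
  have sq : ∀ k, p ^ (2 * k) % 8 = 1 := fun k => by
    have : p % 8 = 1 ∨ p % 8 = 3 ∨ p % 8 = 5 ∨ p % 8 = 7 := by omega
    rw [pow_mul, Nat.pow_mod, Nat.pow_mod p]
    rcases this with e | e | e | e <;> simp [e]
  have od : ∀ m, Odd m → p ^ m % 8 = p % 8 := by
    rintro _ ⟨k, rfl⟩
    rw [pow_succ, Nat.mul_mod, sq]; simp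
  have on : Odd n := by
    rcases Nat.even_or_odd' n with ⟨k, rfl | rfl⟩
    · rw [hq, sq] at h8; omega
    · exact ⟨k, rfl⟩
  have sub : ∀ m, m ∣ n → m < n → p ^ m ≤ 5 := fun m hm hn => h.no_sub hp hq (hq ▸ h8) hm hn (by
    rwa [od m (on.of_dvd_nat hm), ← od n on, ← hq])
  by_cases n1 : n = 1
  · rw [n1, pow_one] at hq
    exact .inl ⟨hq ▸ hp, h5, fun d => not_sixteen h8 (d.mul_left _)⟩
  have pr := Nat.minFac_prime n1
  have r2 : n.minFac ≠ 2 := fun e =>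
    (Nat.not_even_iff_odd.2 on) (even_iff_two_dvd.2 (e ▸ n.minFac_dvd))
  have p5 := sub 1 (one_dvd n) (by omega)
  rw [pow_one] at p5
  rw [hq, od n on] at h8
  have e : n.minFac = n := by
    by_contra c
    have l := sub _ n.minFac_dvd (lt_of_le_of_ne (Nat.minFac_le n0) c)
    have : 3 ^ 2 ≤ p ^ n.minFac :=
      (Nat.pow_le_pow_left (by omega) 2).trans (Nat.pow_le_pow_right hp.pos pr.two_le)
    omega
  rw [e] at pr r2
  refine .inr ⟨n, pr, r2, ?_⟩
  rw [hq]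
  rcases (by omega : p = 3 ∨ p = 5) with e | e <;> simp [e]

/-- S4369 follows from the identification of `G` -/
theorem final_of {G : Type*} [Group G]
    (H : MN G → ∃ (F : Type) (_ : Field F) (_ : Fintype F), 5 < Fintype.card F ∧
      (Fintype.card F % 8 = 3 ∨ Fintype.card F % 8 = 5) ∧
      Nonempty (G ≃* ProjectiveSpecialLinearGroup (Fin 2) F)) :
    (¬ Group.IsSolvable G ∧ ¬ (∀ x : G, x ∉ center G → IsMulCommutative (centralizer ({x} : Set G))) ∧
      ∀ H : Subgroup G, H ≠ ⊤ →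
        (∀ x : H, x ∉ center H → IsMulCommutative (centralizer ({x} : Set H)))) ↔
      ∃ (F : Type) (_ : Field F) (_ : Fintype F),
        Nonempty (G ≃* ProjectiveSpecialLinearGroup (Fin 2) F) ∧
        (((Fintype.card F).Prime ∧ 5 < Fintype.card F ∧ ¬ 16 ∣ Fintype.card F ^ 2 - 1) ∨
         (∃ p : ℕ, p.Prime ∧ p ≠ 2 ∧ (Fintype.card F = 3 ^ p ∨ Fintype.card F = 5 ^ p))) := by
  rw [← mn_iff]
  refine ⟨fun h => ?_, fun ⟨F, _, _, ⟨e⟩, c⟩ => (mn_psl F c).of_equiv e.symm⟩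
  obtain ⟨F, _, _, h5, h8, ⟨e⟩⟩ := H h
  exact ⟨F, _, _, ⟨e⟩, (h.of_equiv e).cond h8 h5⟩

end Cfsg.Agent.Lib.CA
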