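/-
CA-groups (S4369): no central extension.
-/
import Cfsg.Agent.Lib.CA.Bas
import Cfsg.Agent.Lib.AG.Tor
import Cfsg.Agent.Lib.AG.Basic

set_option autoImplicit false
set_option linter.unusedSectionVars false

namespace Cfsg.Agent.Lib.CA

open Subgroup Cfsg.Agent.Lib.Core Cfsg.Agent.Lib.AG
open scoped commutatorElement

open Polynomial in
theorem biadd_one {F A : Type*} [Field F] [Fintype F] [Group A] (hF : 11 ≤ Fintype.card F) (h2 : (2 : F) ≠ 0)
    (B : F → F → A) (l : ∀ a a' b, B (a + a') b = B a b * B a' b) (r : ∀ a b b', B a (b + b') = B a b * B a b')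
    (i : ∀ y a b, y ≠ 0 → B (y ^ 2 * a) (y ^ 2 * b) = B a b) (a b : F) : B a b = 1 := by
  obtain ⟨x, hx⟩ : ∃ x : F, x * (x + 1) * (x - 1) * (x ^ 6 - 2 * x ^ 4 - 2 * x ^ 2 + 1) ≠ 0 := by
    by_contra! e
    refine (show Monic (X ^ 9 - 3 * X ^ 7 + 3 * X ^ 3 - X : F[X]) by monicity!).ne_zero
      (eq_zero_of_natDegree_lt_card_of_eval_eq_zero _ Function.injective_id (fun x => ?_)
        (lt_of_le_of_lt (show _ ≤ 9 by compute_degree) (by omega)))
    simpa using (show x ^ 9 - 3 * x ^ 7 + 3 * x ^ 3 - x = _ by ring).trans (e x)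
  simp only [mul_ne_zero_iff] at hx
  obtain ⟨⟨⟨x0, x1⟩, x2⟩, x3⟩ := hx
  have k : ∀ y b, y ≠ 0 → B a (y⁻¹ ^ 2 * b) = B (y ^ 2 * a) b := fun y b y0 => by
    rw [← i y _ _ y0, ← mul_assoc, ← mul_pow, mul_inv_cancel₀ y0, one_pow, one_mul]
  obtain ⟨c, hc⟩ : ∃ c, b + (x⁻¹ ^ 2 * c + x⁻¹ ^ 2 * c + c + c) = (x + 1)⁻¹ ^ 2 * c + (x - 1)⁻¹ ^ 2 * c :=
    ⟨-b * (x * (x + 1) * (x - 1)) ^ 2 / (2 * (x ^ 6 - 2 * x ^ 4 - 2 * x ^ 2 + 1)), by
      generalize e : x ^ 6 - 2 * x ^ 4 - 2 * x ^ 2 + 1 = P at *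
      field_simp
      rw [← e]; ring⟩
  have := congrArg (B a) hc
  rwa [r, r, r, r, r, k _ _ x0, k _ _ x1, k _ _ x2, ← l, ← l, ← l, ← l,
    show (x + 1) ^ 2 * a + (x - 1) ^ 2 * a = x ^ 2 * a + x ^ 2 * a + a + a by ring, mul_eq_right] at this

variable {G X : Type*} [Group G] [Group X] [Finite G] [Finite X] {π : G →* X}

theorem MQ.cm (h : MQ π) {a a' b b' : G} (ha : π a = π a') (hb : π b = π b') : ⁅a, b⁆ = ⁅a', b'⁆ := by
  obtain ⟨z, rfl⟩ : ∃ z, a = a' * z := ⟨_, (mul_inv_cancel_left _ _).symm⟩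
  obtain ⟨w, rfl⟩ : ∃ w, b = b' * w := ⟨_, (mul_inv_cancel_left _ _).symm⟩
  have hz := mem_center_iff.1 (h.eq_one.1 (by simpa using ha : π z = 1))
  have hw := mem_center_iff.1 (h.eq_one.1 (by simpa using hb : π w = 1))
  rw [commutatorElement_mul_left_eq_conj_mul, commutatorElement_mul_right_eq_mul_conj a',
    commutatorElement_eq_one_iff_mul_comm.2 (hz _).symm, commutatorElement_eq_one_iff_mul_comm.2 (hw _)]
  simp

theorem MQ.comm_iff (h : MQ π) {a a' b b' : G} (ha : π a = π a') (hb : π b = π b') :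
    a * b = b * a ↔ a' * b' = b' * a' := by
  rw [← commutatorElement_eq_one_iff_mul_comm, h.cm ha hb, commutatorElement_eq_one_iff_mul_comm]

theorem MQ.perfect (h : MQ π) [IsSimpleGroup X] : commutator G = ⊤ := by
  have hm : (commutator G).map π = ⊤ := ((commutator_normal ⊤ ⊤).map π h.surj).eq_bot_or_eq_top.resolve_left fun e =>
    top_ne_bot (h.rad ⊤ inferInstance (solv_comm fun a _ b _ => by
      obtain ⟨a, rfl⟩ := h.surj a
      obtain ⟨b, rfl⟩ := h.surj b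
      rw [← commutatorElement_eq_one_iff_mul_comm, ← map_commutatorElement]
      exact mem_bot.1 (e ▸ mem_map_of_mem π (commutator_mem_commutator (mem_top a) (mem_top b)))))
  have ex : ∀ g : G, ∃ g' ∈ commutator G, π g' = π g := fun g => hm.ge (mem_top _)
  refine by_contra fun e => h.nca fun x _ a _ b _ h1 h2 => ?_
  obtain ⟨x', hx, ex'⟩ := ex x
  obtain ⟨a', ha, ea⟩ := ex a
  obtain ⟨b', hb, eb⟩ := ex b
  refine (h.prop _ e x' hx a' ha b' hb ((h.comm_iff ex' ea).2 h1) ((h.comm_iff ex' eb).2 h2)).imp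
    (h.comm_iff ea eb).1 fun k g _ => ?_
  obtain ⟨g', hg, eg⟩ := ex g
  exact (h.comm_iff ex' eg).1 (k g' hg)

theorem MQ.commQ (h : MQ π) {Q D : Subgroup X} {p q : ℕ} {j : X} (hz : ZS Q D p q j) {a b : G} (ha : π a ∈ Q)
    (hb : π b ∈ Q) : a * b = b * a := by
  obtain ⟨F, _, _, x, ψ, hF, c⟩ := hz.coord
  choose σ hσ using h.surj
  have Z : ∀ a b g, g * ⁅σ (x a), σ (x b)⁆ = ⁅σ (x a), σ (x b)⁆ * g := fun a b => mem_center_iff.1 (h.eq_one.1 (by
    rw [map_commutatorElement, hσ, hσ, commutatorElement_eq_one_iff_mul_comm, hz.commQ _ (c.mem a) _ (c.mem b)]))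
  have cD := hz.cardD
  let f : D →* Fˣ := MonoidHom.toHomUnits ⟨⟨fun d => ψ d, c.one⟩, fun d e => c.mul d.2 e.2⟩
  have fi : f.range.index = 2 := by
    have := f.range.card_mul_index
    rw [← Nat.card_congr (f.ofInjective ((injective_iff_map_eq_one f).2 fun d e => Subtype.ext
      (hz.semi d.2 (c.mem 1) (c.ne_one one_ne_zero) (by
        rw [c.cj _ d.2, show ψ d = 1 from congrArg Units.val e, one_mul])))).toEquiv, Nat.card_units,
      Nat.card_eq_fintype_card (α := F), hF, ← cD, Nat.add_sub_cancel, mul_comm] at this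
    exact Nat.eq_of_mul_eq_mul_right Nat.card_pos this
  obtain ⟨a', ea⟩ := c.surj _ ha
  obtain ⟨b', eb⟩ := c.surj _ hb
  rw [← commutatorElement_eq_one_iff_mul_comm, h.cm (ea.symm.trans (hσ _).symm) (eb.symm.trans (hσ _).symm)]
  refine biadd_one (hF ▸ hz.q11) (fun e => ?_) (fun a b => ⁅σ (x a), σ (x b)⁆) (fun a a' b => ?_) (fun a b b' => ?_)
    (fun y a b y0 => ?_) a' b'
  · have := FiniteField.cast_card_eq_zero F
    rw [hF, ← cD] at this
    simp [e] at this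
  · rw [h.cm (a' := σ (x a') * σ (x a)) (by rw [map_mul, hσ, hσ, hσ, add_comm, c.add]) rfl,
      commutatorElement_mul_left_eq_conj_mul, Z a b (σ (x a')), mul_inv_cancel_right]
  · rw [h.cm (b' := σ (x b) * σ (x b')) rfl (by rw [map_mul, hσ, hσ, hσ, c.add]),
      commutatorElement_mul_right_eq_mul_conj, mul_assoc _ (σ _), Z, ← mul_assoc, mul_inv_cancel_right]
  · obtain ⟨d, hd⟩ := sq_mem_of_index_two fi (Units.mk0 y y0)
    have e : ∀ a, π (σ (x (y ^ 2 * a))) = π (σ d * σ (x a) * (σ d)⁻¹) := fun a => by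
      rw [map_mul, map_mul, map_inv, hσ, hσ, hσ, c.cj _ d.2, show ψ d = y ^ 2 from congrArg Units.val hd]
    rw [h.cm (e a) (e b), ← conjugate_commutatorElement, Z, mul_inv_cancel_right]

theorem MQ.ag (h : MQ π) (hT : Ab2 G) {Q D : Subgroup X} {p q : ℕ} {j : X} (hz : ZS Q D p q j) : AG G := by
  intro r hr P hP a ha b hb
  have := Fact.mk hr
  by_cases r2 : r = 2
  · exact hT P (r2 ▸ hP) a ha b hb
  by_cases rp : r = p
  · subst rp
    have hQ : IsPGroup r Q := isPGroup_of_forall_pow fun x hx => ⟨1, by simpa using hz.expQ x hx⟩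
    obtain ⟨S, hS, QS⟩ := exists_isSyl_ge hQ (le_top : Q ≤ ⊤)
    have Q1 : Q ≠ ⊥ := fun e => by have := hz.cardQ; have := hz.q11; rw [e, card_bot] at *; omega
    obtain ⟨u, hu, u1⟩ := (bot_or_exists_ne_one Q).resolve_left Q1
    obtain ⟨z, hz', z1⟩ := (bot_or_exists_ne_one _).resolve_left
      (inf_centralizer_ne_bot hS.isPGroup hS.isPGroup le_normalizer fun e => Q1 (le_bot_iff.1 (e ▸ QS)))
    obtain ⟨g, -, hg⟩ := hS.exists_conj_le (hP.map π) le_top
    obtain ⟨g, rfl⟩ := h.surj g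
    have k : ∀ a ∈ P, π (g * a * g⁻¹) ∈ Q := fun a ha => hz.centQ z (hz.centQ u hu u1 z (hz'.2 u (QS hu))) z1 _ (hz'.2 _ (by
      rw [map_mul, map_mul, map_inv]
      exact hg (conj_mem_map_conj.2 (mem_map_of_mem π ha)))).symm
    have := h.commQ hz (k a ha) (k b hb)
    rwa [conj_mul, conj_mul, mul_left_inj, mul_right_inj] at this
  by_cases P1 : P.map π = ⊥
  · exact (mem_center_iff.1 (h.eq_one.1 (mem_bot.1 (P1 ▸ mem_map_of_mem π ha))) b).symm
  obtain ⟨z, hz', z1⟩ := (bot_or_exists_ne_one _).resolve_left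
    (inf_centralizer_ne_bot (hP.map π) (hP.map π) le_normalizer P1)
  obtain ⟨k, hk⟩ := IsPGroup.iff_orderOf.1 (hP.map π) ⟨z, hz'.1⟩
  obtain ⟨c, hc⟩ := (hz.tor z1 (by
    rw [← orderOf_mk _ hz'.1, hk]
    exact (((Nat.coprime_primes hr Nat.prime_two).2 r2).mul_right ((Nat.coprime_primes hr hz.prime).2 rp)).pow_left _)).1
  obtain ⟨c', hc'⟩ := h.surj c
  have e : ∀ a ∈ P, ∃ n : ℤ, π a = π (c' ^ n) := fun a ha =>
    (hc ⟨π a, mem_centralizer_singleton_iff.2 (hz'.2 _ (mem_map_of_mem π ha))⟩).imp fun n e => by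
      rw [map_zpow, hc']; exact (congrArg Subtype.val e).symm
  obtain ⟨m, em⟩ := e a ha
  obtain ⟨n, en⟩ := e b hb
  exact (h.comm_iff em en).2 (zpow_mul_comm _ _ _)

theorem MQ.z1 (h : MQ π) (hT : Ab2 G) {Q D : Subgroup X} {p q : ℕ} {j : X} (hz : ZS Q D p q j) :
    Function.Injective π := by
  have := hz.simple
  have := (h.ag hT hz).center_inf_commutator_top
  rwa [h.perfect, inf_top_eq, ← h.ker, MonoidHom.ker_eq_bot_iff] at this

end Cfsg.Agent.Lib.CA
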