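/-
CA-groups (S4369): the hard direction.
-/
import Cfsg.Agent.Lib.CA.A3
import Cfsg.Agent.Lib.CA.A4
import Cfsg.Agent.Lib.CA.Bone
import Cfsg.Agent.Lib.CA.GD6
import Cfsg.Agent.Lib.CA.N4
import Cfsg.Agent.Lib.CA.Z1
import Cfsg.Agent.Lib.CA.Sub

set_option autoImplicit false

namespace Cfsg.Agent.Lib.CA

open Subgroup Cfsg.Agent.Lib.AG

theorem MN.psl {G : Type*} [Group G] [Finite G] (h : MN G) : ∃ (F : Type) (_ : Field F) (_ : Fintype F),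
    5 < Fintype.card F ∧ (Fintype.card F % 8 = 3 ∨ Fintype.card F % 8 = 5) ∧
    Nonempty (G ≃* Matrix.ProjectiveSpecialLinearGroup (Fin 2) F) := by
  have m := h.mq
  by_cases hT : Ab2 G
  · have hn : ¬ NB2 G := fun hn => m.not_ci hn (m.ci hT hn)
    obtain ⟨t, s, w, K, B, v, hK, -⟩ := m.vk0 hT hn
    obtain rfl := B_bot' v hK (m.h3 hT v hK)
    obtain ⟨Q, D, p, q, j, z⟩ := zs0 v hK
    obtain ⟨F, _, _, hF, ⟨e⟩⟩ := z.iso
    have := z.q11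
    exact ⟨F, _, _, by omega, hF ▸ z.q8, ⟨(MulEquiv.ofBijective _ ⟨m.z1 hT z, m.surj⟩).trans e⟩⟩
  · obtain ⟨x, hx⟩ := h.exists_bad
    obtain ⟨t, s, T, g, h2⟩ := (m.gd hT).resolve_left (m.not_ci (m.nb2 hT))
    exact absurd (m.odd hT hx) (g.false h2 m.rad (m.cent hx).2)

end Cfsg.Agent.Lib.CA
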